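import Cfsg.Agent.Lib.CyclicDefect.Decomp

/-!
# The principal block and blocks given by a character of the centraliser
-/

set_option autoImplicit false
set_option linter.style.haveILetI false
set_option linter.unusedSectionVars false

noncomputable section

namespace CfsgLib.CyclicDefect

open Cfsg CfsgLib.Characters
open scoped ComplexConjugate Classical

universe u

variable {p : ℕ} [hp : Fact p.Prime] {G : Type u} [Group G] [Fintype G] (L : Loc p G)
  {M : Ideal AlgInt}

theorem Loc.modEq_of_eq {a b K : ℤ} (h : a = b + (p : ℤ) * K) : a ≡ b [ZMOD p] := by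
  rw [Int.modEq_iff_dvd, h]
  exact ⟨-K, by ring⟩

theorem Loc.xi_one_apply_one (θ : IrrCharacter L.O) (lam : L.Dual) :
    (L.xi lam θ : L.C → ℂ) 1 = (θ : L.O → ℂ) 1 := by
  rw [show (1 : L.C) = L.el 0 1 from Subtype.ext (by simp [Loc.el]), L.xi_el, pow_zero, one_mul]

variable [Fintype L.C] [Fintype L.O] [Fintype L.Dual]

theorem Loc.card_idx (θ : IrrCharacter L.O) :
    Fintype.card (L.Idx θ) = (p - 1) / L.eIdx θ :=
  (Nat.div_eq_of_eq_mul_right (L.eIdx_pos θ) (L.eIdx_mul_card θ).symm).symm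

/-- A character of the centraliser trivial on the Sylow subgroup. -/
theorem Loc.exists_xi_one (η : IrrCharacter L.C)
    (h : ∀ c : L.C, (c : G) ∈ (L.P : Subgroup G) → (η : L.C → ℂ) c = (η : L.C → ℂ) 1) :
    ∃ θ : IrrCharacter L.O, η = L.xi 1 θ := by
  obtain ⟨lam, θ, rfl⟩ := L.exists_xi η
  refine ⟨θ, ?_⟩
  suffices hl : lam = 1 by rw [hl]
  refine MonoidHom.ext fun z => ?_
  obtain ⟨i, hi⟩ := mem_powers_iff_mem_zpowers.2
    (show (z : G) ∈ Subgroup.zpowers L.x by rw [L.zpowers]; exact z.2)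
  have hi : L.x ^ i = (z : G) := hi
  have h1 := h (L.el i 1) (by rw [L.coe_el, OneMemClass.coe_one, mul_one, hi]; exact z.2)
  rw [L.xi_el, L.xi_one_apply_one] at h1
  rw [show z = (⟨L.x, L.hxP⟩ : (L.P : Subgroup G)) ^ i from Subtype.ext hi.symm, map_pow,
    MonoidHom.one_apply]
  refine Units.ext ?_
  rw [Units.val_pow_eq_pow_val, Units.val_one]
  exact mul_right_cancel₀ (irr_one_ne_zero θ) (h1.trans (one_mul _).symm)

theorem Loc.eIdx_eq_relIndex (θ : IrrCharacter L.O) :
    L.eIdx θ = L.C.relIndex ((L.stabN θ).map L.N.subtype) :=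
  Subgroup.relIndex_comap L.C L.N.subtype (L.stabN θ)

theorem Loc.mem_stab_xi_iff (θ : IrrCharacter L.O) (g : G) :
    g ∈ (L.stabN θ).map L.N.subtype ↔ g ∈ L.N ∧ ∀ c c' : L.C, (c' : G) = g * c * g⁻¹ →
      (L.xi 1 θ : L.C → ℂ) c' = (L.xi 1 θ : L.C → ℂ) c := by
  constructor
  · rintro ⟨n, hn, rfl⟩
    refine ⟨n.2, fun c c' hc => ?_⟩
    rw [show c' = L.autC n c from Subtype.ext hc, L.xi_autC, L.conjDual_trivial, L.mem_stabN.1 hn]
  · rintro ⟨hg, h⟩
    refine ⟨⟨g, hg⟩, L.mem_stabN.2 (Subtype.ext (funext fun y => ?_)), rfl⟩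
    have h1 := h (L.el 0 y) (L.el 0 (L.aut ⟨g, hg⟩ y)) (by
      rw [L.coe_el, L.coe_el, pow_zero, one_mul, one_mul]
      rfl)
    rw [L.xi_el, L.xi_el, pow_zero, one_mul, one_mul] at h1
    exact h1

theorem Loc.conjIrr_principal (n : L.N) :
    L.conjIrr n (principalIrr L.O) = principalIrr L.O :=
  Subtype.ext (funext fun _ => rfl)

theorem Loc.eIdx_principal : L.eIdx (principalIrr L.O) = L.C.relIndex L.N := by
  have h : L.stabN (principalIrr L.O) = ⊤ :=
    (Subgroup.eq_top_iff' _).2 fun n => L.mem_stabN.2 (L.conjIrr_principal n)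
  rw [Loc.eIdx, h, Subgroup.relIndex_top_right]
  rfl

theorem Loc.wOrb_principal : L.wOrb (principalIrr L.O) = 1 := by
  have h := L.card_C_mul_wOrb (principalIrr L.O)
  rw [L.eIdx_principal] at h
  refine Nat.eq_of_mul_eq_mul_left (L.eIdx_principal ▸ L.eIdx_pos (principalIrr L.O)) ?_
  rw [h, mul_one]

theorem Loc.charDegree_principal : charDegree (principalIrr L.O : L.O → ℂ) = 1 := by
  simp [charDegree, principalIrr]

theorem Loc.indB_principal (hM : IsPModular p M) :
    L.indB hM (principalIrr L.O) = principalBlock M G := by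
  refine Blocks.IsInducedBlock.unique hM (L.indB_spec hM _) ?_
  refine (Blocks.isInducedBlock_principal_iff hM L.C (L.inducedDefined hM _)).2 ?_
  rw [Loc.blk, principalBlock]
  congr 1
  funext c
  obtain ⟨i, -, y, rfl⟩ := L.exists_el c
  rw [L.xi_el, MonoidHom.one_apply, Units.val_one, one_pow, one_mul]
  rfl

theorem Loc.value_principal (hM : IsPModular p M) {χ : IrrCharacter G}
    (hχ : χ ∈ L.indB hM (principalIrr L.O))
    (ht : ∀ lam : L.Dual, lam ≠ 1 → L.tV χ (principalIrr L.O) lam = 0) {x : G}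
    (hx : x ∈ (L.P : Subgroup G)) (hx1 : x ≠ 1) {y : G} (hy : y ∈ L.C) (hyr : ¬ p ∣ orderOf y) :
    (χ : G → ℂ) (x * y) = (L.eV χ (principalIrr L.O) : ℂ) := by
  rw [← L.zpowers] at hx
  obtain ⟨j, hj⟩ := mem_powers_iff_mem_zpowers.2 hx
  have hj : L.x ^ j = x := hj
  have hjx : L.x ^ (j % p) = x := by
    rw [← hj]
    conv_rhs => rw [← Nat.div_add_mod j p, pow_add, pow_mul, L.x_pow_p, one_pow, one_mul]
  have hj0 : 0 < j % p := Nat.pos_of_ne_zero fun h => hx1 (by rw [← hjx, h, pow_zero])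
  have hjp := Nat.mod_lt j hp.out.pos
  have horb : Finset.univ.filter (fun φ => φ ∈ L.orbit (principalIrr L.O)) =
      {principalIrr L.O} := by
    refine Finset.ext fun φ => ?_
    rw [Finset.mem_filter, Finset.mem_singleton, L.mem_orbit_iff]
    exact ⟨fun ⟨_, n, hn⟩ => hn.trans (L.conjIrr_principal n),
      fun h => ⟨Finset.mem_univ _, 1, h.trans (L.conjIrr_principal 1).symm⟩⟩
  have h := L.value_orbit hM hχ hj0 hjp ⟨y, L.mem_O.2 ⟨hy, hyr⟩⟩
  have h2 := L.sum_dual_conj {χ} (fun _ => 1) (L.mem_orbit_self (principalIrr L.O))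
    (fun lam hlam => by simpa using ht lam hlam) hj0 hjp
  simp only [Finset.sum_singleton, one_mul] at h2
  rw [horb, Finset.sum_singleton, hjx, h2] at h
  rw [h]
  exact mul_one _

end CfsgLib.CyclicDefect
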