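import Cfsg.Agent.Lib.CyclicDefect.Quotient
import Mathlib.FieldTheory.IsAlgClosed.Basic
import Mathlib.LinearAlgebra.FiniteDimensional.Basic
import Mathlib.Algebra.CharP.Algebra
import Mathlib.GroupTheory.OrderOfElement

/-!
# The corner of an irreducible-like module cut out by a matrix unit

A finite group of order prime to `p` acts on a space, the commutant consisting of scalar plus
nilpotent maps only. A system of matrix units is spanned by the elements of a normal subgroup, and
its stabiliser is cyclic over that subgroup. Then a diagonal matrix unit has rank at most one.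
-/

set_option autoImplicit false
set_option linter.style.haveILetI false
set_option linter.unusedSectionVars false

noncomputable section

namespace CfsgLib.CyclicDefect

open Module

variable {p : ℕ} [hp : Fact p.Prime] {k : Type*} [Field k] [IsAlgClosed k] [CharP k p]
  {W : Type*} [AddCommGroup W] [Module k W] [FiniteDimensional k W]
  {Γ : Type*} [Group Γ] [Fintype Γ] (act : Γ →* Module.End k W)

/-- Matrix units adapted to a stabiliser. -/
structure CornerData (act : Γ →* Module.End k W) where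
  d : ℕ
  f : Fin d → Fin d → Module.End k W
  o : Fin d
  mul : ∀ a b c e, f a b * f c e = if b = c then f a e else 0
  O' : Subgroup Γ
  T : Subgroup Γ
  γ₀ : Γ
  hγ₀ : γ₀ ∈ T
  hgen : ∀ n ∈ T, ∃ i : ℕ, ∃ y ∈ O', n = γ₀ ^ i * y
  left : ∀ y ∈ O', act y * f o o ∈ Submodule.span k (Set.range fun x : Fin d × Fin d => f x.1 x.2)
  coef : f o o ∈ Submodule.span k (act '' (O' : Set Γ))
  conj : ∀ n ∈ T, ∀ a b,
    act n⁻¹ * f a b * act n ∈ Submodule.span k (Set.range fun x : Fin d × Fin d => f x.1 x.2)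
  out : ∀ n, n ∉ T → f o o * act n * f o o = 0
  κ : k
  hκ : κ ≠ 0
  avg : f o o * (∑ γ, act γ * f o o * act γ⁻¹) * f o o = κ • f o o

variable {act} (D : CornerData act)

/-- The span of the matrix units. -/
def CornerData.S : Submodule k (Module.End k W) :=
  Submodule.span k (Set.range fun x : Fin D.d × Fin D.d => D.f x.1 x.2)

theorem CornerData.f_mem (a b : Fin D.d) : D.f a b ∈ D.S := Submodule.subset_span ⟨(a, b), rfl⟩

theorem CornerData.mul_mem {X Y : Module.End k W} (hX : X ∈ D.S) (hY : Y ∈ D.S) : X * Y ∈ D.S := by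
  induction hX using Submodule.span_induction with
  | mem x hx =>
    obtain ⟨⟨a, b⟩, rfl⟩ := hx
    induction hY using Submodule.span_induction with
    | mem y hy =>
      obtain ⟨⟨c, e⟩, rfl⟩ := hy
      rw [D.mul]
      split_ifs
      · exact D.f_mem a e
      · exact Submodule.zero_mem _
    | zero => rw [mul_zero]; exact Submodule.zero_mem _
    | add x y _ _ hx hy => rw [mul_add]; exact add_mem hx hy
    | smul c x _ hx => rw [mul_smul_comm]; exact Submodule.smul_mem _ c hx
  | zero => rw [zero_mul]; exact Submodule.zero_mem _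
  | add x y _ _ hx hy => rw [add_mul]; exact add_mem hx hy
  | smul c x _ hx => rw [smul_mul_assoc]; exact Submodule.smul_mem _ c hx

theorem CornerData.corner_scalar {X : Module.End k W} (hX : X ∈ D.S) :
    ∃ a : k, D.f D.o D.o * X * D.f D.o D.o = a • D.f D.o D.o := by
  induction hX using Submodule.span_induction with
  | mem x hx =>
    obtain ⟨⟨a, b⟩, rfl⟩ := hx
    by_cases h : D.o = a ∧ b = D.o
    · exact ⟨1, by rw [D.mul, if_pos h.1, D.mul, if_pos h.2, one_smul]⟩
    · refine ⟨0, ?_⟩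
      rw [D.mul, zero_smul]
      split_ifs with h1
      · rw [D.mul, if_neg fun h2 => h ⟨h1, h2⟩]
      · rw [zero_mul]
  | zero => exact ⟨0, by rw [mul_zero, zero_mul, zero_smul]⟩
  | add x y _ _ hx hy =>
    obtain ⟨a, ha⟩ := hx
    obtain ⟨b, hb⟩ := hy
    exact ⟨a + b, by rw [mul_add, add_mul, ha, hb, add_smul]⟩
  | smul c x _ hx =>
    obtain ⟨a, ha⟩ := hx
    exact ⟨c * a, by rw [mul_smul_comm, smul_mul_assoc, ha, smul_smul]⟩

theorem CornerData.conj_mem {n : Γ} (hn : n ∈ D.T) {X : Module.End k W} (hX : X ∈ D.S) :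
    act n⁻¹ * X * act n ∈ D.S := by
  induction hX using Submodule.span_induction with
  | mem x hx =>
    obtain ⟨⟨a, b⟩, rfl⟩ := hx
    exact D.conj n hn a b
  | zero => rw [mul_zero, zero_mul]; exact Submodule.zero_mem _
  | add x y _ _ hx hy => rw [mul_add, add_mul]; exact add_mem hx hy
  | smul c x _ hx => rw [mul_smul_comm, smul_mul_assoc]; exact Submodule.smul_mem _ c hx

theorem CornerData.ff : D.f D.o D.o * D.f D.o D.o = D.f D.o D.o := by rw [D.mul, if_pos rfl]

omit [Fintype Γ] in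
theorem act_inv (n : Γ) : act n * act n⁻¹ = 1 := by
  rw [← map_mul, mul_inv_cancel, map_one]

/-- The image of the diagonal matrix unit. -/
abbrev CornerData.W₁ : Submodule k W := LinearMap.range (D.f D.o D.o)

/-- The compression to the image. -/
def CornerData.R : Module.End k W →ₗ[k] Module.End k D.W₁ where
  toFun X := (LinearMap.codRestrict D.W₁ (D.f D.o D.o) fun v => ⟨v, rfl⟩).comp (X.comp D.W₁.subtype)
  map_add' X Y := by simp [LinearMap.add_comp, LinearMap.comp_add]
  map_smul' c X := by simp [LinearMap.smul_comp, LinearMap.comp_smul]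

theorem CornerData.R_apply (X : Module.End k W) (v : D.W₁) :
    ((D.R X v : D.W₁) : W) = D.f D.o D.o (X v) := rfl

theorem CornerData.f_fix (v : D.W₁) : D.f D.o D.o (v : W) = v := by
  obtain ⟨w, hw⟩ := v.2
  rw [← hw, ← Module.End.mul_apply, D.ff]

theorem CornerData.R_mul (X Y : Module.End k W) : D.R X * D.R Y = D.R (X * D.f D.o D.o * Y) :=
  LinearMap.ext fun _ => Subtype.ext rfl

theorem CornerData.R_f : D.R (D.f D.o D.o) = 1 :=
  LinearMap.ext fun v => Subtype.ext (by rw [D.R_apply, D.f_fix, D.f_fix]; rfl)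

theorem CornerData.R_one : D.R 1 = 1 :=
  LinearMap.ext fun v => Subtype.ext (by rw [D.R_apply]; exact D.f_fix v)

theorem CornerData.R_corner (X : Module.End k W) :
    D.R (D.f D.o D.o * X * D.f D.o D.o) = D.R X :=
  LinearMap.ext fun v => Subtype.ext (by
    rw [D.R_apply, D.R_apply, Module.End.mul_apply, Module.End.mul_apply, D.f_fix,
      ← Module.End.mul_apply, D.ff])

theorem CornerData.R_scalar {X : Module.End k W} (hX : X ∈ D.S) :
    ∃ a : k, D.R X = algebraMap k _ a := by
  obtain ⟨a, ha⟩ := D.corner_scalar hX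
  exact ⟨a, by rw [← D.R_corner, ha, map_smul, D.R_f, Algebra.algebraMap_eq_smul_one]⟩

/-- For an element of the stabiliser the compressed coset is a line spanned by an invertible map. -/
theorem CornerData.exists_unit [Nontrivial D.W₁] {n : Γ} (hn : n ∈ D.T) :
    ∃ u : Module.End k D.W₁, IsUnit u ∧ (∃ X ∈ D.S, u = D.R (act n * X)) ∧
      ∀ Y ∈ D.S, ∃ a : k, D.R (act n * Y) = a • u := by
  classical
  set o := D.o
  set F := act n⁻¹ * D.f o o * act n with hF
  have hFS : F ∈ D.S := D.conj n hn o o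
  have hFF : F * F = F := by
    rw [hF, show act n⁻¹ * D.f o o * act n * (act n⁻¹ * D.f o o * act n) =
      act n⁻¹ * D.f o o * (act n * act n⁻¹) * D.f o o * act n by simp only [mul_assoc],
      act_inv, mul_one, mul_assoc (act n⁻¹), D.ff]
  have hF0 : F ≠ 0 := fun h => by
    have h1 : D.f o o = 0 := by
      have h2 := congrArg (fun X => act n * X * act n⁻¹) h
      simp only [mul_zero, zero_mul, hF] at h2
      rwa [← mul_assoc, ← mul_assoc, act_inv, one_mul, mul_assoc, act_inv, mul_one] at h2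
    obtain ⟨v, hv⟩ := exists_ne (0 : D.W₁)
    refine hv (Subtype.ext ?_)
    rw [← D.f_fix v, show D.f D.o D.o = 0 from h1]
    rfl
  obtain ⟨c, hc⟩ := (Submodule.mem_span_range_iff_exists_fun k).1 hFS
  obtain ⟨⟨i, j⟩, hij⟩ : ∃ x, c x ≠ 0 := by
    by_contra! h
    exact hF0 (by rw [← hc]; simp [h])
  have hsel : D.f o i * F * D.f j o = c (i, j) • D.f o o := by
    rw [← hc, Finset.mul_sum, Finset.sum_mul, Finset.sum_eq_single (i, j)]
    · rw [mul_smul_comm, smul_mul_assoc, D.mul, if_pos rfl, D.mul, if_pos rfl]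
    · rintro ⟨a, b⟩ - hne
      rw [mul_smul_comm, smul_mul_assoc, D.mul]
      split_ifs with h1
      · rw [D.mul, if_neg fun h2 => hne (Prod.ext h1.symm h2), smul_zero]
      · rw [zero_mul, smul_zero]
    · exact fun h => absurd (Finset.mem_univ _) h
  set w := D.R (D.f o i * act n⁻¹)
  have hw : ∀ Y : Module.End k W, w * D.R (act n * Y) = D.R (D.f o i * F * Y) := fun Y => by
    rw [D.R_mul]
    congr 1
  set u := D.R (act n * (F * D.f j o))
  have hwu : w * u = algebraMap k _ (c (i, j)) := by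
    rw [hw, show D.f o i * F * (F * D.f j o) = D.f o i * (F * F) * D.f j o by simp only [mul_assoc],
      hFF, hsel, map_smul, D.R_f, Algebra.algebraMap_eq_smul_one]
  have hinj : Function.Injective u := by
    intro a b h
    have h1 := congrArg w h
    rw [← Module.End.mul_apply, ← Module.End.mul_apply, hwu, Module.algebraMap_end_apply,
      Module.algebraMap_end_apply] at h1
    exact smul_right_injective _ hij h1
  have hu : IsUnit u := (Module.End.isUnit_iff u).2
    ⟨hinj, LinearMap.surjective_of_injective hinj⟩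
  obtain ⟨u', hu'⟩ := hu.exists_right_inv
  refine ⟨u, hu, ⟨_, D.mul_mem hFS (D.f_mem j o), rfl⟩, fun Y hY => ?_⟩
  obtain ⟨a, ha⟩ := D.R_scalar (D.mul_mem (D.mul_mem (D.f_mem o i) hFS) hY)
  refine ⟨a / c (i, j), ?_⟩
  have h1 : w = c (i, j) • u' := by
    calc w = w * (u * u') := by rw [hu', mul_one]
      _ = c (i, j) • u' := by rw [← mul_assoc, hwu, ← Algebra.smul_def]
  have h2 := (hw Y).trans ha
  rw [h1, smul_mul_assoc, Algebra.algebraMap_eq_smul_one] at h2
  have h3 := congrArg (fun X => u * X) h2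
  simp only [mul_smul_comm, ← mul_assoc, hu', one_mul, mul_one] at h3
  rw [div_eq_inv_mul, mul_smul, ← h3, smul_smul, inv_mul_cancel₀ hij, one_smul]

include D in
/-- **The corner has dimension at most one.** -/
theorem CornerData.finrank_le_one (hΓ : ¬ p ∣ Fintype.card Γ)
    (hsub : ∀ φ : Module.End k W, (∀ γ, act γ * φ = φ * act γ) → ScalarNil φ) :
    finrank k D.W₁ ≤ 1 := by
  classical
  rcases subsingleton_or_nontrivial D.W₁ with h | h
  · rw [Module.finrank_zero_of_subsingleton]; exact Nat.zero_le _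
  obtain ⟨U, hU, ⟨X₀, hX₀, hUX⟩, hline⟩ := D.exists_unit D.hγ₀
  have hpow : ∀ i : ℕ, ∃ X ∈ D.S, U ^ i = D.R (act (D.γ₀ ^ i) * X) := by
    intro i
    induction i with
    | zero => exact ⟨_, D.f_mem D.o D.o, by rw [pow_zero, pow_zero, map_one, one_mul, D.R_f]⟩
    | succ i ih =>
      obtain ⟨X, hX, h⟩ := ih
      refine ⟨_, D.mul_mem (D.conj_mem D.hγ₀ (D.mul_mem hX (D.f_mem D.o D.o))) hX₀, ?_⟩
      rw [pow_succ, h, hUX, D.R_mul, pow_succ, map_mul act]
      congr 1
      conv_rhs => rw [show act (D.γ₀ ^ i) * act D.γ₀ * (act D.γ₀⁻¹ * (X * D.f D.o D.o) * act D.γ₀ * X₀) =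
        act (D.γ₀ ^ i) * (act D.γ₀ * act D.γ₀⁻¹) * (X * D.f D.o D.o) * act D.γ₀ * X₀ by
          simp only [mul_assoc], act_inv, mul_one]
      simp only [mul_assoc]
  have hR : ∀ n, ∃ (a : k) (i : ℕ), D.R (act n) = a • U ^ i := by
    intro n
    by_cases hn : n ∈ D.T
    · obtain ⟨i, y, hy, rfl⟩ := D.hgen n hn
      obtain ⟨v, hv, -, hv'⟩ := D.exists_unit (pow_mem D.hγ₀ i)
      obtain ⟨X, hX, hUi⟩ := hpow i
      obtain ⟨b, hb⟩ := hv' X hX
      obtain ⟨a, ha⟩ := hv' _ (D.left y hy)
      have hb0 : b ≠ 0 := fun hb0 => by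
        rw [hb0, zero_smul, ← hUi] at hb
        exact (hU.pow i).ne_zero hb
      refine ⟨a / b, i, ?_⟩
      rw [hUi, hb, smul_smul, div_mul_cancel₀ _ hb0, ← ha]
      exact LinearMap.ext fun w => Subtype.ext (by
        rw [D.R_apply, D.R_apply, map_mul]
        simp only [Module.End.mul_apply, D.f_fix])
    · refine ⟨0, 0, ?_⟩
      rw [← D.R_corner, D.out n hn, map_zero, zero_smul]
  obtain ⟨r, hr, hr1⟩ : ∃ r, ¬ p ∣ r ∧ D.γ₀ ^ r = 1 :=
    ⟨orderOf D.γ₀, fun h => hΓ (h.trans orderOf_dvd_card), pow_orderOf_eq_one _⟩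
  have hr0 : r ≠ 0 := fun h => hr (h ▸ dvd_zero p)
  obtain ⟨a, ha⟩ : ∃ a : k, U ^ r = algebraMap k _ a := by
    obtain ⟨X, hX, h⟩ := hpow r
    rw [hr1, map_one, one_mul] at h
    rw [h]
    exact D.R_scalar hX
  have ha0 : a ≠ 0 := fun h => (hU.pow r).ne_zero (by rw [ha, h, map_zero])
  obtain ⟨b, hb⟩ := IsAlgClosed.exists_pow_nat_eq a⁻¹ (Nat.pos_of_ne_zero hr0)
  refine finrank_le_one_of_commutant (p := p) (fun _ : Unit => b • U) (fun _ _ => rfl)
    (fun _ => ⟨r, hr, by rw [smul_pow, ha, hb, Algebra.algebraMap_eq_smul_one, smul_smul,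
      inv_mul_cancel₀ ha0, one_smul]⟩) fun φ hφ => ?_
  have hb0 : b ≠ 0 := fun h => by
    rw [h, zero_pow hr0] at hb
    exact inv_ne_zero ha0 hb.symm
  have hφU : Commute U φ := by
    have h1 := hφ ()
    rw [smul_mul_assoc, mul_smul_comm] at h1
    exact smul_right_injective _ hb0 h1
  have hφR : ∀ n, D.R (act n) * φ = φ * D.R (act n) := fun n => by
    obtain ⟨c, i, hc⟩ := hR n
    rw [hc, smul_mul_assoc, mul_smul_comm, (hφU.pow_left i).eq]
  -- average
  let Φ : Module.End k W :=
    D.W₁.subtype.comp (φ.comp (LinearMap.codRestrict D.W₁ (D.f D.o D.o) fun v => ⟨v, rfl⟩))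
  let ψ : Module.End k W := ∑ γ, act γ * Φ * act γ⁻¹
  have hψc : ∀ g, act g * ψ = ψ * act g := fun g => by
    simp only [ψ, Finset.mul_sum, Finset.sum_mul]
    refine Fintype.sum_equiv (Equiv.mulLeft g) _ _ fun γ => ?_
    simp only [Equiv.coe_mulLeft, mul_assoc]
    rw [← map_mul act _ g, mul_inv_rev, inv_mul_cancel_right, ← mul_assoc (act g), ← map_mul]
  have hψf : Commute ψ (D.f D.o D.o) := by
    refine Submodule.span_induction (p := fun X _ => Commute ψ X) ?_ (Commute.zero_right _)
      (fun x y _ _ hx hy => hx.add_right hy) (fun c x _ hx => hx.smul_right c) D.coef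
    rintro _ ⟨y, -, rfl⟩
    exact (hψc y).symm
  have hRψ : D.R ψ = D.κ • φ := by
    have h1 : ∀ γ, D.R (act γ * Φ * act γ⁻¹) = D.R (act γ) * φ * D.R (act γ⁻¹) := fun γ =>
      LinearMap.ext fun v => Subtype.ext rfl
    calc D.R ψ = ∑ γ, D.R (act γ) * φ * D.R (act γ⁻¹) := by
          rw [map_sum]; exact Finset.sum_congr rfl fun γ _ => h1 γ
      _ = φ * ∑ γ, D.R (act γ * D.f D.o D.o * act γ⁻¹) := by
          rw [Finset.mul_sum]
          exact Finset.sum_congr rfl fun γ _ => by rw [hφR, mul_assoc, D.R_mul]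
      _ = D.κ • φ := by
          rw [← map_sum, ← D.R_corner, D.avg, map_smul, D.R_f, mul_smul_comm, mul_one]
  obtain ⟨c, m, hm⟩ := hsub ψ hψc
  set N := ψ - algebraMap k _ c
  have hN : Commute N (D.f D.o D.o) := hψf.sub_left (Algebra.commute_algebraMap_left _ _)
  have hNp : ∀ j : ℕ, D.R N ^ j = D.R (N ^ j) := by
    intro j
    induction j with
    | zero => rw [pow_zero, pow_zero, D.R_one]
    | succ j ih =>
      rw [pow_succ, ih, D.R_mul, pow_succ, (hN.pow_left j).eq, mul_assoc, ← D.R_corner (N ^ j * N)]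
      refine LinearMap.ext fun v => Subtype.ext ?_
      simp only [D.R_apply, Module.End.mul_apply, D.f_fix]
  refine ⟨c / D.κ, m, ?_⟩
  have h2 : D.R N = D.κ • (φ - algebraMap k _ (c / D.κ)) := by
    rw [map_sub, hRψ, Algebra.algebraMap_eq_smul_one, map_smul, D.R_one, smul_sub,
      Algebra.algebraMap_eq_smul_one, smul_smul, mul_div_cancel₀ _ D.hκ]
  have h3 := hNp m
  rw [hm, map_zero, h2, smul_pow] at h3
  exact (smul_eq_zero.1 h3).resolve_left (pow_ne_zero _ D.hκ)

end CfsgLib.CyclicDefect
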