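import Cfsg.Agent.Lib.Blocks.PPart
import Mathlib.GroupTheory.Sylow
import Mathlib.GroupTheory.QuotientGroup.Basic
import Mathlib.RingTheory.AdicCompletion.Basic
import Mathlib.FieldTheory.IsAlgClosed.Basic
import Mathlib.LinearAlgebra.Matrix.Charpoly.Basic
import Mathlib.LinearAlgebra.Eigenspace.Minpoly

/-!
# The transfer step and lifting of idempotents
-/

set_option autoImplicit false
set_option linter.style.haveILetI false
set_option linter.unusedSectionVars false

noncomputable section

namespace CfsgLib.CyclicDefect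

universe u

variable {G : Type u} [Group G] [Finite G] {R : Type*} [Ring R] (ρ : G →* R)

/-- Conjugation through a homomorphism into a ring. -/
def conjBy (g : G) (X : R) : R := ρ g * X * ρ g⁻¹

theorem conjBy_mul (g h : G) (X : R) : conjBy ρ (g * h) X = conjBy ρ g (conjBy ρ h X) := by
  simp only [conjBy, mul_inv_rev, map_mul, mul_assoc]

theorem conjBy_one (X : R) : conjBy ρ 1 X = X := by simp [conjBy]

theorem conjBy_sum {ι : Type*} (g : G) (s : Finset ι) (f : ι → R) :
    conjBy ρ g (∑ i ∈ s, f i) = ∑ i ∈ s, conjBy ρ g (f i) := by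
  simp only [conjBy, Finset.mul_sum, Finset.sum_mul]

theorem conjBy_eq_iff {g : G} {X : R} : conjBy ρ g X = X ↔ ρ g * X = X * ρ g := by
  constructor
  · intro h
    conv_rhs => rw [← h]
    rw [conjBy, mul_assoc _ (ρ g⁻¹), ← map_mul, inv_mul_cancel, map_one, mul_one]
  · intro h
    rw [conjBy, h, mul_assoc, ← map_mul, mul_inv_cancel, map_one, mul_one]

variable {p : ℕ} [hp : Fact p.Prime]

/-- An element of the normaliser of prime order lies in the Sylow subgroup. -/
theorem mem_sylow_of_mem_normalizer (P : Sylow p G) {z : G}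
    (hz : ∃ j : ℕ, orderOf z = p ^ j)
    (hN : z ∈ Subgroup.normalizer ((P : Subgroup G) : Set G)) : z ∈ (P : Subgroup G) := by
  obtain ⟨j, hj⟩ := hz
  have hZ : IsPGroup p (Subgroup.zpowers z) := IsPGroup.of_card (n := j) (by rw [Nat.card_zpowers, hj])
  have h := hZ.inf_normalizer_sylow P
  have hmem : z ∈ Subgroup.zpowers z ⊓ Subgroup.normalizer ((P : Subgroup G) : Set G) :=
    ⟨Subgroup.mem_zpowers z, hN⟩
  exact ((h ▸ hmem : z ∈ Subgroup.zpowers z ⊓ (P : Subgroup G))).2

variable (P : Sylow p G) {x : G} (hx : orderOf x = p) (hxP : x ∈ (P : Subgroup G))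
  (hP : Nat.card P = p)

include hx hxP hP in
theorem zpowers_eq : Subgroup.zpowers x = (P : Subgroup G) := by
  refine Subgroup.eq_of_le_of_card_ge (Subgroup.zpowers_le.2 hxP) ?_
  rw [Nat.card_zpowers, hx, hP]

include hx hxP hP in
theorem mem_normalizer_of_conj {g : G}
    (h : g⁻¹ * x * g ∈ Subgroup.normalizer ((P : Subgroup G) : Set G)) :
    g ∈ Subgroup.normalizer ((P : Subgroup G) : Set G) := by
  have h1 : g⁻¹ * x * g ∈ (P : Subgroup G) := mem_sylow_of_mem_normalizer P ⟨1, by
    rw [pow_one, ← hx]
    simpa using (MulAut.conj g⁻¹).orderOf_eq x⟩ h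
  rw [← inv_mem_iff]
  refine Subgroup.mem_normalizer_fintype fun z hz => ?_
  rw [SetLike.mem_coe, ← zpowers_eq P hx hxP hP] at hz
  obtain ⟨i, rfl⟩ := Subgroup.mem_zpowers_iff.1 hz
  rw [inv_inv, SetLike.mem_coe]
  have h2 := Subgroup.zpow_mem _ h1 i
  rwa [show (g⁻¹ * x * g) ^ i = g⁻¹ * x ^ i * g by
    rw [show g⁻¹ * x * g = MulAut.conj g⁻¹ x by simp, ← map_zpow]; simp] at h2

include hx hxP hP in
/-- **The transfer step**: a map commuting with the normaliser is, up to an orbit sum, a map
commuting with the whole group. -/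
theorem transfer_decomp {X : R}
    (hX : ∀ n ∈ Subgroup.normalizer ((P : Subgroup G) : Set G), ρ n * X = X * ρ n) :
    ∃ Y : R, ∀ g : G, ρ g * (X + ∑ i ∈ Finset.range p, conjBy ρ (x ^ i) Y) =
      (X + ∑ i ∈ Finset.range p, conjBy ρ (x ^ i) Y) * ρ g := by
  classical
  set N := Subgroup.normalizer ((P : Subgroup G) : Set G) with hNdef
  haveI := Fintype.ofFinite (G ⧸ N)
  let F : G ⧸ N → R := fun q => Quotient.liftOn' q (fun g => conjBy ρ g X) fun a b hab => by
    rw [QuotientGroup.leftRel_apply] at hab
    show conjBy ρ a X = conjBy ρ b X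
    conv_rhs => rw [← mul_inv_cancel_left a b, conjBy_mul, (conjBy_eq_iff ρ).2 (hX _ hab)]
  have hF : ∀ g h : G, conjBy ρ g (F h) = F ((g * h : G) : G ⧸ N) := fun g h =>
    (conjBy_mul ρ g h X).symm
  have hT : ∀ g : G, conjBy ρ g (∑ q, F q) = ∑ q, F q := by
    intro g
    rw [conjBy_sum]
    refine Fintype.sum_equiv (MulAction.toPerm g) _ _ fun q => ?_
    induction q using QuotientGroup.induction_on with
    | _ h => exact hF g h
  set one : G ⧸ N := ((1 : G) : G ⧸ N)
  set S := Finset.univ.erase one with hS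
  have hxN : x ∈ N := Subgroup.le_normalizer hxP
  have hxone : x • one = one := by
    show ((x * 1 : G) : G ⧸ N) = ((1 : G) : G ⧸ N)
    rw [QuotientGroup.eq, mul_one, mul_one]
    exact N.inv_mem hxN
  have hfree : ∀ q ∈ S, ∀ i : ℕ, x ^ i • q = q → p ∣ i := by
    intro q hq i hi
    induction q using QuotientGroup.induction_on with
    | _ h =>
      by_contra hni
      refine (Finset.mem_erase.1 hq).1 ?_
      rw [QuotientGroup.eq, mul_one, inv_mem_iff]
      obtain ⟨j, hj⟩ := exists_pow_eq_self_of_coprime (x := x) (n := i)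
        (hx ▸ (Nat.coprime_comm.1 (hp.out.coprime_iff_not_dvd.2 hni)))
      refine mem_normalizer_of_conj P hx hxP hP ?_
      have h1 : h⁻¹ * x ^ i * h ∈ N := by
        have : ((x ^ i * h : G) : G ⧸ N) = (h : G ⧸ N) := hi
        have h2 := QuotientGroup.eq.1 this.symm
        rwa [← mul_assoc] at h2
      have h3 := N.pow_mem h1 j
      rwa [show (h⁻¹ * x ^ i * h) ^ j = h⁻¹ * x * h by
        rw [show h⁻¹ * x ^ i * h = MulAut.conj h⁻¹ (x ^ i) by simp, ← map_pow, hj]; simp] at h3
  -- representatives of the orbits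
  let cls : G ⧸ N → Finset (G ⧸ N) := fun q => (Finset.range p).image fun i => x ^ i • q
  have hxp : x ^ p = 1 := hx ▸ pow_orderOf_eq_one x
  have hmod : ∀ (i : ℕ) (q : G ⧸ N), x ^ i • q = x ^ (i % p) • q := fun i q => by
    conv_lhs => rw [← Nat.div_add_mod i p, pow_add, pow_mul, hxp, one_pow, one_mul]
  have hcls_mem : ∀ (i : ℕ) q, x ^ i • q ∈ cls q := fun i q =>
    Finset.mem_image.2 ⟨i % p, Finset.mem_range.2 (Nat.mod_lt _ hp.out.pos), (hmod i q).symm⟩
  have hcls : ∀ (i : ℕ) q, cls (x ^ i • q) = cls q := by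
    intro i q
    refine Finset.eq_of_subset_of_card_le ?_ ?_
    · intro r hr
      obtain ⟨j, -, rfl⟩ := Finset.mem_image.1 hr
      rw [← mul_smul, ← pow_add]
      exact hcls_mem _ q
    · refine Finset.card_le_card fun r hr => ?_
      obtain ⟨j, hj, rfl⟩ := Finset.mem_image.1 hr
      refine Finset.mem_image.2 ⟨(j + (p - i % p)) % p, Finset.mem_range.2 (Nat.mod_lt _ hp.out.pos), ?_⟩
      have e : j + (p - i % p) + i = j + p * (1 + i / p) := by
        have h1 := Nat.div_add_mod i p
        have h2 := Nat.mod_lt i hp.out.pos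
        rw [mul_add, mul_one]
        omega
      rw [← hmod, ← mul_smul, ← pow_add, e, pow_add, pow_mul, hxp, one_pow, mul_one]
  have hne : ∀ q, (cls q).Nonempty := fun q =>
    ⟨q, by simpa using hcls_mem 0 q⟩
  let rep : Finset (G ⧸ N) → G ⧸ N := fun s => if h : s.Nonempty then h.choose else one
  have hrep : ∀ q, rep (cls q) ∈ cls q := fun q => by
    simp only [rep, dif_pos (hne q)]
    exact (hne q).choose_spec
  refine ⟨∑ q ∈ S.filter (fun q => rep (cls q) = q), F q, fun g => (conjBy_eq_iff ρ).1 ?_⟩
  suffices hsum : ∑ i ∈ Finset.range p, conjBy ρ (x ^ i) (∑ q ∈ S.filter (fun q => rep (cls q) = q), F q)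
      = ∑ q ∈ S, F q by
    have hX1 : X = F one := (conjBy_one ρ X).symm
    rw [hsum, hX1, Finset.add_sum_erase _ _ (Finset.mem_univ one)]
    exact hT g
  have hFx : ∀ (i : ℕ) q, conjBy ρ (x ^ i) (F q) = F (x ^ i • q) := fun i q => by
    induction q using QuotientGroup.induction_on with
    | _ h => exact hF _ h
  simp only [conjBy_sum, hFx]
  rw [← Finset.sum_product']
  refine Finset.sum_bij (fun a _ => x ^ a.1 • a.2) ?_ ?_ ?_ (fun _ _ => rfl)
  · rintro ⟨i, q⟩ h
    obtain ⟨hi, hq⟩ := Finset.mem_product.1 h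
    have hq1 := (Finset.mem_filter.1 hq).1
    refine Finset.mem_erase.2 ⟨fun h1 => (Finset.mem_erase.1 hq1).1 ?_, Finset.mem_univ _⟩
    have hfix : ∀ j : ℕ, x ^ j • one = one := fun j => by
      induction j with
      | zero => rw [pow_zero, one_smul]
      | succ j ih => rw [pow_succ, mul_smul, hxone, ih]
    have h2 := congrArg (fun r => x ^ (p - i) • r) h1
    simp only [← mul_smul, ← pow_add] at h2
    rw [Nat.sub_add_cancel (le_of_lt (Finset.mem_range.1 hi)), hxp, one_smul, hfix] at h2
    exact h2
  · rintro ⟨i, q⟩ h ⟨j, r⟩ h' he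
    obtain ⟨hi, hq⟩ := Finset.mem_product.1 h
    obtain ⟨hj, hr⟩ := Finset.mem_product.1 h'
    simp only at he
    have hcl : cls q = cls r := by rw [← hcls i q, he, hcls j r]
    have hqr : q = r := by
      have hq2 : rep (cls q) = q := (Finset.mem_filter.1 hq).2
      have hr2 : rep (cls r) = r := (Finset.mem_filter.1 hr).2
      rw [← hq2, hcl, hr2]
    subst hqr
    have hi' := Finset.mem_range.1 hi
    have hj' := Finset.mem_range.1 hj
    have h2 := congrArg (fun r => x ^ (p - j) • r) he
    simp only [← mul_smul, ← pow_add] at h2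
    rw [Nat.sub_add_cancel hj'.le, hxp, one_smul] at h2
    obtain ⟨l, hl⟩ := hfree q (Finset.mem_filter.1 hq).1 _ h2
    have : l = 1 := by
      rcases l with _ | _ | l
      · omega
      · rfl
      · have h3 : p * 2 ≤ p * (l + 1 + 1) := Nat.mul_le_mul_left _ (by omega)
        omega
    subst this
    exact Prod.ext (by show i = j; omega) rfl
  · intro q hq
    obtain ⟨i, hi, hir⟩ := Finset.mem_image.1 (hrep q)
    have hrS : rep (cls q) ∈ S := by
      refine Finset.mem_erase.2 ⟨fun h1 => (Finset.mem_erase.1 hq).1 ?_, Finset.mem_univ _⟩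
      have hfix : ∀ j : ℕ, x ^ j • one = one := fun j => by
        induction j with
        | zero => rw [pow_zero, one_smul]
        | succ j ih => rw [pow_succ, mul_smul, hxone, ih]
      rw [← hir] at h1
      have h2 := congrArg (fun r => x ^ (p - i) • r) h1
      simp only [← mul_smul, ← pow_add] at h2
      rwa [Nat.sub_add_cancel (le_of_lt (Finset.mem_range.1 hi)), hxp, one_smul, hfix] at h2
    refine ⟨((p - i) % p, rep (cls q)), Finset.mem_product.2 ⟨Finset.mem_range.2
      (Nat.mod_lt _ hp.out.pos), Finset.mem_filter.2 ⟨hrS, ?_⟩⟩, ?_⟩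
    · rw [← hir, hcls, hir]
    · show x ^ ((p - i) % p) • rep (cls q) = q
      rw [← hmod, ← hir, ← mul_smul, ← pow_add, Nat.sub_add_cancel (le_of_lt (Finset.mem_range.1 hi)),
        hxp, one_smul]

variable {O k : Type*} [CommRing O] [Field k] {ι : Type*} [Fintype ι] [DecidableEq ι]
  {π : O →+* k}

omit hp in
/-- Idempotents lift along an adically complete ring, commuting with whatever the start commutes
with. -/
theorem exists_idempotent_lift [IsAdicComplete (Ideal.span {(p : O)}) O] (E₀ : Matrix ι ι O)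
    (h : ∀ a b, (p : O) ∣ (E₀ * E₀ - E₀) a b) :
    ∃ E : Matrix ι ι O, E * E = E ∧ (∀ a b, (p : O) ∣ (E - E₀) a b) ∧
      ∀ B : Matrix ι ι O, B * E₀ = E₀ * B → B * E = E * B := by
  let step : Matrix ι ι O → Matrix ι ι O := fun e => e + (e * e - e) * (1 - 2 • e)
  let seq : ℕ → Matrix ι ι O := fun n => step^[n] E₀
  have hseq : ∀ n, seq (n + 1) = step (seq n) := fun n => Function.iterate_succ_apply' step n E₀
  let small : ℕ → Matrix ι ι O → Prop := fun n X => ∀ a b, (p : O) ^ n ∣ X a b
  have small_mul : ∀ {m n : ℕ} {X Y : Matrix ι ι O}, small m X → small n Y →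
      small (m + n) (X * Y) := fun {m n X Y} hX hY a b => by
    rw [Matrix.mul_apply, pow_add]
    exact Finset.dvd_sum fun c _ => mul_dvd_mul (hX a c) (hY c b)
  have small_zero : ∀ X, small 0 X := fun X a b => by rw [pow_zero]; exact one_dvd _
  have small_le : ∀ {m n : ℕ} {X}, m ≤ n → small n X → small m X := fun hmn hX a b =>
    (pow_dvd_pow _ hmn).trans (hX a b)
  have hid : ∀ e : Matrix ι ι O, step e * step e - step e =
      (e * e - e) * (e * e - e) * (4 • (e * e - e) - 3 • (1 : Matrix ι ι O)) := fun e => by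
    show (e + (e * e - e) * (1 - 2 • e)) * (e + (e * e - e) * (1 - 2 • e)) -
      (e + (e * e - e) * (1 - 2 • e)) = _
    simp only [mul_add, add_mul, mul_sub, sub_mul, mul_smul_comm, mul_one,
      ← mul_assoc, two_smul]
    noncomm_ring
  have herr : ∀ n, small (n + 1) (seq n * seq n - seq n) := by
    intro n
    induction n with
    | zero => intro a b; rw [zero_add, pow_one]; exact h a b
    | succ n ih =>
      rw [hseq, hid]
      exact small_le (by omega) (small_mul (small_mul ih ih) (small_zero _))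
  have hdiff : ∀ n, small (n + 1) (seq (n + 1) - seq n) := by
    intro n
    rw [hseq]
    show small (n + 1) (seq n + _ - seq n)
    rw [add_sub_cancel_left]
    exact small_le le_rfl (small_mul (m := n + 1) (n := 0) (herr n) (small_zero _))
  have hcau : ∀ m n, m ≤ n → small (m + 1) (seq n - seq m) := by
    intro m n hmn
    induction n, hmn using Nat.le_induction with
    | base => intro a b; simp
    | succ n hn ih =>
      intro a b
      rw [show seq (n + 1) - seq m = (seq (n + 1) - seq n) + (seq n - seq m) by abel, Matrix.add_apply]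
      exact dvd_add ((pow_dvd_pow _ (by omega)).trans (hdiff n a b)) (ih a b)
  have hmemI : ∀ (n : ℕ) (c : O), c ∈ (Ideal.span {(p : O)} ^ n • ⊤ : Submodule O O) ↔ (p : O) ^ n ∣ c := by
    intro n c
    rw [Ideal.span_singleton_pow, smul_eq_mul, Ideal.mul_top, Ideal.mem_span_singleton]
  have hlim : ∀ a b, ∃ L : O, ∀ n, seq n a b ≡ L [SMOD (Ideal.span {(p : O)} ^ n • ⊤ : Submodule O O)] := by
    intro a b
    refine IsPrecomplete.prec IsAdicComplete.toIsPrecomplete (f := fun n => seq n a b) ?_
    intro m n hmn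
    rw [SModEq.sub_mem, hmemI, ← neg_sub, dvd_neg, ← Matrix.sub_apply]
    exact (pow_dvd_pow _ (Nat.le_succ m)).trans (hcau m n hmn a b)
  choose L hL using hlim
  let E : Matrix ι ι O := Matrix.of L
  have happ : ∀ n, small n (E - seq n) := fun n a b => by
    have h1 := hL a b n
    rw [SModEq.sub_mem, hmemI] at h1
    rw [Matrix.sub_apply, ← neg_sub, dvd_neg]
    exact h1
  have hzero : ∀ X : Matrix ι ι O, (∀ n, small n X) → X = 0 := fun X hX => by
    ext a b
    refine IsHausdorff.haus (I := Ideal.span {(p : O)}) IsAdicComplete.toIsHausdorff _ fun n => ?_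
    rw [SModEq.sub_mem, sub_zero, hmemI]
    exact hX n a b
  refine ⟨E, ?_, ?_, ?_⟩
  · rw [← sub_eq_zero]
    refine hzero _ fun n a b => ?_
    rw [show E * E - E = (E - seq n) * E + seq n * (E - seq n) + (seq n * seq n - seq n) +
      (seq n - E) by noncomm_ring]
    simp only [Matrix.add_apply]
    refine dvd_add (dvd_add (dvd_add ?_ ?_) ?_) ?_
    · exact small_le le_rfl (small_mul (happ n) (small_zero _)) a b
    · exact small_le (by omega) (small_mul (small_zero _) (happ n)) a b
    · exact small_le (Nat.le_succ n) (herr n) a b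
    · rw [← neg_sub, Matrix.neg_apply, dvd_neg]
      exact happ n a b
  · intro a b
    rw [show E - E₀ = (E - seq 1) + (seq 1 - seq 0) by rw [show seq 0 = E₀ from rfl]; abel,
      Matrix.add_apply, ← pow_one (p : O)]
    exact dvd_add (happ 1 a b) (hdiff 0 a b)
  · intro B hB
    have hBn : ∀ n, B * seq n = seq n * B := by
      intro n
      induction n with
      | zero => exact hB
      | succ n ih =>
        rw [hseq]
        have h1 : Commute B (seq n) := ih
        exact (h1.add_right (((h1.mul_right h1).sub_right h1).mul_right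
          ((Commute.one_right B).sub_right (h1.smul_right 2)))).eq
    rw [← sub_eq_zero]
    refine hzero _ fun n a b => ?_
    rw [show B * E - E * B = B * (E - seq n) - (E - seq n) * B by
      rw [mul_sub, sub_mul, hBn]; abel, Matrix.sub_apply]
    exact dvd_sub (small_le (by omega) (small_mul (small_zero _) (happ n)) a b)
      (small_le le_rfl (small_mul (happ n) (small_zero _)) a b)

/-- A matrix over an algebraically closed field with no non-trivial idempotent among the
polynomials in it is scalar plus nilpotent. -/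
theorem exists_scalar_nilpotent [IsAlgClosed k] [Nonempty ι] (T : Matrix ι ι k)
    (h : ∀ q : Polynomial k, IsIdempotentElem (Polynomial.aeval T q) →
      Polynomial.aeval T q = 0 ∨ Polynomial.aeval T q = 1) :
    ∃ a : k, IsNilpotent (T - algebraMap k (Matrix ι ι k) a) := by
  obtain ⟨a, ha⟩ := IsAlgClosed.exists_root (minpoly k T)
    (ne_of_gt (minpoly.degree_pos (Algebra.IsIntegral.isIntegral T)))
  obtain ⟨r, hr, hnd⟩ := Polynomial.exists_eq_pow_rootMultiplicity_mul_and_not_dvd (minpoly k T)
    (minpoly.ne_zero (Algebra.IsIntegral.isIntegral T)) a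
  set j := Polynomial.rootMultiplicity a (minpoly k T)
  have hj : 0 < j := (Polynomial.rootMultiplicity_pos (minpoly.ne_zero (Algebra.IsIntegral.isIntegral T))).2 ha
  obtain ⟨u, v, huv⟩ : IsCoprime ((Polynomial.X - Polynomial.C a) ^ j) r :=
    ((Polynomial.irreducible_X_sub_C a).coprime_iff_not_dvd.2 hnd).pow_left
  have h0 : Polynomial.aeval T ((Polynomial.X - Polynomial.C a) ^ j * r) = 0 := by
    rw [← hr, minpoly.aeval]
  have hpow : (T - algebraMap k (Matrix ι ι k) a) ^ j =
      Polynomial.aeval T ((Polynomial.X - Polynomial.C a) ^ j) := by simp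
  have hidem : IsIdempotentElem (Polynomial.aeval T (v * r)) := by
    show Polynomial.aeval T (v * r) * Polynomial.aeval T (v * r) = _
    rw [← map_mul, ← sub_eq_zero, ← map_sub,
      show v * r * (v * r) - v * r = -(u * v) * ((Polynomial.X - Polynomial.C a) ^ j * r) by
        linear_combination (v * r) * huv, map_mul, h0, mul_zero]
  rcases h _ hidem with h1 | h1
  · -- the cofactor would then kill
    exfalso
    have h2 : Polynomial.aeval T r = 0 := by
      have h3 : r = u * ((Polynomial.X - Polynomial.C a) ^ j * r) + r * (v * r) := by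
        linear_combination (-r) * huv
      rw [h3, map_add, map_mul (Polynomial.aeval T) u, map_mul (Polynomial.aeval T) r (v * r), h0,
        h1, mul_zero, mul_zero, add_zero]
    have h4 := minpoly.dvd k T h2
    rw [hr] at h4
    have hr0 : r ≠ 0 := fun hr0 => minpoly.ne_zero (Algebra.IsIntegral.isIntegral T) (by rw [hr, hr0, mul_zero])
    have h5 := Polynomial.natDegree_le_of_dvd h4 hr0
    rw [Polynomial.natDegree_mul (pow_ne_zero _ (Polynomial.X_sub_C_ne_zero a)) hr0,
      Polynomial.natDegree_pow, Polynomial.natDegree_X_sub_C, mul_one] at h5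
    omega
  · refine ⟨a, j, ?_⟩
    rw [hpow]
    calc Polynomial.aeval T ((Polynomial.X - Polynomial.C a) ^ j)
        = Polynomial.aeval T ((Polynomial.X - Polynomial.C a) ^ j) * Polynomial.aeval T (v * r) := by
          rw [h1, mul_one]
      _ = 0 := by rw [← map_mul, mul_left_comm, map_mul, h0, mul_zero]

end CfsgLib.CyclicDefect
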