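import Mathlib.LinearAlgebra.FiniteDimensional.Lemmas
import Mathlib.FieldTheory.IsAlgClosed.Basic
import Mathlib.Algebra.CharP.Algebra
import Mathlib.Algebra.CharP.Lemmas

/-!
# Modules whose commutant is scalar plus nilpotent
-/

set_option autoImplicit false
set_option linter.style.haveILetI false
set_option linter.unusedSectionVars false

noncomputable section

namespace CfsgLib.CyclicDefect

open Module

variable {k : Type*} [Field k] {W : Type*} [AddCommGroup W] [Module k W] [FiniteDimensional k W]

/-- Scalar plus nilpotent. -/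
def ScalarNil (φ : Module.End k W) : Prop := ∃ a : k, IsNilpotent (φ - algebraMap k _ a)

theorem ScalarNil.idem {φ : Module.End k W} (h : ScalarNil φ) (hφ : φ * φ = φ) : φ = 0 ∨ φ = 1 := by
  obtain ⟨a, ha⟩ := h
  by_cases h0 : a = 0
  · left
    subst h0
    obtain ⟨n, hn⟩ := ha
    rw [map_zero, sub_zero] at hn
    have : ∀ m : ℕ, φ ^ (m + 1) = φ := fun m => by
      induction m with
      | zero => rw [pow_one]
      | succ m ih => rw [pow_succ, ih, hφ]
    rcases n with _ | n
    · rw [pow_zero] at hn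
      rw [← mul_one φ, hn, mul_zero]
    · rwa [this] at hn
  · right
    have hu : IsUnit φ := by
      rw [← sub_add_cancel φ (algebraMap k _ a)]
      exact ha.isUnit_add_right_of_commute ((Ne.isUnit h0).map _) (Algebra.commute_algebraMap_right _ _)
    exact (hu.mul_left_cancel (hφ.trans (mul_one φ).symm))

variable {p : ℕ} [Fact p.Prime] [CharP k p]

/-- An element of order prime to `p` which is scalar plus nilpotent is scalar. -/
theorem ScalarNil.eq_scalar {φ : Module.End k W} (h : ScalarNil φ) {r : ℕ} (hr : ¬ p ∣ r)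
    (hφ : φ ^ r = 1) : ∃ a : k, φ = algebraMap k _ a := by
  rcases subsingleton_or_nontrivial (Module.End k W) with hs | hs
  · exact ⟨0, Subsingleton.elim _ _⟩
  haveI : CharP (Module.End k W) p :=
    charP_of_injective_algebraMap (algebraMap k (Module.End k W)).injective p
  obtain ⟨a, n, hn⟩ := h
  refine ⟨a, ?_⟩
  set c : Module.End k W := algebraMap k _ a
  set ν := φ - c with hν
  have hc : Commute φ c := (Algebra.commutes a φ).symm
  -- a power of `p` kills the nilpotent part
  have hp1 := (Fact.out : p.Prime).one_lt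
  have hnp : n ≤ p ^ n := (Nat.lt_pow_self hp1).le
  have hν0 : ν ^ p ^ n = 0 := pow_eq_zero_of_le hnp hn
  have h1 : φ ^ p ^ n = c ^ p ^ n := by
    rw [← sub_eq_zero, ← sub_pow_char_pow_of_commute _ _ hc, hν0]
  have hcop : Nat.Coprime (p ^ n) r :=
    Nat.Coprime.pow_left n (((Fact.out : p.Prime).coprime_iff_not_dvd).2 hr)
  rcases Nat.eq_zero_or_pos r with rfl | hr0
  · exact absurd (dvd_zero p) hr
  by_cases ha0 : a = 0
  · exfalso
    have : c = 0 := by simp [c, ha0]
    rw [this, zero_pow (pow_ne_zero n (Fact.out : p.Prime).ne_zero)] at h1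
    have h2 := congrArg (· ^ p ^ n) hφ
    simp only [one_pow, ← pow_mul] at h2
    rw [mul_comm, pow_mul, h1, zero_pow hr0.ne'] at h2
    exact zero_ne_one h2
  have har : a ^ r = 1 := by
    have h2 : c ^ (p ^ n * r) = 1 := by rw [pow_mul, ← h1, ← pow_mul, mul_comm, pow_mul, hφ, one_pow]
    rw [show c ^ (p ^ n * r) = algebraMap k _ (a ^ (p ^ n * r)) by rw [map_pow]] at h2
    have h3 : a ^ (p ^ n * r) = 1 :=
      (algebraMap k (Module.End k W)).injective (h2.trans (map_one _).symm)
    have h4 : (a ^ r - 1) ^ p ^ n = 0 := by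
      rw [sub_pow_char_pow, one_pow, ← pow_mul, mul_comm, h3, sub_self]
    exact sub_eq_zero.1 (eq_zero_of_pow_eq_zero h4)
  have hcr : c ^ r = 1 := by rw [← map_pow, har, map_one]
  have hord : orderOf (φ, c) ∣ r := orderOf_dvd_of_pow_eq_one (Prod.ext hφ hcr)
  obtain ⟨m, hm⟩ := exists_pow_eq_self_of_coprime (x := (φ, c)) (n := p ^ n)
    (hcop.coprime_dvd_right hord)
  have hm1 : (φ ^ p ^ n) ^ m = φ := congrArg Prod.fst hm
  have hm2 : (c ^ p ^ n) ^ m = c := congrArg Prod.snd hm
  rw [← hm1, h1, hm2]

/-- A space with a commuting family of operators of order prime to `p` whose commutant consists of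
scalar plus nilpotent maps has dimension at most one. -/
theorem finrank_le_one_of_commutant {I : Type*} (act : I → Module.End k W)
    (hcomm : ∀ i j, act i * act j = act j * act i)
    (hord : ∀ i, ∃ r : ℕ, ¬ p ∣ r ∧ act i ^ r = 1)
    (hsub : ∀ φ : Module.End k W, (∀ i, act i * φ = φ * act i) → ScalarNil φ) :
    finrank k W ≤ 1 := by
  have hscal : ∀ i, ∃ a : k, act i = algebraMap k _ a := fun i => by
    obtain ⟨r, hr, hi⟩ := hord i
    exact (hsub _ fun j => hcomm j i).eq_scalar hr hi
  have hall : ∀ φ : Module.End k W, ScalarNil φ := fun φ => hsub φ fun i => by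
    obtain ⟨a, ha⟩ := hscal i
    rw [ha]
    exact Algebra.commutes a φ
  by_contra hlt
  push Not at hlt
  set b := Module.finBasis k W
  let i0 : Fin (finrank k W) := ⟨0, by omega⟩
  let i1 : Fin (finrank k W) := ⟨1, by omega⟩
  let π : Module.End k W := b.constr k fun j => if j = i0 then b j else 0
  have hπ : π * π = π := b.ext fun j => by
    rw [Module.End.mul_apply, Basis.constr_basis]
    split_ifs with h
    · rw [Basis.constr_basis, if_pos h]
    · rw [map_zero]
  rcases (hall π).idem hπ with h | h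
  · have := LinearMap.congr_fun h (b i0)
    rw [Basis.constr_basis, if_pos rfl, LinearMap.zero_apply] at this
    exact b.ne_zero i0 this
  · have := LinearMap.congr_fun h (b i1)
    rw [Basis.constr_basis, if_neg (show i1 ≠ i0 by simp [i0, i1]), Module.End.one_apply] at this
    exact b.ne_zero i1 this.symm

/-- Two subspaces stable under a map. -/
def Stab (P' B' : Submodule k W) (f : Module.End k W) : Prop :=
  (∀ v ∈ P', f v ∈ P') ∧ ∀ v ∈ B', f v ∈ B'

theorem Stab.mul {P' B' : Submodule k W} {f g : Module.End k W} (hf : Stab P' B' f)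
    (hg : Stab P' B' g) : Stab P' B' (f * g) :=
  ⟨fun v hv => hf.1 _ (hg.1 v hv), fun v hv => hf.2 _ (hg.2 v hv)⟩

/-- The induced map on the subquotient. -/
def qmap {P' B' : Submodule k W} (f : Module.End k W) (hf : Stab P' B' f) :
    Module.End k (P' ⧸ B'.comap P'.subtype) :=
  Submodule.mapQ _ _ (f.restrict hf.1) fun _ hv => hf.2 _ hv

theorem qmap_mk {P' B' : Submodule k W} (f : Module.End k W) (hf : Stab P' B' f) (v : P') :
    qmap f hf (Submodule.Quotient.mk v) = Submodule.Quotient.mk ⟨f v, hf.1 v v.2⟩ := rfl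

theorem qmap_congr {P' B' : Submodule k W} {f g : Module.End k W} (hf : Stab P' B' f)
    (hg : Stab P' B' g) (h : ∀ v ∈ P', f v - g v ∈ B') : qmap f hf = qmap g hg :=
  LinearMap.ext fun q => by
    induction q using Submodule.Quotient.induction_on with
    | _ v => exact (Submodule.Quotient.eq _).2 (h v v.2)

theorem qmap_mul {P' B' : Submodule k W} (f g : Module.End k W) (hf : Stab P' B' f)
    (hg : Stab P' B' g) : qmap (f * g) (hf.mul hg) = qmap f hf * qmap g hg :=
  LinearMap.ext fun q => by
    induction q using Submodule.Quotient.induction_on with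
    | _ v => rfl

theorem finrank_subquotient {P' B' : Submodule k W} (h : B' ≤ P') :
    finrank k (P' ⧸ B'.comap P'.subtype) + finrank k B' = finrank k P' := by
  rw [← (Submodule.comapSubtypeEquivOfLe h).finrank_eq]
  exact Submodule.finrank_quotient_add_finrank _

/-- A map on the subquotient comes from a map of the space vanishing on the smaller subspace. -/
theorem exists_extension {P' B' : Submodule k W} (hBP : B' ≤ P')
    (φ : Module.End k (P' ⧸ B'.comap P'.subtype)) :
    ∃ Φ : Module.End k W, (∀ v, Φ v ∈ P') ∧ (∀ v ∈ B', Φ v = 0) ∧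
      ∀ (v : W) (hv : v ∈ P'), ∃ hΦ : Φ v ∈ P',
        φ (Submodule.Quotient.mk ⟨v, hv⟩) = Submodule.Quotient.mk ⟨Φ v, hΦ⟩ := by
  obtain ⟨sect, hsect⟩ := (B'.comap P'.subtype).mkQ.exists_rightInverse_of_surjective
    (LinearMap.range_eq_top.2 (B'.comap P'.subtype).mkQ_surjective)
  obtain ⟨ext, hext⟩ := LinearMap.exists_extend (φ ∘ₗ (B'.comap P'.subtype).mkQ)
  let Φ : Module.End k W := P'.subtype ∘ₗ sect ∘ₗ ext
  have hval : ∀ (v : W) (hv : v ∈ P'), ext v = φ (Submodule.Quotient.mk ⟨v, hv⟩) := fun v hv =>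
    LinearMap.congr_fun hext ⟨v, hv⟩
  refine ⟨Φ, fun v => (sect (ext v)).2, fun v hv => ?_, fun v hv => ⟨(sect (ext v)).2, ?_⟩⟩
  · show ((sect (ext v) : P') : W) = 0
    rw [hval v (hBP hv), (Submodule.Quotient.mk_eq_zero _).2 (show (⟨v, hBP hv⟩ : P') ∈ (B'.comap P'.subtype) from hv),
      map_zero, map_zero]
    rfl
  · rw [← hval v hv]
    exact (LinearMap.congr_fun hsect (ext v)).symm

end CfsgLib.CyclicDefect
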