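import Cfsg.Agent.Lib.CyclicDefect.Lattice
import Cfsg.Agent.Lib.CyclicDefect.Green
import Cfsg.Agent.Lib.CyclicDefect.Quotient
import Cfsg.Agent.Lib.CyclicDefect.Corner
import Mathlib.GroupTheory.SpecificGroups.Cyclic

/-!
# Indecomposable lattices for a Sylow subgroup of prime order

If a lattice over an unramified complete discrete valuation ring has no non-trivial idempotent
endomorphism then the constant value of its character on a `p`-section is `0`, `1` or `-1`.
-/

set_option autoImplicit false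
set_option linter.style.haveILetI false
set_option linter.unusedSectionVars false

noncomputable section

namespace CfsgLib.CyclicDefect

open Module

universe u

/-- The coefficient ring together with its reduction. -/
structure Coeff (p : ℕ) (O k : Type*) [CommRing O] [Field k] where
  π : O →+* k
  surj : Function.Surjective π
  ker : ∀ c : O, π c = 0 → (p : O) ∣ c
  unit : ∀ c : O, π c ≠ 0 → IsUnit c

/-- A lattice with its data at a Sylow subgroup of order `p`. -/
structure Setup (p : ℕ) (G : Type u) [Group G] (O : Type*) [CommRing O] (ι : Type*) [Fintype ι]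
    [DecidableEq ι] where
  ρ : G →* Matrix ι ι O
  P : Sylow p G
  x : G
  hx : orderOf x = p
  hxP : x ∈ (P : Subgroup G)
  hP : Nat.card P = p
  s : ℤ
  hidem : ∀ R : Matrix ι ι O, R * R = R → (∀ g, ρ g * R = R * ρ g) → R = 0 ∨ R = 1
  d : ℕ
  F : Fin d → Fin d → Matrix ι ι O
  o : Fin d
  hd : ¬ p ∣ d
  hmul : ∀ a b c e, F a b * F c e = if b = c then F a e else 0
  hFA : ∀ a b, F a b * ρ x = ρ x * F a b
  htr : ∀ i, 0 < i → i < p → (F o o * ρ (x ^ i)).trace = (s : O)
  Oc : Subgroup G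
  hOc : ¬ p ∣ Nat.card Oc
  hOcC : ∀ y ∈ Oc, y * x = x * y
  hcoef : F o o ∈ Submodule.span O (ρ '' (Oc : Set G))
  hleft : ∀ y ∈ Oc, ρ y * F o o ∈ Submodule.span O (Set.range fun z : Fin d × Fin d => F z.1 z.2)
  hsum : ∀ [Fintype Oc], (d : O) • ∑ y : Oc, ρ y * F o o * ρ ((y : G)⁻¹) =
    (Nat.card Oc : O) • ∑ a, F a a
  T : Subgroup G
  hTN : T ≤ Subgroup.normalizer ((P : Subgroup G) : Set G)
  hxT : x ∈ T
  n₀ : G
  hn₀ : n₀ ∈ T
  hgen : ∀ n ∈ T, ∃ i j : ℕ, ∃ y ∈ Oc, n = n₀ ^ i * x ^ j * y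
  hconj : ∀ n ∈ T, ∀ a b,
    ρ n⁻¹ * F a b * ρ n ∈ Submodule.span O (Set.range fun z : Fin d × Fin d => F z.1 z.2)
  hTe : ∀ n ∈ T, ρ n * (∑ a, F a a) = (∑ a, F a a) * ρ n
  hout : ∀ n ∈ Subgroup.normalizer ((P : Subgroup G) : Set G), n ∉ T →
    ∀ a b, F o o * ρ n * F a b = 0

variable {p : ℕ} [hp : Fact p.Prime] {G : Type u} [Group G] [Finite G]
  {O k : Type*} [CommRing O] [IsDomain O] [IsPrincipalIdealRing O] [CharZero O]
  [IsAdicComplete (Ideal.span {(p : O)}) O] [Field k] [IsAlgClosed k] [CharP k p]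
  {ι : Type*} [Fintype ι] [DecidableEq ι]

theorem Coeff.nat_ne_zero (_K : Coeff p O k) : (p : O) ≠ 0 := Nat.cast_ne_zero.2 hp.out.ne_zero

variable (K : Coeff p O k) (S : Setup p G O ι)

/-- The matrix of the generator. -/
def Setup.A : Matrix ι ι O := S.ρ S.x

/-- Reduction of matrices to endomorphisms. -/
def Coeff.bar : Matrix ι ι O →+* Module.End k (ι → k) :=
  (Matrix.toLinAlgEquiv' : Matrix ι ι k ≃ₐ[k] _).toRingEquiv.toRingHom.comp K.π.mapMatrix

theorem Coeff.bar_apply (X : Matrix ι ι O) (v : ι → k) : K.bar X v = (X.map K.π).mulVec v := rfl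

theorem Coeff.bar_red [RingHomSurjective K.π] (X : Matrix ι ι O) (v : ι → O) :
    K.bar X (redVec K.π ι v) = redVec K.π ι (X.mulVec v) := (redVec_mulVec X v).symm

theorem Coeff.bar_eq_mulVecLin (X : Matrix ι ι O) :
    K.bar X = Matrix.mulVecLin (X.map K.π) := rfl

theorem Coeff.bar_eq_zero {X : Matrix ι ι O} (h : K.bar X = 0) :
    ∀ a b, (p : O) ∣ X a b := by
  intro a b
  refine K.ker _ ?_
  have h1 := congrFun (LinearMap.congr_fun h (Pi.single b 1)) a
  rw [K.bar_apply, Matrix.mulVec_single_one] at h1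
  exact h1

/-- Division by `p`. -/
theorem Coeff.exists_div {X : Matrix ι ι O} (h : K.bar X = 0) :
    ∃ Y : Matrix ι ι O, X = (p : O) • Y := by
  choose Y hY using fun a b => K.bar_eq_zero h a b
  exact ⟨Matrix.of Y, Matrix.ext fun a b => hY a b⟩

theorem Setup.A_pow (i : ℕ) : S.A ^ i = S.ρ (S.x ^ i) := (map_pow S.ρ S.x i).symm

theorem Setup.x_pow_p : S.x ^ p = 1 := orderOf_dvd_iff_pow_eq_one.1 S.hx.dvd

theorem Setup.A_pow_p : S.A ^ p = 1 := by rw [S.A_pow, S.x_pow_p, map_one]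

theorem Setup.inv_pow {i : ℕ} (hi : i ≤ p) : (S.x ^ i)⁻¹ = S.x ^ (p - i) := by
  refine inv_eq_of_mul_eq_one_right ?_
  rw [← pow_add, Nat.add_sub_cancel' hi, S.x_pow_p]

/-- The orbit sum of a matrix under the generator. -/
def Setup.tw (Y : Matrix ι ι O) : Matrix ι ι O :=
  ∑ i ∈ Finset.range p, S.A ^ i * Y * S.A ^ (p - i)

theorem Setup.tw_eq (Y : Matrix ι ι O) :
    ∑ i ∈ Finset.range p, conjBy S.ρ (S.x ^ i) Y = S.tw Y :=
  Finset.sum_congr rfl fun i hi => by
    rw [conjBy, S.inv_pow (Finset.mem_range.1 hi).le, ← S.A_pow, ← S.A_pow]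

theorem Setup.commute_normMat : S.A * normMat p S.A = normMat p S.A := by
  have h := sub_mul_normMat S.A_pow_p
  rwa [sub_mul, one_mul, sub_eq_zero] at h

theorem Setup.normMat_commute : normMat p S.A * S.A = normMat p S.A := by
  have h := normMat_mul_sub S.A_pow_p
  rwa [mul_sub, mul_one, sub_eq_zero] at h

/-- A pair of reduced subspaces together with the properties used in the argument. -/
structure Pair where
  P' : Submodule k (ι → k)
  B' : Submodule k (ι → k)
  le : B' ≤ P'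
  comm : ∀ Z : Matrix ι ι O, Z * S.A = S.A * Z → Stab P' B' (K.bar Z)
  norm : ∀ n ∈ Subgroup.normalizer ((S.P : Subgroup G) : Set G), Stab P' B' (K.bar (S.ρ n))
  triv : ∀ v ∈ P', K.bar S.A v - v ∈ B'
  kill : ∀ Y : Matrix ι ι O, ∀ v ∈ P', K.bar (S.tw Y) v ∈ B'
  lift : ∀ Φ : Module.End k (ι → k), (∀ v, Φ v ∈ P') → (∀ v ∈ B', Φ v = 0) →
    ∃ X : Matrix ι ι O, X * S.A = S.A * X ∧ ∀ v ∈ P', K.bar X v - Φ v ∈ B'

theorem Setup.exists_scalar (T : Matrix ι ι O) (hT : ∀ g, S.ρ g * T = T * S.ρ g) :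
    ∃ a : k, IsNilpotent (K.bar T - algebraMap k _ a) := by
  rcases isEmpty_or_nonempty ι with hι | hι
  · exact ⟨0, 1, Subsingleton.elim _ _⟩
  obtain ⟨a, ha⟩ := exists_scalar_nilpotent (K.π.mapMatrix T) fun q hq => by
    -- lift the idempotent
    obtain ⟨q', rfl⟩ := Polynomial.map_surjective K.π K.surj q
    set E₀ := Polynomial.aeval T q' with hE₀
    have hmap : K.π.mapMatrix E₀ = Polynomial.aeval (K.π.mapMatrix T) (q'.map K.π) := by
      rw [hE₀, Polynomial.aeval_def, Polynomial.hom_eval₂, Polynomial.aeval_def, Polynomial.eval₂_map]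
      congr 1
      ext c a b
      simp only [RingHom.coe_comp, Function.comp_apply, Matrix.algebraMap_eq_diagonal,
        RingHom.mapMatrix_apply, Matrix.map_apply]
      simp only [Pi.algebraMap_def, Matrix.diagonal_apply, Algebra.algebraMap_self, RingHom.id_apply]
      split_ifs <;> simp
    have h0 : ∀ a b, (p : O) ∣ (E₀ * E₀ - E₀) a b := fun a b => K.ker _ (by
      have h1 : K.π.mapMatrix (E₀ * E₀ - E₀) = 0 := by
        rw [map_sub, map_mul, hmap, hq.eq, sub_self]
      exact congrFun (congrFun h1 a) b)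
    obtain ⟨E, hE, hclose, hcomm⟩ := exists_idempotent_lift (p := p) E₀ h0
    have hEg : ∀ g, S.ρ g * E = E * S.ρ g := fun g => hcomm _ (by
      rw [hE₀]
      exact Algebra.commute_of_mem_adjoin_singleton_of_commute
        (Polynomial.aeval_mem_adjoin_singleton O T) (hT g) |>.eq)
    have hbar : K.π.mapMatrix E = K.π.mapMatrix E₀ := by
      rw [← sub_eq_zero, ← map_sub]
      ext a b
      obtain ⟨c, hc⟩ := hclose a b
      show K.π ((E - E₀) a b) = 0
      rw [hc, map_mul, map_natCast, CharP.cast_eq_zero, zero_mul]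
    rw [← hmap, ← hbar]
    rcases S.hidem E hE hEg with h | h
    · exact Or.inl (by rw [h, map_zero])
    · exact Or.inr (by rw [h, map_one])
  refine ⟨a, ?_⟩
  have h1 := ha.map (Matrix.toLinAlgEquiv' : Matrix ι ι k ≃ₐ[k] Module.End k (ι → k))
  rwa [map_sub, AlgEquiv.commutes] at h1

variable {K S} (Q : Pair K S)

/-- The map induced on the subquotient of a pair. -/
def Pair.ind (f : Module.End k (ι → k)) (hf : Stab Q.P' Q.B' f) :
    Module.End k (Q.P' ⧸ Q.B'.comap Q.P'.subtype) := qmap f hf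

theorem Pair.scalarNil_of_commute {X : Matrix ι ι O}
    (hX : ∀ n ∈ Subgroup.normalizer ((S.P : Subgroup G) : Set G), S.ρ n * X = X * S.ρ n)
    (hXs : Stab Q.P' Q.B' (K.bar X)) : ScalarNil (qmap (K.bar X) hXs) := by
  obtain ⟨Y, hY⟩ := transfer_decomp S.ρ S.P S.hx S.hxP S.hP hX
  rw [S.tw_eq] at hY
  obtain ⟨a, n, hn⟩ := S.exists_scalar K _ hY
  have hT : Stab Q.P' Q.B' (K.bar (X + S.tw Y)) := Q.comm _ (hY S.x).symm
  have e : qmap (K.bar X) hXs = qmap (K.bar (X + S.tw Y)) hT := qmap_congr _ _ fun v hv => by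
    rw [map_add, LinearMap.add_apply, sub_add_cancel_left]
    exact Q.B'.neg_mem (Q.kill Y v hv)
  rw [e]
  refine ⟨a, n, ?_⟩
  have hd : Stab Q.P' Q.B' (K.bar (X + S.tw Y) - algebraMap k _ a) :=
    ⟨fun v hv => Q.P'.sub_mem (hT.1 v hv) (Q.P'.smul_mem a hv),
     fun v hv => Q.B'.sub_mem (hT.2 v hv) (Q.B'.smul_mem a hv)⟩
  have e2 : qmap _ hT - algebraMap k _ a = qmap _ hd := LinearMap.ext fun q => by
    induction q using Submodule.Quotient.induction_on with
    | _ v => rfl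
  rw [e2]
  generalize K.bar (X + S.tw Y) - algebraMap k _ a = D at hd hn
  have hpow : ∀ (j : ℕ) (v : Q.P'), ∃ h : (D ^ j) v ∈ Q.P',
      (qmap D hd ^ j) (Submodule.Quotient.mk v) = Submodule.Quotient.mk ⟨(D ^ j) v, h⟩ := by
    intro j
    induction j with
    | zero => exact fun v => ⟨v.2, rfl⟩
    | succ j ih =>
      intro v
      obtain ⟨h, hh⟩ := ih v
      refine ⟨by rw [pow_succ', Module.End.mul_apply]; exact hd.1 _ h, ?_⟩
      rw [pow_succ' (qmap D hd), Module.End.mul_apply, hh, qmap_mk]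
      exact congrArg Submodule.Quotient.mk (Subtype.ext (LinearMap.congr_fun (pow_succ' D j) (v : ι → k)).symm)
  refine LinearMap.ext fun q => ?_
  induction q using Submodule.Quotient.induction_on with
  | _ v =>
    obtain ⟨h, hh⟩ := hpow n v
    rw [hh, LinearMap.zero_apply, Submodule.Quotient.mk_eq_zero]
    show (D ^ n) (v : ι → k) ∈ Q.B'
    rw [hn]
    exact Q.B'.zero_mem

/-- The induced map of a stabilising matrix, zero otherwise. -/
def Pair.q (Z : Matrix ι ι O) : Module.End k (Q.P' ⧸ Q.B'.comap Q.P'.subtype) :=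
  open scoped Classical in
  if h : Stab Q.P' Q.B' (K.bar Z) then qmap _ h else 0

theorem Pair.q_eq {Z : Matrix ι ι O} (h : Stab Q.P' Q.B' (K.bar Z)) : Q.q Z = qmap _ h :=
  dif_pos h

theorem Pair.q_mk {Z : Matrix ι ι O} (h : Stab Q.P' Q.B' (K.bar Z)) (v : Q.P') :
    Q.q Z (Submodule.Quotient.mk v) = Submodule.Quotient.mk ⟨K.bar Z v, h.1 v v.2⟩ := by
  rw [Q.q_eq h, qmap_mk]

theorem Pair.q_ext {φ ψ : Module.End k (Q.P' ⧸ Q.B'.comap Q.P'.subtype)}
    (h : ∀ v : Q.P', φ (Submodule.Quotient.mk v) = ψ (Submodule.Quotient.mk v)) : φ = ψ :=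
  LinearMap.ext fun q => by
    induction q using Submodule.Quotient.induction_on with
    | _ v => exact h v

theorem Pair.q_mul {Y Z : Matrix ι ι O} (hY : Stab Q.P' Q.B' (K.bar Y))
    (hZ : Stab Q.P' Q.B' (K.bar Z)) : Q.q (Y * Z) = Q.q Y * Q.q Z := by
  have h : Stab Q.P' Q.B' (K.bar (Y * Z)) := by rw [map_mul]; exact hY.mul hZ
  refine Q.q_ext fun v => ?_
  rw [Module.End.mul_apply, Q.q_mk h, Q.q_mk hZ, Q.q_mk hY]
  refine congrArg Submodule.Quotient.mk (Subtype.ext ?_)
  show K.bar (Y * Z) (v : ι → k) = K.bar Y (K.bar Z v)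
  rw [map_mul]
  rfl

theorem Pair.stab_one : Stab Q.P' Q.B' (K.bar (1 : Matrix ι ι O)) :=
  Q.comm _ (by rw [one_mul, mul_one])

theorem Pair.q_one : Q.q 1 = 1 := Q.q_ext fun v => by
  rw [Q.q_mk Q.stab_one, Module.End.one_apply]
  refine congrArg Submodule.Quotient.mk (Subtype.ext ?_)
  show K.bar 1 (v : ι → k) = v
  rw [map_one]
  rfl

theorem Pair.q_zero : Q.q 0 = 0 := Q.q_ext fun v => by
  rw [Q.q_mk (Q.comm _ (by rw [zero_mul, mul_zero])), LinearMap.zero_apply,
    Submodule.Quotient.mk_eq_zero]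
  show K.bar 0 (v : ι → k) ∈ Q.B'
  rw [map_zero]
  exact Q.B'.zero_mem

theorem Pair.q_add {Y Z : Matrix ι ι O} (hY : Stab Q.P' Q.B' (K.bar Y))
    (hZ : Stab Q.P' Q.B' (K.bar Z)) : Q.q (Y + Z) = Q.q Y + Q.q Z := by
  have h : Stab Q.P' Q.B' (K.bar (Y + Z)) := by
    rw [map_add]
    exact ⟨fun v hv => Q.P'.add_mem (hY.1 v hv) (hZ.1 v hv),
      fun v hv => Q.B'.add_mem (hY.2 v hv) (hZ.2 v hv)⟩
  refine Q.q_ext fun v => ?_
  rw [LinearMap.add_apply, Q.q_mk h, Q.q_mk hZ, Q.q_mk hY, ← Submodule.Quotient.mk_add]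
  refine congrArg Submodule.Quotient.mk (Subtype.ext ?_)
  show K.bar (Y + Z) (v : ι → k) = K.bar Y v + K.bar Z v
  rw [map_add]
  rfl

theorem Coeff.bar_smul (c : O) (Z : Matrix ι ι O) : K.bar (c • Z) = K.π c • K.bar Z :=
  LinearMap.ext fun w => by
    rw [LinearMap.smul_apply, K.bar_apply, K.bar_apply,
      show (c • Z).map K.π = K.π c • Z.map K.π from Matrix.ext fun a b => by simp,
      Matrix.smul_mulVec]

theorem Pair.q_smul {Z : Matrix ι ι O} (c : O) (hZ : Stab Q.P' Q.B' (K.bar Z)) :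
    Q.q (c • Z) = K.π c • Q.q Z := by
  have h : Stab Q.P' Q.B' (K.bar (c • Z)) := by
    rw [K.bar_smul]
    exact ⟨fun v hv => Q.P'.smul_mem _ (hZ.1 v hv), fun v hv => Q.B'.smul_mem _ (hZ.2 v hv)⟩
  refine Q.q_ext fun v => ?_
  rw [LinearMap.smul_apply, Q.q_mk h, Q.q_mk hZ, ← Submodule.Quotient.mk_smul]
  refine congrArg Submodule.Quotient.mk (Subtype.ext ?_)
  show K.bar (c • Z) (v : ι → k) = K.π c • K.bar Z v
  rw [K.bar_smul]
  rfl

theorem Pair.q_sum {α : Type*} (s : Finset α) (f : α → Matrix ι ι O)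
    (hf : ∀ a, f a * S.A = S.A * f a) : Q.q (∑ a ∈ s, f a) = ∑ a ∈ s, Q.q (f a) := by
  classical
  induction s using Finset.induction_on with
  | empty => rw [Finset.sum_empty, Finset.sum_empty, Q.q_zero]
  | insert a s ha ih =>
    rw [Finset.sum_insert ha, Finset.sum_insert ha, Q.q_add (Q.comm _ (hf a))
      (Q.comm _ (by simp only [Finset.sum_mul, Finset.mul_sum, hf])), ih]

/-- Spans are carried to spans. -/
theorem Pair.q_mem_span {s : Set (Matrix ι ι O)} (hs : ∀ z ∈ s, z * S.A = S.A * z)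
    {Z : Matrix ι ι O} (hZ : Z ∈ Submodule.span O s) :
    Z * S.A = S.A * Z ∧ Q.q Z ∈ Submodule.span k (Q.q '' s) := by
  induction hZ using Submodule.span_induction with
  | mem z hz => exact ⟨hs z hz, Submodule.subset_span ⟨z, hz, rfl⟩⟩
  | zero => exact ⟨by rw [zero_mul, mul_zero], by rw [Q.q_zero]; exact Submodule.zero_mem _⟩
  | add y z _ _ hy hz =>
    refine ⟨by rw [add_mul, mul_add, hy.1, hz.1], ?_⟩
    rw [Q.q_add (Q.comm _ hy.1) (Q.comm _ hz.1)]
    exact add_mem hy.2 hz.2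
  | smul c z _ hz =>
    refine ⟨by rw [smul_mul_assoc, mul_smul_comm, hz.1], ?_⟩
    rw [Q.q_smul c (Q.comm _ hz.1)]
    exact Submodule.smul_mem _ _ hz.2

/-- The normaliser. -/
abbrev Setup.N (S : Setup p G O ι) : Subgroup G :=
  Subgroup.normalizer ((S.P : Subgroup G) : Set G)

/-- The Sylow subgroup inside its normaliser. -/
abbrev Setup.NP (S : Setup p G O ι) : Subgroup S.N := (S.P : Subgroup G).subgroupOf S.N

instance Setup.NP_normal (S : Setup p G O ι) : S.NP.Normal :=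
  Subgroup.normal_in_normalizer

/-- The normaliser modulo the Sylow subgroup acts. -/
def Pair.act : S.N ⧸ S.NP →* Module.End k (Q.P' ⧸ Q.B'.comap Q.P'.subtype) :=
  QuotientGroup.lift S.NP
    { toFun := fun n => Q.q (S.ρ (n : G))
      map_one' := by rw [OneMemClass.coe_one, map_one, Q.q_one]
      map_mul' := fun a b => by
        rw [Subgroup.coe_mul, map_mul, Q.q_mul (Q.norm _ a.2) (Q.norm _ b.2)] }
    fun n hn => by
      rw [MonoidHom.mem_ker]
      show Q.q (S.ρ (n : G)) = 1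
      rw [Subgroup.mem_subgroupOf, ← zpowers_eq S.P S.hx S.hxP S.hP] at hn
      obtain ⟨i, hi⟩ : (n : G) ∈ Submonoid.powers S.x := mem_powers_iff_mem_zpowers.2 hn
      rw [← hi]
      show Q.q (S.ρ (S.x ^ i)) = 1
      rw [← S.A_pow]
      clear hi
      have hA : Q.q S.A = 1 := Q.q_ext fun v => by
        rw [Q.q_mk (Q.comm S.A rfl), Module.End.one_apply, Submodule.Quotient.eq]
        exact Q.triv v v.2
      induction i with
      | zero => rw [pow_zero, Q.q_one]
      | succ i ih =>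
        rw [pow_succ, Q.q_mul (Q.comm _ (pow_mul_comm' S.A i)) (Q.comm _ rfl), ih, hA, mul_one]

theorem Pair.act_mk (n : S.N) : Q.act (n : S.N ⧸ S.NP) = Q.q (S.ρ (n : G)) := rfl

/-- The commutant of the normaliser consists of scalar plus nilpotent maps. -/
theorem Pair.commutant (φ : Module.End k (Q.P' ⧸ Q.B'.comap Q.P'.subtype))
    (hφ : ∀ n : S.N, Q.q (S.ρ (n : G)) * φ = φ * Q.q (S.ρ (n : G))) : ScalarNil φ := by
  classical
  set N := Subgroup.normalizer ((S.P : Subgroup G) : Set G)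
  have hxN : S.x ∈ N := Subgroup.le_normalizer S.hxP
  obtain ⟨Φ, hΦP, hΦB, hΦ⟩ := exists_extension Q.le φ
  obtain ⟨X, hXA, hX⟩ := Q.lift Φ hΦP hΦB
  set NP := (S.P : Subgroup G).subgroupOf N
  haveI := Fintype.ofFinite (N ⧸ NP)
  have hidx : IsUnit ((Fintype.card (N ⧸ NP) : ℕ) : O) := K.unit _ (by
    rw [map_natCast, Ne, CharP.cast_eq_zero_iff k p, ← Nat.card_eq_fintype_card]
    intro h
    exact S.P.not_dvd_index (h.trans (Subgroup.relIndex_dvd_index_of_le Subgroup.le_normalizer)))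
  obtain ⟨c, hc⟩ := hidx.exists_left_inv
  let F : N ⧸ NP → Matrix ι ι O := fun q => Quotient.liftOn' q (fun n => conjBy S.ρ (n : G) X)
    fun n n' h => by
      rw [QuotientGroup.leftRel_apply, Subgroup.mem_subgroupOf,
        ← zpowers_eq S.P S.hx S.hxP S.hP] at h
      obtain ⟨i, hi⟩ := Subgroup.mem_zpowers_iff.1 h
      have hcomm : Commute (S.ρ ((n⁻¹ * n' : N) : G)) X := by
        rw [← hi]
        rcases Int.eq_nat_or_neg i with ⟨j, rfl | rfl⟩
        · rw [zpow_natCast, ← S.A_pow]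
          exact (show Commute S.A X from hXA.symm).pow_left j
        · rw [zpow_neg, zpow_natCast]
          have h1 : (S.x ^ j)⁻¹ = S.x ^ (j * (p - 1)) := by
            refine inv_eq_of_mul_eq_one_right ?_
            rw [← pow_add, show j + j * (p - 1) = p * j by
              rw [mul_comm p j]; nth_rewrite 1 [← mul_one j]
              rw [← mul_add, Nat.add_sub_cancel' hp.out.one_le], pow_mul]
            rw [S.x_pow_p, one_pow]
          rw [h1, ← S.A_pow]
          exact (show Commute S.A X from hXA.symm).pow_left _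
      show conjBy S.ρ (n : G) X = conjBy S.ρ (n' : G) X
      conv_rhs => rw [show (n' : G) = (n : G) * ((n⁻¹ * n' : N) : G) by simp, conjBy_mul,
        (conjBy_eq_iff S.ρ).2 hcomm.eq]
  set X' := c • ∑ q, F q with hX'
  have hX'N : ∀ n ∈ N, S.ρ n * X' = X' * S.ρ n := fun n hn => by
    refine (conjBy_eq_iff S.ρ).1 ?_
    rw [hX', conjBy, mul_smul_comm, smul_mul_assoc, ← conjBy, conjBy_sum]
    congr 1
    refine Fintype.sum_equiv (MulAction.toPerm (⟨n, hn⟩ : N)) _ _ fun q => ?_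
    induction q using QuotientGroup.induction_on with
    | _ h => exact (conjBy_mul S.ρ n (h : G) X).symm
  have hX's : Stab Q.P' Q.B' (K.bar X') := Q.comm _ (hX'N S.x hxN).symm
  suffices h : φ = qmap (K.bar X') hX's by rw [h]; exact Q.scalarNil_of_commute hX'N hX's
  -- each conjugate induces the same map
  have hF : ∀ (q : N ⧸ NP) (v : ι → k), v ∈ Q.P' → K.bar (F q) v - Φ v ∈ Q.B' := by
    intro q
    induction q using QuotientGroup.induction_on with
    | _ n =>
      intro v hv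
      show K.bar (conjBy S.ρ (n : G) X) v - Φ v ∈ Q.B'
      have hn := Q.norm (n : G) n.2
      have hn' := Q.norm ((n⁻¹ : N) : G) (n⁻¹ : N).2
      set w := K.bar (S.ρ ((n⁻¹ : N) : G)) v with hw
      have hwP : w ∈ Q.P' := hn'.1 v hv
      have h1 : K.bar (S.ρ (n : G)) (K.bar X w - Φ w) ∈ Q.B' := hn.2 _ (hX w hwP)
      rw [map_sub] at h1
      have h3 : K.bar (S.ρ (n : G)) (Φ w) - Φ v ∈ Q.B' := by
        have h4 := LinearMap.congr_fun (hφ n) (Submodule.Quotient.mk ⟨w, hwP⟩)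
        obtain ⟨hΦw, hφw⟩ := hΦ w hwP
        obtain ⟨hΦv, hφv⟩ := hΦ v hv
        simp only [Module.End.mul_apply, Q.q_mk hn, hφw] at h4
        have hwv : K.bar (S.ρ (n : G)) w = v := by
          rw [hw, ← Module.End.mul_apply, ← map_mul, ← map_mul, Subgroup.coe_inv,
            mul_inv_cancel, map_one, map_one, Module.End.one_apply]
        rw [show (⟨K.bar (S.ρ (n : G)) w, hn.1 w hwP⟩ : Q.P') = ⟨v, hv⟩ from Subtype.ext hwv,
          hφv, Submodule.Quotient.eq] at h4
        exact h4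
      have := Q.B'.add_mem h1 h3
      rwa [sub_add_sub_cancel, hw, ← Module.End.mul_apply, ← Module.End.mul_apply, ← map_mul,
        ← map_mul, Subgroup.coe_inv, ← conjBy] at this
  refine LinearMap.ext fun q => ?_
  induction q using Submodule.Quotient.induction_on with
  | _ v =>
    obtain ⟨hΦv, hφv⟩ := hΦ v v.2
    rw [qmap_mk, hφv, eq_comm, Submodule.Quotient.eq]
    show K.bar X' (v : ι → k) - Φ v ∈ Q.B'
    have hb : K.bar X' = K.π c • ∑ q, K.bar (F q) := by
      rw [hX', ← map_sum]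
      exact LinearMap.ext fun w => by
        rw [K.bar_apply, LinearMap.smul_apply, K.bar_apply]
        rw [show (c • ∑ q, F q).map K.π = K.π c • (∑ q, F q).map K.π from
          Matrix.ext fun a b => by simp, Matrix.smul_mulVec]
    have hΦ' : Φ (v : ι → k) = K.π c • ∑ _q : N ⧸ NP, Φ (v : ι → k) := by
      rw [Finset.sum_const, Finset.card_univ, ← Nat.cast_smul_eq_nsmul k, smul_smul,
        ← map_natCast K.π, ← map_mul, hc, map_one, one_smul]
    rw [hb, hΦ', LinearMap.smul_apply, LinearMap.sum_apply, ← smul_sub, ← Finset.sum_sub_distrib]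
    exact Q.B'.smul_mem _ (Submodule.sum_mem _ fun q _ => hF q v v.2)

theorem Setup.card_ne (S : Setup p G O ι) : ¬ p ∣ Nat.card (S.N ⧸ S.NP) := fun h =>
  S.P.not_dvd_index (h.trans (Subgroup.relIndex_dvd_index_of_le Subgroup.le_normalizer))

theorem Setup.F_comm (S : Setup p G O ι) (a b : Fin S.d) : S.F a b * S.A = S.A * S.F a b := S.hFA a b

/-- The corner data of a pair. -/
theorem Pair.finrank_range_le : finrank k (LinearMap.range (Q.q (S.F S.o S.o))) ≤ 1 := by
  classical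
  haveI := Fintype.ofFinite (S.N ⧸ S.NP)
  haveI := Fintype.ofFinite S.Oc
  set f : Fin S.d → Fin S.d → _ := fun a b => Q.q (S.F a b) with hf
  have hOcN : S.Oc ≤ S.N := fun y hy => Subgroup.centralizer_le_normalizer _ (by
    rw [← zpowers_eq S.P S.hx S.hxP S.hP]
    refine Subgroup.mem_centralizer_iff.2 fun z hz => ?_
    obtain ⟨i, rfl⟩ := Subgroup.mem_zpowers_iff.1 hz
    exact ((show Commute S.x y from (S.hOcC y hy).symm).zpow_left i).eq)
  have hyA : ∀ y ∈ S.Oc, S.ρ y * S.A = S.A * S.ρ y := fun y hy => by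
    rw [Setup.A, ← map_mul, ← map_mul, S.hOcC y hy]
  have hspan : ∀ {Z}, Z ∈ Submodule.span O (Set.range fun z : Fin S.d × Fin S.d => S.F z.1 z.2) →
      Z * S.A = S.A * Z ∧ Q.q Z ∈ Submodule.span k
        (Set.range fun z : Fin S.d × Fin S.d => f z.1 z.2) := fun {Z} hZ => by
    obtain ⟨h1, h2⟩ := Q.q_mem_span (by rintro _ ⟨z, rfl⟩; exact S.F_comm z.1 z.2) hZ
    exact ⟨h1, by rwa [← Set.range_comp] at h2⟩
  let π₀ := QuotientGroup.mk' S.NP
  let O' : Subgroup (S.N ⧸ S.NP) := (S.Oc.subgroupOf S.N).map π₀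
  let T' : Subgroup (S.N ⧸ S.NP) := (S.T.subgroupOf S.N).map π₀
  have hTmem : ∀ n : S.N, (n : S.N ⧸ S.NP) ∈ T' → (n : G) ∈ S.T := by
    rintro n ⟨m, hm, hmn⟩
    rw [QuotientGroup.mk'_apply, QuotientGroup.eq, Subgroup.mem_subgroupOf,
      ← zpowers_eq S.P S.hx S.hxP S.hP] at hmn
    have h1 := S.T.mul_mem (Subgroup.mem_subgroupOf.1 hm)
      (Subgroup.zpowers_le.2 S.hxT hmn)
    simpa using h1
  have hd : (S.d : k) ≠ 0 := by rw [Ne, CharP.cast_eq_zero_iff k p]; exact S.hd
  have hOk : (Nat.card S.Oc : k) ≠ 0 := by rw [Ne, CharP.cast_eq_zero_iff k p]; exact S.hOc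
  have hT0 : (Nat.card T' : k) ≠ 0 := by
    rw [Ne, CharP.cast_eq_zero_iff k p]
    exact fun h => S.card_ne (h.trans (Subgroup.card_subgroup_dvd_card T'))
  have hinv : ∀ n : S.N, Q.act (n : S.N ⧸ S.NP)⁻¹ = Q.q (S.ρ ((n : G)⁻¹)) := fun n => by
    rw [← QuotientGroup.mk_inv, Q.act_mk, Subgroup.coe_inv]
  set e := ∑ a, S.F a a with he
  have heA : e * S.A = S.A * e := by simp only [he, Finset.sum_mul, Finset.mul_sum, S.F_comm]
  have hfe : f S.o S.o * Q.q e = f S.o S.o := by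
    show Q.q _ * Q.q e = Q.q _
    rw [← Q.q_mul (Q.comm _ (S.F_comm _ _)) (Q.comm _ heA), he, Finset.mul_sum]
    simp [S.hmul]
  let D : CornerData Q.act :=
    { d := S.d
      f := f
      o := S.o
      mul := fun a b c e => by
        show Q.q _ * Q.q _ = _
        rw [← Q.q_mul (Q.comm _ (S.F_comm _ _)) (Q.comm _ (S.F_comm _ _)), S.hmul]
        split_ifs
        · rfl
        · exact Q.q_zero
      O' := O'
      T := T'
      γ₀ := π₀ ⟨S.n₀, S.hTN S.hn₀⟩
      hγ₀ := ⟨_, Subgroup.mem_subgroupOf.2 S.hn₀, rfl⟩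
      hgen := by
        rintro _ ⟨n, hn, rfl⟩
        obtain ⟨i, j, y, hy, hn'⟩ := S.hgen n (Subgroup.mem_subgroupOf.1 hn)
        refine ⟨i, π₀ ⟨y, hOcN hy⟩, ⟨⟨y, hOcN hy⟩, Subgroup.mem_subgroupOf.2 hy, rfl⟩, ?_⟩
        have hxn : S.x ∈ S.N := Subgroup.le_normalizer S.hxP
        have h1 : π₀ ⟨S.x, hxn⟩ = 1 :=
          (QuotientGroup.eq_one_iff _).2 (Subgroup.mem_subgroupOf.2 S.hxP)
        have h2 : n = ⟨S.n₀, S.hTN S.hn₀⟩ ^ i * ⟨S.x, hxn⟩ ^ j * ⟨y, hOcN hy⟩ :=
          Subtype.ext (by simpa using hn')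
        rw [h2, map_mul, map_mul, map_pow, map_pow, h1, one_pow, mul_one]
      left := by
        rintro _ ⟨y, hy, rfl⟩
        show Q.q (S.ρ (y : G)) * Q.q _ ∈ _
        rw [← Q.q_mul (Q.norm _ y.2) (Q.comm _ (S.F_comm _ _))]
        exact (hspan (S.hleft _ (Subgroup.mem_subgroupOf.1 hy))).2
      coef := by
        have h := (Q.q_mem_span (by rintro _ ⟨y, hy, rfl⟩; exact hyA y hy) S.hcoef).2
        refine Submodule.span_mono ?_ h
        rintro _ ⟨_, ⟨y, hy, rfl⟩, rfl⟩
        exact ⟨π₀ ⟨y, hOcN hy⟩, ⟨⟨y, hOcN hy⟩, Subgroup.mem_subgroupOf.2 hy, rfl⟩, rfl⟩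
      conj := by
        rintro _ ⟨n, hn, rfl⟩ a b
        show Q.act (n : S.N ⧸ S.NP)⁻¹ * Q.q _ * Q.act (n : S.N ⧸ S.NP) ∈ _
        rw [hinv, Q.act_mk,
          ← Q.q_mul (Q.norm _ (inv_mem n.2)) (Q.comm _ (S.F_comm _ _))]
        have hs : Stab Q.P' Q.B' (K.bar (S.ρ (n : G)⁻¹ * S.F a b)) := by
          rw [map_mul]; exact (Q.norm _ (inv_mem n.2)).mul (Q.comm _ (S.F_comm _ _))
        rw [← Q.q_mul hs (Q.norm _ n.2)]
        exact (hspan (S.hconj _ (Subgroup.mem_subgroupOf.1 hn) a b)).2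
      out := by
        intro γ hγ
        induction γ using QuotientGroup.induction_on with
        | _ n =>
          show Q.q _ * Q.act (n : S.N ⧸ S.NP) * Q.q _ = 0
          have hnT : (n : G) ∉ S.T := fun h => hγ ⟨n, Subgroup.mem_subgroupOf.2 h, rfl⟩
          rw [Q.act_mk, ← Q.q_mul (Q.comm _ (S.F_comm _ _)) (Q.norm _ n.2)]
          have hs : Stab Q.P' Q.B' (K.bar (S.F S.o S.o * S.ρ (n : G))) := by
            rw [map_mul]; exact (Q.comm _ (S.F_comm _ _)).mul (Q.norm _ n.2)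
          rw [← Q.q_mul hs (Q.comm _ (S.F_comm _ _)), S.hout _ n.2 hnT, Q.q_zero]
      κ := (Nat.card T' : k) / (S.d : k)
      hκ := div_ne_zero hT0 hd
      avg := by
        set sig := ∑ γ, Q.act γ * f S.o S.o * Q.act γ⁻¹ with hsig
        have hy : ∀ y : S.Oc, sig = ∑ γ, Q.act γ *
            Q.q (S.ρ y * S.F S.o S.o * S.ρ ((y : G)⁻¹)) * Q.act γ⁻¹ := by
          intro y
          refine (Fintype.sum_equiv (Equiv.mulRight (π₀ ⟨y, hOcN y.2⟩)) _ _ fun γ => ?_).symm
          have hs : Stab Q.P' Q.B' (K.bar (S.ρ (y : G) * S.F S.o S.o)) := by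
            rw [map_mul]; exact (Q.comm _ (hyA y y.2)).mul (Q.comm _ (S.F_comm _ _))
          rw [Equiv.coe_mulRight, map_mul, mul_inv_rev, map_mul,
            Q.q_mul hs (Q.norm _ (inv_mem (hOcN y.2))),
            Q.q_mul (Q.comm _ (hyA y y.2)) (Q.comm _ (S.F_comm _ _))]
          show _ = Q.act γ * Q.act ((⟨y, hOcN y.2⟩ : S.N) : S.N ⧸ S.NP) * f S.o S.o *
            (Q.act ((⟨y, hOcN y.2⟩ : S.N) : S.N ⧸ S.NP)⁻¹ * Q.act γ⁻¹)
          rw [hinv, Q.act_mk]
          simp only [f, mul_assoc]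
        have hsum : (S.d : k) • ((Nat.card S.Oc : k) • sig) =
            (Nat.card S.Oc : k) • ∑ γ, Q.act γ * Q.q e * Q.act γ⁻¹ := by
          have hcomm : ∀ y : S.Oc, S.ρ y * S.F S.o S.o * S.ρ ((y : G)⁻¹) * S.A =
              S.A * (S.ρ y * S.F S.o S.o * S.ρ ((y : G)⁻¹)) := fun y =>
            ((Commute.mul_left (Commute.mul_left (hyA y y.2) (S.F_comm _ _))
              (hyA _ (inv_mem y.2))) : Commute _ S.A).eq
          have h := congrArg Q.q S.hsum
          rw [Q.q_smul _ (Q.comm _ (by simp only [Finset.sum_mul, Finset.mul_sum, hcomm])),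
            Q.q_sum _ _ hcomm, Q.q_smul _ (Q.comm _ heA), map_natCast, map_natCast] at h
          rw [Nat.cast_smul_eq_nsmul k (Nat.card S.Oc) sig, Nat.card_eq_fintype_card,
            ← Finset.card_univ, ← Finset.sum_const, Finset.sum_congr rfl fun y _ => hy y,
            Finset.sum_comm, Finset.smul_sum, Finset.smul_sum]
          refine Finset.sum_congr rfl fun γ _ => ?_
          rw [← Finset.sum_mul, ← Finset.mul_sum, ← smul_mul_assoc, ← mul_smul_comm, h,
            mul_smul_comm, smul_mul_assoc, Nat.card_eq_fintype_card, Finset.card_univ]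
        rw [smul_comm] at hsum
        have h1 := smul_right_injective _ hOk hsum
        have h2 : f S.o S.o * (∑ γ, Q.act γ * Q.q e * Q.act γ⁻¹) * f S.o S.o =
            (Nat.card T' : k) • f S.o S.o := by
          rw [Finset.mul_sum, Finset.sum_mul]
          have h3 : ∀ γ, f S.o S.o * (Q.act γ * Q.q e * Q.act γ⁻¹) * f S.o S.o =
              if γ ∈ T' then f S.o S.o else 0 := by
            intro γ
            induction γ using QuotientGroup.induction_on with
            | _ n =>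
              rw [hinv, Q.act_mk]
              have hsF := Q.comm _ (S.F_comm S.o S.o)
              have hsn := Q.norm _ n.2
              split_ifs with hn
              · rw [← Q.q_mul hsn (Q.comm _ heA), S.hTe _ (hTmem n hn),
                  Q.q_mul (Q.comm _ heA) hsn, mul_assoc (Q.q e), ← Q.q_mul hsn (Q.norm _ (inv_mem n.2)),
                  ← map_mul, mul_inv_cancel, map_one, Q.q_one, mul_one, hfe]
                show Q.q _ * Q.q _ = Q.q _
                rw [← Q.q_mul hsF hsF, S.hmul, if_pos rfl]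
              · have hnT : (n : G) ∉ S.T := fun h => hn ⟨n, Subgroup.mem_subgroupOf.2 h, rfl⟩
                have hs : Stab Q.P' Q.B' (K.bar (S.F S.o S.o * S.ρ (n : G))) := by
                  rw [map_mul]; exact hsF.mul hsn
                have h0 : f S.o S.o * Q.q (S.ρ (n : G)) * Q.q e = 0 := by
                  show Q.q _ * _ * _ = 0
                  rw [← Q.q_mul hsF hsn, ← Q.q_mul hs (Q.comm _ heA), he, Finset.mul_sum]
                  simp [S.hout _ n.2 hnT, Q.q_zero]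
                rw [← mul_assoc, ← mul_assoc, h0, zero_mul, zero_mul]
          rw [Finset.sum_congr rfl fun γ _ => h3 γ, ← Finset.sum_filter, Finset.sum_const,
            ← Nat.cast_smul_eq_nsmul k]
          congr 2
          rw [Nat.card_eq_fintype_card]
          exact (Fintype.card_subtype _).symm
        rw [← h1, mul_smul_comm, smul_mul_assoc] at h2
        rw [div_eq_inv_mul, mul_smul, ← h2, smul_smul, inv_mul_cancel₀ hd, one_smul] }
  refine D.finrank_le_one (p := p) ?_ fun φ hφ => Q.commutant φ fun n => hφ n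
  rw [← Nat.card_eq_fintype_card]
  exact S.card_ne

/-- The dimension of the part cut out by the diagonal matrix unit of a subquotient of a pair is at
most one. -/
theorem Pair.finrank_le : finrank k (Q.P'.map (K.bar (S.F S.o S.o))) ≤
    finrank k (Q.B'.map (K.bar (S.F S.o S.o))) + 1 := by
  set E := S.F S.o S.o
  have hs := Q.comm _ (S.F_comm S.o S.o)
  have hfix : ∀ v ∈ Q.P'.map (K.bar E), v ∈ Q.P' ∧ K.bar E v = v := by
    rintro _ ⟨w, hw, rfl⟩
    exact ⟨hs.1 w hw, by rw [← Module.End.mul_apply, ← map_mul, S.hmul, if_pos rfl]⟩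
  let j : Q.P'.map (K.bar E) →ₗ[k] Q.P' ⧸ Q.B'.comap Q.P'.subtype :=
    (Q.B'.comap Q.P'.subtype).mkQ.comp (Submodule.inclusion fun v hv => (hfix v hv).1)
  have hr : LinearMap.range j ≤ LinearMap.range (Q.q E) := by
    rintro _ ⟨⟨v, hv⟩, rfl⟩
    refine ⟨j ⟨v, hv⟩, ?_⟩
    show Q.q E (Submodule.Quotient.mk _) = Submodule.Quotient.mk _
    rw [Q.q_mk hs]
    exact congrArg Submodule.Quotient.mk (Subtype.ext (hfix v hv).2)
  have hk : (LinearMap.ker j).map (Q.P'.map (K.bar E)).subtype ≤ Q.B'.map (K.bar E) := by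
    rintro _ ⟨⟨v, hv⟩, hjv, rfl⟩
    refine ⟨v, ?_, (hfix v hv).2⟩
    exact (Submodule.Quotient.mk_eq_zero (Q.B'.comap Q.P'.subtype)).1 (LinearMap.mem_ker.1 hjv)
  have h1 := LinearMap.finrank_range_add_finrank_ker j
  have h2 := Submodule.finrank_mono hk
  rw [Submodule.finrank_map_subtype_eq] at h2
  have h3 := (Submodule.finrank_mono hr).trans Q.finrank_range_le
  omega

end CfsgLib.CyclicDefect
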