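import Mathlib.RingTheory.WittVector.DiscreteValuationRing
import Mathlib.RingTheory.WittVector.Complete
import Mathlib.RingTheory.WittVector.Teichmuller
import Mathlib.RingTheory.Localization.Cardinality
import Mathlib.RingTheory.Algebraic.Cardinality
import Mathlib.FieldTheory.IsAlgClosed.Classification
import Mathlib.Analysis.Complex.Polynomial.Basic
import Mathlib.Analysis.Complex.Cardinality
import Mathlib.RingTheory.Polynomial.Eisenstein.IsIntegral
import Mathlib.RingTheory.RootsOfUnity.AlgebraicallyClosed
import Mathlib.RingTheory.Polynomial.Cyclotomic.Eval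
import Cfsg.Agent.Lib.CyclicDefect.Core

/-!
# An unramified complete coefficient ring inside the complex numbers
-/

set_option autoImplicit false
set_option linter.style.haveILetI false

noncomputable section

namespace CfsgLib.CyclicDefect

open Cardinal

variable (p : ℕ) [hp : Fact p.Prime]

/-- The algebraically closed residue field. -/
abbrev ResField : Type := AlgebraicClosure (ZMod p)

instance resField_charP : CharP (ResField p) p :=
  charP_of_injective_algebraMap (algebraMap (ZMod p) (ResField p)).injective p

instance resField_perfectRing : PerfectRing (ResField p) p :=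
  PerfectField.toPerfectRing p

/-- The ring of Witt vectors of the residue field. -/
abbrev WittRing : Type := WittVector p (ResField p)

theorem wittRing_prime : Irreducible (p : WittRing p) := WittVector.irreducible p

instance wittRing_charZero : CharZero (WittRing p) := by
  refine charZero_of_inj_zero fun n hn => ?_
  by_contra h
  obtain ⟨e, q, hq, rfl⟩ := Nat.exists_eq_pow_mul_and_not_dvd h p hp.out.ne_one
  rw [Nat.cast_mul, Nat.cast_pow, mul_eq_zero] at hn
  rcases hn with h1 | h1
  · exact (wittRing_prime p).ne_zero (eq_zero_of_pow_eq_zero h1)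
  · have h2 := congrArg WittVector.constantCoeff h1
    rw [map_natCast, map_zero, CharP.cast_eq_zero_iff (ResField p) p] at h2
    exact hq h2

/-- The coefficient data. -/
def wittCoeff : Coeff p (WittRing p) (ResField p) where
  π := WittVector.constantCoeff
  surj := fun a => ⟨WittVector.teichmuller p a, WittVector.teichmuller_coeff_zero p a⟩
  ker := fun c hc => by
    by_cases h0 : c = 0
    · rw [h0]; exact dvd_zero _
    obtain ⟨m, b, hb, hcb⟩ := WittVector.exists_eq_pow_p_mul c h0
    rcases m with _ | m
    · rw [pow_zero, one_mul] at hcb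
      exact absurd (hcb ▸ hc) hb
    · rw [hcb, pow_succ', mul_assoc]
      exact dvd_mul_right _ _
  unit := fun c hc => WittVector.isUnit_of_coeff_zero_ne_zero c hc

instance wittCoeff_surjective : RingHomSurjective (wittCoeff p).π := ⟨(wittCoeff p).surj⟩

/-- The field of fractions. -/
abbrev WittField : Type := FractionRing (WittRing p)

theorem card_wittField : #(WittField p) = continuum := by
  rw [IsFractionRing.cardinalMk (R := WittRing p) (L := WittField p)]
  haveI : Infinite (ResField p) := inferInstance
  have hk : #(ResField p) = ℵ₀ := le_antisymm (by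
    refine (Algebra.IsAlgebraic.cardinalMk_le_max (ZMod p) (ResField p)).trans ?_
    exact max_le (le_of_lt (Cardinal.lt_aleph0_of_finite (ZMod p))) le_rfl) (Cardinal.aleph0_le_mk _)
  have e : WittRing p ≃ (ℕ → ResField p) :=
    ⟨fun x => x.coeff, fun f => ⟨f⟩, fun _ => rfl, fun _ => rfl⟩
  rw [Cardinal.mk_congr e, Cardinal.mk_arrow, Cardinal.lift_id, Cardinal.lift_id, hk, Cardinal.mk_nat,
    Cardinal.aleph0_power_aleph0]

theorem exists_embedding : Nonempty (WittField p →+* ℂ) := by
  have hA : #(AlgebraicClosure (WittField p)) = continuum := le_antisymm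
    ((Algebra.IsAlgebraic.cardinalMk_le_max (WittField p) _).trans
      (by rw [card_wittField]; exact max_le le_rfl (Cardinal.aleph0_le_continuum)))
    (card_wittField p ▸ Cardinal.mk_le_of_injective
      (algebraMap (WittField p) (AlgebraicClosure (WittField p))).injective)
  haveI : CharZero (WittField p) := IsFractionRing.charZero (WittRing p)
  haveI : CharZero (AlgebraicClosure (WittField p)) :=
    charZero_of_injective_algebraMap (algebraMap (WittField p) _).injective
  obtain ⟨e⟩ := IsAlgClosed.ringEquiv_of_equiv_of_charZero
    (K := AlgebraicClosure (WittField p)) (L := ℂ) (hA ▸ Cardinal.aleph0_lt_continuum)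
    (Cardinal.eq.1 (hA.trans Cardinal.mk_complex.symm))
  exact ⟨e.toRingHom.comp (algebraMap (WittField p) _)⟩

/-- The embedding into the complex numbers. -/
def toC : WittRing p →+* ℂ :=
  (exists_embedding p).some.comp (algebraMap (WittRing p) (WittField p))

/-- The image of the field of fractions. -/
def unramField : Subfield ℂ := (exists_embedding p).some.fieldRange

theorem toC_injective : Function.Injective (toC p) :=
  (exists_embedding p).some.injective.comp (IsFractionRing.injective _ _)

theorem toC_mem (a : WittRing p) : toC p a ∈ unramField p := ⟨_, rfl⟩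

/-- Roots of unity of order prime to `p` are unramified. -/
theorem root_mem {n : ℕ} (hn : ¬ p ∣ n) {ζ : ℂ} (hζ : ζ ^ n = 1) : ζ ∈ unramField p := by
  have hn0 : n ≠ 0 := fun h => hn (h ▸ dvd_zero p)
  haveI : NeZero n := ⟨hn0⟩
  haveI : NeZero (n : ResField p) := ⟨fun h => hn ((CharP.cast_eq_zero_iff (ResField p) p n).1 h)⟩
  obtain ⟨w, hw⟩ := HasEnoughRootsOfUnity.exists_primitiveRoot (ResField p) n
  have hinj : Function.Injective (WittVector.teichmuller p : ResField p →* WittRing p) :=
    fun a b h => by
      have := congrArg (fun z => z.coeff 0) h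
      simpa only [WittVector.teichmuller_coeff_zero] using this
  have h2 := (hw.map_of_injective hinj).map_of_injective (toC_injective p)
  obtain ⟨i, -, rfl⟩ := h2.eq_pow_of_pow_eq_one hζ
  exact pow_mem (toC_mem p _) i

/-- An element of `ℤ[ζ]`, `ζ` of order `p`, is unramified only if it is rational. -/
theorem coeff_eq_of_mem {ζ : ℂ} (hζ : IsPrimitiveRoot ζ p) (a : ℕ → ℤ)
    (ha : ∑ i ∈ Finset.range p, (a i : ℂ) * ζ ^ i ∈ unramField p) :
    ∀ i, 0 < i → i < p → a i = a 1 := by
  obtain ⟨c, hc⟩ := ha
  set j := (exists_embedding p).some
  haveI : CharZero (WittField p) := IsFractionRing.charZero (WittRing p)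
  -- subtract the last coefficient
  have hp1 := hp.out.one_lt
  have hgeom : ∑ i ∈ Finset.range p, ζ ^ i = 0 := hζ.geom_sum_eq_zero hp1
  set q : Polynomial (WittField p) := Polynomial.C (-c) +
    ∑ i ∈ Finset.range p, Polynomial.C ((a i - a (p - 1) : ℤ) : WittField p) * Polynomial.X ^ i with hq
  have hroot : Polynomial.eval₂ j ζ q = 0 := by
    rw [hq, Polynomial.eval₂_add, Polynomial.eval₂_finsetSum]
    have hco : ∀ i, j ((a i - a (p - 1) : ℤ) : WittField p) = (a i : ℂ) - (a (p - 1) : ℂ) := fun i => by
      rw [map_intCast, Int.cast_sub]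
    simp only [Polynomial.eval₂_mul, Polynomial.eval₂_C, Polynomial.eval₂_X_pow, hco]
    simp only [map_neg, sub_mul, Finset.sum_sub_distrib, ← Finset.mul_sum, hgeom, mul_zero, sub_zero, hc]
    ring
  have hdeg : q.degree < ((p - 1 : ℕ) : WithBot ℕ) := by
    rw [hq]
    refine lt_of_le_of_lt (Polynomial.degree_add_le _ _) (max_lt ?_ ?_)
    · exact lt_of_le_of_lt Polynomial.degree_C_le (by exact_mod_cast (show 0 < p - 1 by omega))
    · refine lt_of_le_of_lt (Polynomial.degree_sum_le _ _) ((Finset.sup_lt_iff (WithBot.bot_lt_coe _)).2
        fun i hi => ?_)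
      by_cases hi' : i = p - 1
      · rw [hi', sub_self, Int.cast_zero, map_zero, zero_mul, Polynomial.degree_zero]
        exact WithBot.bot_lt_coe _
      · refine lt_of_le_of_lt (Polynomial.degree_C_mul_X_pow_le i _) ?_
        have := Finset.mem_range.1 hi
        exact_mod_cast (show i < p - 1 by omega)
  -- the cyclotomic polynomial stays irreducible
  have hirr : Irreducible (Polynomial.cyclotomic p (WittField p)) := by
    rw [← Polynomial.map_cyclotomic p (algebraMap (WittRing p) (WittField p)),
      ← (Polynomial.cyclotomic.monic p (WittRing p)).irreducible_iff_irreducible_map_fraction_map]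
    have hcomp : Irreducible ((Polynomial.cyclotomic p (WittRing p)).comp (Polynomial.X + 1)) := by
      have hI : ((Polynomial.cyclotomic p (WittRing p)).comp (Polynomial.X + 1)).IsEisensteinAt
          (Ideal.span {(p : WittRing p)}) := by
        have h := cyclotomic_comp_X_add_one_isEisensteinAt p
        have hmap : (Polynomial.cyclotomic p (WittRing p)).comp (Polynomial.X + 1) =
            ((Polynomial.cyclotomic p ℤ).comp (Polynomial.X + 1)).map (Int.castRingHom (WittRing p)) := by
          rw [Polynomial.map_comp, Polynomial.map_cyclotomic, Polynomial.map_add, Polynomial.map_X,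
            Polynomial.map_one]
        have hm : ((Polynomial.cyclotomic p ℤ).comp (Polynomial.X + 1)).Monic :=
          (Polynomial.cyclotomic.monic p ℤ).comp_X_add_C 1
        refine ⟨?_, ?_, ?_⟩
        · rw [hmap, (hm.map _).leadingCoeff, Ideal.mem_span_singleton]
          exact fun hd => (wittRing_prime p).not_isUnit (isUnit_of_dvd_one hd)
        · intro i hi
          rw [hmap, Polynomial.coeff_map, Ideal.mem_span_singleton]
          rw [hmap, hm.natDegree_map] at hi
          obtain ⟨b, hb⟩ := Ideal.mem_span_singleton.1 (h.mem hi)
          exact ⟨(b : WittRing p), by rw [hb]; simp⟩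
        · rw [hmap, Polynomial.coeff_map, Ideal.span_singleton_pow, Ideal.mem_span_singleton]
          intro hd
          have hval : ((Polynomial.cyclotomic p ℤ).comp (Polynomial.X + 1)).coeff 0 = p := by
            rw [Polynomial.coeff_zero_eq_eval_zero, Polynomial.eval_comp, Polynomial.eval_add,
              Polynomial.eval_X, Polynomial.eval_one, zero_add, Polynomial.eval_one_cyclotomic_prime]
          rw [hval, map_natCast, pow_two] at hd
          obtain ⟨b, hb⟩ := hd
          refine (wittRing_prime p).not_isUnit (isUnit_of_dvd_one ⟨b, ?_⟩)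
          exact mul_left_cancel₀ (wittRing_prime p).ne_zero (by rw [mul_one]; rw [← mul_assoc]; exact hb)
      have hprime : (Ideal.span {(p : WittRing p)}).IsPrime :=
        (Ideal.span_singleton_prime (wittRing_prime p).ne_zero).2 (wittRing_prime p).prime
      have hm : ((Polynomial.cyclotomic p (WittRing p)).comp (Polynomial.X + 1)).Monic := by
        simpa using (Polynomial.cyclotomic.monic p (WittRing p)).comp_X_add_C 1
      refine hI.irreducible hprime hm.isPrimitive ?_
      rw [Polynomial.natDegree_comp, show (Polynomial.X + 1 : Polynomial (WittRing p)) =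
        Polynomial.X + Polynomial.C 1 by rw [map_one], Polynomial.natDegree_X_add_C, mul_one,
        Polynomial.natDegree_cyclotomic]
      exact Nat.totient_pos.2 hp.out.pos
    have he : Polynomial.algEquivAevalXAddC (1 : WittRing p) (Polynomial.cyclotomic p (WittRing p)) =
        (Polynomial.cyclotomic p (WittRing p)).comp (Polynomial.X + 1) := by
      simp [Polynomial.algEquivAevalXAddC, Polynomial.algEquivOfCompEqX, Polynomial.comp_eq_aeval]
    rw [← he] at hcomp
    exact (MulEquiv.irreducible_iff (Polynomial.algEquivAevalXAddC (1 : WittRing p))).1 hcomp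
  have hq0 : q = 0 := by
    by_contra hne
    letI : Algebra (WittField p) ℂ := j.toAlgebra
    have hm := minpoly.eq_of_irreducible_of_monic hirr (x := ζ) (by
      rw [Polynomial.aeval_def, ← Polynomial.eval_map, Polynomial.map_cyclotomic]
      exact hζ.isRoot_cyclotomic hp.out.pos) (Polynomial.cyclotomic.monic p _)
    have hle := minpoly.degree_le_of_ne_zero (WittField p) ζ hne hroot
    rw [← hm, Polynomial.degree_cyclotomic, Nat.totient_prime hp.out] at hle
    exact absurd hdeg (not_lt.2 hle)
  have hcoef : ∀ i, 0 < i → i < p → a i = a (p - 1) := by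
    intro i hi hip
    have h1 := congrArg (fun r => Polynomial.coeff r i) hq0
    simp only [hq, Polynomial.coeff_add, Polynomial.coeff_C, if_neg hi.ne', zero_add,
      Polynomial.finsetSum_coeff, Polynomial.coeff_C_mul_X_pow, Finset.sum_ite_eq,
      Finset.mem_range.2 hip, if_true, Polynomial.coeff_zero, Int.cast_eq_zero, sub_eq_zero] at h1
    exact h1
  exact fun i hi hip => by rw [hcoef i hi hip, hcoef 1 one_pos hp1]

end CfsgLib.CyclicDefect
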