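import Cfsg.Agent.Lib.CyclicDefect.CharC
import Cfsg.Agent.Lib.Blocks.ThirdMain
import Cfsg.Agent.Lib.BlockCover.CentralizedDefect

/-!
# The blocks of the centraliser and their induced blocks
-/

set_option autoImplicit false
set_option linter.style.haveILetI false
set_option linter.unusedSectionVars false

noncomputable section

namespace CfsgLib.CyclicDefect

open Cfsg CfsgLib.Characters
open scoped ComplexConjugate

universe u

variable {p : ℕ} [hp : Fact p.Prime] {G : Type u} [Group G] [Fintype G] (L : Loc p G)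
  {M : Ideal AlgInt}

/-- Conjugation of characters of the `p'`-part by the normaliser. -/
def Loc.orbit (θ : IrrCharacter L.O) : Set (IrrCharacter L.O) :=
  {φ | ∃ n : L.N, ∀ y : L.O, ∀ z : L.O, (z : G) = (n : G) * y * (n : G)⁻¹ →
    (φ : L.O → ℂ) y = (θ : L.O → ℂ) z}

theorem Loc.mem_orbit_self (θ : IrrCharacter L.O) : θ ∈ L.orbit θ :=
  ⟨1, fun y z h => congrArg _ (Subtype.ext (by simpa using h.symm))⟩

/-- Conjugation by an element of the normaliser as an automorphism of the `p'`-part. -/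
def Loc.aut (n : L.N) : L.O ≃* L.O where
  toFun y := ⟨(n : G) * y * (n : G)⁻¹, L.conj_mem_O n.2 y.2⟩
  invFun y := ⟨(n : G)⁻¹ * y * n, by simpa using L.conj_mem_O (inv_mem n.2) y.2⟩
  left_inv y := Subtype.ext (by simp [mul_assoc])
  right_inv y := Subtype.ext (by simp [mul_assoc])
  map_mul' a b := Subtype.ext (by simp [mul_assoc])

/-- The conjugate of a character by an element of the normaliser. -/
def Loc.conjIrr (n : L.N) (θ : IrrCharacter L.O) : IrrCharacter L.O :=
  ⟨fun y => (θ : L.O → ℂ) (L.aut n y), CharCorr.isIrrCharacter_comp_equiv θ.2 (L.aut n)⟩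

theorem Loc.conjIrr_apply (n : L.N) (θ : IrrCharacter L.O) (y : L.O) :
    (L.conjIrr n θ : L.O → ℂ) y = (θ : L.O → ℂ) (L.aut n y) := rfl

theorem Loc.conjIrr_mul (a b : L.N) (θ : IrrCharacter L.O) :
    L.conjIrr b (L.conjIrr a θ) = L.conjIrr (a * b) θ :=
  Subtype.ext (funext fun y => congrArg (θ : L.O → ℂ) (Subtype.ext (by simp [Loc.aut, mul_assoc])))

theorem Loc.conjIrr_one (θ : IrrCharacter L.O) : L.conjIrr 1 θ = θ :=
  Subtype.ext (funext fun y => congrArg (θ : L.O → ℂ) (Subtype.ext (by simp [Loc.aut])))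

theorem Loc.mem_orbit_iff {θ φ : IrrCharacter L.O} :
    φ ∈ L.orbit θ ↔ ∃ n : L.N, φ = L.conjIrr n θ := by
  constructor
  · rintro ⟨n, hn⟩
    exact ⟨n, Subtype.ext (funext fun y => hn y (L.aut n y) rfl)⟩
  · rintro ⟨n, rfl⟩
    exact ⟨n, fun y z h => congrArg (θ : L.O → ℂ) (Subtype.ext h.symm)⟩

theorem Loc.orbit_conj_iff (n : L.N) {θ φ : IrrCharacter L.O} :
    L.conjIrr n φ ∈ L.orbit θ ↔ φ ∈ L.orbit θ := by
  simp only [L.mem_orbit_iff]
  constructor
  · rintro ⟨m, hm⟩
    refine ⟨m * n⁻¹, ?_⟩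
    rw [← L.conjIrr_mul, ← hm, L.conjIrr_mul, mul_inv_cancel, L.conjIrr_one]
  · rintro ⟨m, rfl⟩
    exact ⟨m * n, L.conjIrr_mul m n θ⟩

theorem Loc.conjIrr_bijective (n : L.N) : Function.Bijective (L.conjIrr n) := by
  refine Function.bijective_iff_has_inverse.2 ⟨L.conjIrr n⁻¹, fun θ => ?_, fun θ => ?_⟩
  · rw [L.conjIrr_mul, mul_inv_cancel, L.conjIrr_one]
  · rw [L.conjIrr_mul, inv_mul_cancel, L.conjIrr_one]

theorem Loc.blockCoeff_orbit_conj [Fintype L.O] (θ : IrrCharacter L.O) (n : L.N) (y : L.O) :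
    blockCoeff (L.orbit θ) (L.aut n y) = blockCoeff (L.orbit θ) y := by
  classical
  rw [Blocks.blockCoeff_eq_sum, Blocks.blockCoeff_eq_sum, Finset.sum_filter, Finset.sum_filter]
  congr 1
  refine ((L.conjIrr_bijective n).sum_comp _).symm.trans (Finset.sum_congr rfl fun φ _ => ?_) |>.symm
  simp only [L.orbit_conj_iff, L.conjIrr_apply, map_one]

/-- Conjugate elements of the `p'`-part are conjugate in the normaliser. -/
theorem Loc.fusion_O {y y' : L.O} (h : IsConj (y : G) (y' : G)) :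
    ∃ n : L.N, y' = L.aut n y := by
  obtain ⟨c, hc⟩ := isConj_iff.1 h
  obtain ⟨n, hn, he⟩ := L.P.conj_eq_normalizer_conj_of_mem_centralizer (y : G) c⁻¹
    (L.O_le_C y.2) (by rw [inv_inv, hc]; exact L.O_le_C y'.2)
  refine ⟨⟨n⁻¹, inv_mem hn⟩, Subtype.ext ?_⟩
  rw [inv_inv, hc] at he
  show (y' : G) = n⁻¹ * y * n⁻¹⁻¹
  rw [inv_inv, he]

variable [Fintype L.C] [Fintype L.O]

/-- The element of the group algebra of the centraliser given by a function on the `p'`-part. -/
def Loc.regElt (f : L.O → ℂ) : MonoidAlgebra ℂ L.C :=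
  open scoped Classical in
  Blocks.ofFun fun c : L.C => if p ∣ orderOf (c : G) then 0 else f (L.projO c)

theorem Loc.dvd_orderOf_el (i : Fin p) (y : L.O) : p ∣ orderOf (L.el i y : G) ↔ (i : ℕ) ≠ 0 :=
  L.regular_iff i.2 y.2

theorem Loc.omega_regElt (lam : L.Dual) (θ : IrrCharacter L.O) (f : L.O → ℂ) :
    Blocks.omega (L.xi lam θ : L.C → ℂ) (L.regElt f) =
      Blocks.omega (θ : L.O → ℂ) (Blocks.ofFun f) := by
  classical
  rw [Blocks.omega_apply, Blocks.omega_apply, L.sum_C,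
    Finset.sum_eq_single (⟨0, hp.out.pos⟩ : Fin p)]
  · congr 1
    · refine Finset.sum_congr rfl fun y _ => ?_
      rw [Loc.regElt, Blocks.coeff_ofFun, if_neg (by rw [L.dvd_orderOf_el]; simp), L.projO_el,
        L.xi_el, pow_zero, one_mul, Blocks.coeff_ofFun]
    · have h1 : (1 : L.C) = L.el 0 1 := Subtype.ext (by simp [Loc.el])
      rw [h1, L.xi_el, pow_zero, one_mul]
  · intro i _ hi
    refine Finset.sum_eq_zero fun y _ => ?_
    rw [Loc.regElt, Blocks.coeff_ofFun,
      if_pos ((L.dvd_orderOf_el i y).2 fun h => hi (Fin.ext h)), zero_mul]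
  · exact fun h => absurd (Finset.mem_univ _) h

theorem Loc.regElt_center {f : L.O → ℂ} (hf : IsClassFunction L.O f) :
    L.regElt f ∈ Subalgebra.center ℂ (MonoidAlgebra ℂ L.C) := by
  classical
  rw [Blocks.mem_center_iff_coeff]
  intro c h
  have e : (L.projO (h * c * h⁻¹)) = L.projO h * L.projO c * (L.projO h)⁻¹ := by
    rw [map_mul, map_mul, map_inv]
  have ho : orderOf ((h * c * h⁻¹ : L.C) : G) = orderOf (c : G) := by
    simpa using (MulAut.conj (h : G)).orderOf_eq (c : G)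
  simp only [Loc.regElt, Blocks.coeff_ofFun, e, hf _ _, ho]

theorem Loc.blockCoeff_mem (hM : IsPModular p M) (A : Set (IrrCharacter L.O)) (y : L.O) :
    MemLocalRing M (blockCoeff A y) := by
  classical
  rw [Blocks.blockCoeff_eq_sum]
  refine (Blocks.lRing hM).mul_mem (Blocks.inv_natCast_mem_lRing hM L.not_dvd_card_O)
    ((Blocks.lRing hM).sum_mem fun φ _ => (Blocks.lRing hM).mul_mem ?_ ?_)
  · exact Blocks.isIntegral_mem_lRing hM (isIntegral_of_isCharacter (irr_isCharacter φ) 1)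
  · exact Blocks.isIntegral_mem_lRing hM
      (isIntegral_conj (isIntegral_of_isCharacter (irr_isCharacter φ) y))

theorem Loc.regElt_mem (hM : IsPModular p M) (A : Set (IrrCharacter L.O)) (c : L.C) :
    MemLocalRing M ((L.regElt (blockCoeff A)).coeff c) := by
  classical
  simp only [Loc.regElt, Blocks.coeff_ofFun]
  split_ifs
  · exact (Blocks.lRing hM).zero_mem
  · exact L.blockCoeff_mem hM A _

theorem Loc.omega_regElt_block (A : Set (IrrCharacter L.O)) [DecidablePred (· ∈ A)] (lam : L.Dual)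
    (θ : IrrCharacter L.O) :
    Blocks.omega (L.xi lam θ : L.C → ℂ) (L.regElt (blockCoeff A)) = if θ ∈ A then 1 else 0 := by
  rw [L.omega_regElt]
  exact (Blocks.omega_blockIdem A θ).trans (by congr)

/-- The block of the centraliser belonging to a character of the `p'`-part. -/
def Loc.blk (M : Ideal AlgInt) (θ : IrrCharacter L.O) : Set (IrrCharacter L.C) :=
  blockOf M (L.xi 1 θ : L.C → ℂ)

theorem Loc.xi_mem_blk (hM : IsPModular p M) (lam : L.Dual) (θ : IrrCharacter L.O) :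
    L.xi lam θ ∈ L.blk M θ := by
  show SameBlock M _ _
  intro c
  obtain ⟨i, -, y, rfl⟩ := L.exists_el c
  have h1 : (1 : L.C) = L.el 0 1 := Subtype.ext (by simp [Loc.el])
  have e : centralChar (L.xi lam θ : L.C → ℂ) (L.el i y) =
      (lam ⟨L.x, L.hxP⟩ : ℂ) ^ i * centralChar (L.xi 1 θ : L.C → ℂ) (L.el i y) := by
    simp only [centralChar, h1, L.xi_el, MonoidHom.one_apply, Units.val_one, one_pow, pow_zero,
      one_mul]
    ring
  have hroot : MemLocalIdeal M ((lam ⟨L.x, L.hxP⟩ : ℂ) ^ i - 1) := by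
    refine CentralDefect.root_sub_one_mem hM (k := 1) ?_
    rw [pow_one, ← pow_mul, mul_comm, pow_mul, ← Units.val_pow_eq_pow_val, ← map_pow,
      show (⟨L.x, L.hxP⟩ : (L.P : Subgroup G)) ^ p = 1 from Subtype.ext L.x_pow_p, map_one,
      Units.val_one, one_pow]
  have h2 := Blocks.MemLocalIdeal.neg hM
    (Blocks.MemLocalIdeal.mul_right hM hroot
      (Blocks.centralChar_mem_lRing hM (L.xi 1 θ) (L.el i y)))
  rw [sub_one_mul, neg_sub] at h2
  rw [e]
  exact h2

theorem Loc.eq_of_mem_blk (hM : IsPModular p M) {lam : L.Dual} {θ φ : IrrCharacter L.O}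
    (h : L.xi lam φ ∈ L.blk M θ) : φ = θ := by
  classical
  have hcl : IsClassFunction L.O (blockCoeff ({θ} : Set (IrrCharacter L.O))) := fun a b =>
    Blocks.blockCoeff_conj _ a b
  have h1 := Blocks.omega_congr_of_sameBlock hM (χ := L.xi lam φ) (ψ := L.xi 1 θ) (Blocks.SameBlock.symm hM h)
    (L.regElt_center hcl) (L.regElt_mem hM _)
  rw [L.omega_regElt_block, L.omega_regElt_block, if_pos (Set.mem_singleton θ)] at h1
  by_contra hne
  rw [if_neg (fun h' : φ ∈ ({θ} : Set (IrrCharacter L.O)) => hne h')] at h1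
  exact Blocks.not_memLocalIdeal_one hM (by simpa using Blocks.MemLocalIdeal.neg hM h1)

theorem Loc.inducedDefined (hM : IsPModular p M) (θ : IrrCharacter L.O) :
    InducedBlockDefined M L.C (L.blk M θ) :=
  Blocks.inducedBlockDefined hM L.P.2 L.P_le_C le_rfl L.C_le_N (Blocks.isPBlock_blockOf _)

/-- The block of the group induced by a character of the `p'`-part. -/
def Loc.indB (hM : IsPModular p M) (θ : IrrCharacter L.O) : Set (IrrCharacter G) :=
  (L.inducedDefined hM θ).choose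

theorem Loc.indB_spec (hM : IsPModular p M) (θ : IrrCharacter L.O) :
    IsInducedBlock M L.C (L.blk M θ) (L.indB hM θ) :=
  (L.inducedDefined hM θ).choose_spec

/-- Different orbits induce different blocks. -/
theorem Loc.mem_orbit_of_indB_eq (hM : IsPModular p M) {θ φ : IrrCharacter L.O}
    (h : L.indB hM φ = L.indB hM θ) : φ ∈ L.orbit θ := by
  classical
  let f : G → ℂ := fun g => if hg : ∃ y : L.O, IsConj g (y : G)
    then blockCoeff (L.orbit θ) hg.choose else 0
  have hf : ∀ (g : G) (y : L.O), IsConj g (y : G) → f g = blockCoeff (L.orbit θ) y := by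
    intro g y hy
    have hg : ∃ y : L.O, IsConj g (y : G) := ⟨y, hy⟩
    simp only [f, dif_pos hg]
    obtain ⟨n, hn⟩ := L.fusion_O (hg.choose_spec.symm.trans hy)
    rw [hn, L.blockCoeff_orbit_conj]
  have hfmem : ∀ g, MemLocalRing M (f g) := fun g => by
    simp only [f]
    split_ifs
    · exact L.blockCoeff_mem hM _ _
    · exact (Blocks.lRing hM).zero_mem
  set z := Blocks.ofFun f with hzdef
  have hz : z ∈ Subalgebra.center ℂ (MonoidAlgebra ℂ G) := by
    rw [Blocks.mem_center_iff_coeff]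
    intro g c
    simp only [hzdef, Blocks.coeff_ofFun]
    by_cases hg : ∃ y : L.O, IsConj g (y : G)
    · obtain ⟨y, hy⟩ := hg
      rw [hf g y hy, hf _ y ((isConj_iff.2 ⟨c, rfl⟩ : IsConj g (c * g * c⁻¹)).symm.trans hy)]
    · have hg' : ¬ ∃ y : L.O, IsConj (c * g * c⁻¹) (y : G) := fun ⟨y, hy⟩ =>
        hg ⟨y, (isConj_iff.2 ⟨c, rfl⟩ : IsConj g (c * g * c⁻¹)).trans hy⟩
      simp only [f, dif_neg hg, dif_neg hg']
  have hres : Blocks.resH L.C z = L.regElt (blockCoeff (L.orbit θ)) := by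
    refine MonoidAlgebra.ext (Finsupp.ext fun c => ?_)
    rw [Blocks.coeff_resH, hzdef, Blocks.coeff_ofFun, Loc.regElt, Blocks.coeff_ofFun]
    obtain ⟨i, hi, y, rfl⟩ := L.exists_el c
    split_ifs with hd
    · simp only [f]
      rw [dif_neg]
      rintro ⟨y', hy'⟩
      obtain ⟨a, ha⟩ := isConj_iff.1 hy'
      have ho := (MulAut.conj a).orderOf_eq (L.el i y : G)
      rw [MulAut.conj_apply, ha] at ho
      exact (L.mem_O.1 y'.2).2 (ho ▸ hd)
    · have hi0 : i = 0 := by
        by_contra h0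
        exact hd ((L.dvd_orderOf_el ⟨i, hi⟩ y).2 h0)
      subst hi0
      rw [L.projO_el, hf _ y (by rw [L.coe_el, pow_zero, one_mul])]
  obtain ⟨χ, hχ⟩ := Blocks.IsPBlock.nonempty hM (L.indB_spec hM θ).2.1
  have h1 := Blocks.omega_resH_congr hM (L.indB_spec hM θ) (L.xi_mem_blk hM 1 θ) hχ hz hfmem
  have h2 := Blocks.omega_resH_congr hM (L.indB_spec hM φ) (L.xi_mem_blk hM 1 φ) (h ▸ hχ) hz hfmem
  rw [hres, L.omega_regElt_block, if_pos (L.mem_orbit_self θ)] at h1
  rw [hres, L.omega_regElt_block] at h2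
  by_contra hne
  rw [if_neg hne] at h2
  exact Blocks.not_memLocalIdeal_one hM (by simpa using Blocks.MemLocalIdeal.sub hM h1 h2)

variable [Fintype L.Dual]

theorem Loc.const_of_sum {f : L.Dual → ℂ}
    (h : ∀ i, 0 < i → i < p → ∑ lam : L.Dual, f lam * (lam ⟨L.x, L.hxP⟩ : ℂ) ^ i = 0)
    (lam : L.Dual) : (p : ℂ) * f lam = ∑ mu : L.Dual, f mu := by
  classical
  have e : ∑ i : Fin p, (∑ mu : L.Dual, f mu * (mu ⟨L.x, L.hxP⟩ : ℂ) ^ (i : ℕ)) *
      conj ((lam ⟨L.x, L.hxP⟩ : ℂ) ^ (i : ℕ)) = (p : ℂ) * f lam := by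
    simp only [Finset.sum_mul, mul_assoc]
    rw [Finset.sum_comm]
    simp only [← Finset.mul_sum, L.sum_dual_pow, mul_ite, mul_zero]
    rw [Finset.sum_ite_eq', if_pos (Finset.mem_univ lam), mul_comm]
  rw [← e, Finset.sum_eq_single (⟨0, hp.out.pos⟩ : Fin p)]
  · simp
  · intro i _ hi
    rw [h i (Nat.pos_of_ne_zero fun h0 => hi (Fin.ext h0)) i.2, zero_mul]
  · exact fun h' => absurd (Finset.mem_univ _) h'

/-- Characters outside the induced block have constant coefficients. -/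
theorem Loc.coef_const (hM : IsPModular p M) {χ : IrrCharacter G} {θ : IrrCharacter L.O}
    (hχ : χ ∉ L.indB hM θ) (lam mu : L.Dual) :
    L.coef (χ : G → ℂ) lam θ = L.coef (χ : G → ℂ) mu θ := by
  classical
  have hz : ∀ i, 0 < i → i < p →
      ∑ nu : L.Dual, L.coef (χ : G → ℂ) nu θ * (nu ⟨L.x, L.hxP⟩ : ℂ) ^ i = 0 := by
    intro i hi hip
    have hu : IsPPart p ((L.el i 1 : L.C) : G) (L.x ^ i) := by
      refine ⟨1, ?_, Commute.one_right _, ⟨1, ?_⟩, ?_⟩
      · simp [Loc.el]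
      · rw [pow_one]
        refine orderOf_eq_prime ?_ (L.x_pow_ne hi hip)
        rw [← pow_mul, mul_comm, pow_mul, L.x_pow_p, one_pow]
      · rw [orderOf_one]; exact hp.out.not_dvd_one
    have h1 := Blocks.secondMain_idempotent hM (L.indB_spec hM θ) (L.el i 1) hu
      (L.centralizer_pow hi hip).le hχ
    have hcl : IsClassFunction L.C (fun c : L.C => (χ : G → ℂ) c) := fun a b =>
      irr_isClassFunction χ (a : G) b
    have h2 := Blocks.sum_blockCoeff_mul_eq_blockPart (L.blk M θ) hcl (L.el i 1)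
    simp only [Subgroup.coe_mul] at h2
    rw [h1, Blocks.blockPart_eq_sum, Finset.sum_filter, ← L.pairEquiv.sum_comp,
      Fintype.sum_prod_type] at h2
    simp only [L.pairEquiv_apply] at h2
    have h3 : ∀ (nu : L.Dual) (φ : IrrCharacter L.O),
        L.xi nu φ ∈ L.blk M θ ↔ φ = θ :=
      fun nu φ => ⟨L.eq_of_mem_blk hM, fun h => h ▸ L.xi_mem_blk hM nu φ⟩
    simp only [h3, Finset.sum_ite_eq', Finset.mem_univ, if_true, L.xi_el] at h2
    simp only [← mul_assoc, ← Finset.sum_mul] at h2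
    exact ((mul_eq_zero.1 h2.symm).resolve_right (irr_one_ne_zero θ))
  exact mul_left_cancel₀ (Nat.cast_ne_zero.2 hp.out.ne_zero : (p : ℂ) ≠ 0)
    ((L.const_of_sum hz lam).trans (L.const_of_sum hz mu).symm)

theorem Loc.coef_const_of_notMem_orbit (hM : IsPModular p M) {χ : IrrCharacter G}
    {θ φ : IrrCharacter L.O} (hχ : χ ∈ L.indB hM θ) (hφ : φ ∉ L.orbit θ) (lam mu : L.Dual) :
    L.coef (χ : G → ℂ) lam φ = L.coef (χ : G → ℂ) mu φ := by
  refine L.coef_const hM (fun h => hφ (L.mem_orbit_of_indB_eq hM ?_)) lam mu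
  rw [Blocks.IsPBlock.eq_blockOf hM (L.indB_spec hM φ).2.1 h,
    Blocks.IsPBlock.eq_blockOf hM (L.indB_spec hM θ).2.1 hχ]

end CfsgLib.CyclicDefect
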