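import Cfsg.Agent.Lib.CyclicDefect.Core

/-!
# The two subquotients and the bound on the character value
-/

set_option autoImplicit false
set_option linter.style.haveILetI false
set_option linter.unusedSectionVars false

noncomputable section

namespace CfsgLib.CyclicDefect

open Module

universe u

variable {p : ℕ} [hp : Fact p.Prime] {G : Type u} [Group G] [Finite G]
  {O k : Type*} [CommRing O] [IsDomain O] [IsPrincipalIdealRing O] [CharZero O]
  [IsAdicComplete (Ideal.span {(p : O)}) O] [Field k] [IsAlgClosed k] [CharP k p]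
  {ι : Type*} [Fintype ι] [DecidableEq ι] (K : Coeff p O k) (S : Setup p G O ι)

theorem Coeff.hpk (_K : Coeff p O k) : (p : k) = 0 := CharP.cast_eq_zero k p

theorem Setup.normMat_eq_sum :
    normMat p S.A = ∑ i ∈ Finset.range p, S.ρ (S.x ^ i) :=
  Finset.sum_congr rfl fun i _ => S.A_pow i

theorem Setup.conj_pow {n : G}
    (hn : n ∈ Subgroup.normalizer ((S.P : Subgroup G) : Set G)) :
    ∃ a : ℕ, S.x * n = n * S.x ^ a := by
  have h1 : n⁻¹ * S.x * n ∈ (S.P : Subgroup G) := by
    have := (Subgroup.mem_normalizer_iff.1 (inv_mem hn) S.x).1 S.hxP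
    rwa [inv_inv] at this
  rw [← zpowers_eq S.P S.hx S.hxP S.hP] at h1
  obtain ⟨i, hi⟩ := Subgroup.mem_zpowers_iff.1 h1
  refine ⟨(i % (orderOf S.x : ℤ)).toNat, ?_⟩
  rw [← zpow_natCast, Int.toNat_of_nonneg (Int.emod_nonneg _
    (by rw [S.hx]; exact_mod_cast hp.out.ne_zero)), zpow_mod_orderOf, hi]
  group

theorem Setup.A_mul_conj {n : G} (hn : n ∈ Subgroup.normalizer ((S.P : Subgroup G) : Set G)) :
    ∃ a : ℕ, S.A * S.ρ n = S.ρ n * S.A ^ a := by
  obtain ⟨a, ha⟩ := S.conj_pow hn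
  refine ⟨a, ?_⟩
  rw [S.A_pow, Setup.A, ← map_mul, ← map_mul, ha]

theorem Setup.conj_A {n : G} (hn : n ∈ Subgroup.normalizer ((S.P : Subgroup G) : Set G)) :
    ∃ a : ℕ, S.ρ n * S.A = S.A ^ a * S.ρ n := by
  obtain ⟨a, ha⟩ := S.conj_pow (inv_mem hn)
  refine ⟨a, ?_⟩
  rw [S.A_pow, Setup.A, ← map_mul, ← map_mul]
  have h := congrArg (fun z => n * z * n) ha
  simp only [mul_assoc, inv_mul_cancel, mul_one, mul_inv_cancel_left] at h
  rw [h]

theorem Setup.normMat_conj {n : G} (hn : n ∈ Subgroup.normalizer ((S.P : Subgroup G) : Set G)) :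
    S.ρ n * normMat p S.A = normMat p S.A * S.ρ n := by
  classical
  haveI := Fintype.ofFinite (S.P : Subgroup G)
  have hsum : normMat p S.A = ∑ z : (S.P : Subgroup G), S.ρ z := by
    rw [S.normMat_eq_sum]
    refine Finset.sum_bij (fun i _ => (⟨S.x ^ i, Subgroup.pow_mem _ S.hxP i⟩ : (S.P : Subgroup G)))
      (fun _ _ => Finset.mem_univ _) ?_ ?_ (fun _ _ => rfl)
    · intro i hi j hj h
      exact pow_injOn_Iio_orderOf (x := S.x) (by rw [Set.mem_Iio, S.hx]; exact Finset.mem_range.1 hi)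
        (by rw [Set.mem_Iio, S.hx]; exact Finset.mem_range.1 hj) (congrArg Subtype.val h)
    · intro z _
      obtain ⟨i, hi⟩ : (z : G) ∈ Submonoid.powers S.x := by
        rw [mem_powers_iff_mem_zpowers, zpowers_eq S.P S.hx S.hxP S.hP]
        exact z.2
      refine ⟨i % p, Finset.mem_range.2 (Nat.mod_lt _ hp.out.pos), Subtype.ext ?_⟩
      show S.x ^ (i % p) = (z : G)
      rw [← hi]
      show S.x ^ (i % p) = S.x ^ i
      conv_rhs => rw [← Nat.div_add_mod i p, pow_add, pow_mul, S.x_pow_p, one_pow, one_mul]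
  rw [hsum, Finset.mul_sum, Finset.sum_mul]
  simp only [← map_mul]
  let e : (S.P : Subgroup G) ≃ (S.P : Subgroup G) :=
    { toFun := fun z => ⟨n * z * n⁻¹, (Subgroup.mem_normalizer_iff.1 hn z).1 z.2⟩
      invFun := fun z => ⟨n⁻¹ * z * n, by
        simpa using (Subgroup.mem_normalizer_iff.1 (inv_mem hn) (z : G)).1 z.2⟩
      left_inv := fun z => Subtype.ext (by simp [mul_assoc])
      right_inv := fun z => Subtype.ext (by simp [mul_assoc]) }
  exact Fintype.sum_equiv e _ _ fun z => by simp [e, mul_assoc]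

variable [RingHomSurjective K.π]

/-- A lift of a map of reduced spaces with image in the reduction of a sublattice. -/
theorem Coeff.exists_matrix_lift (L : Submodule O (ι → O)) (Φ : Module.End k (ι → k))
    (hΦ : ∀ v, Φ v ∈ L.map (redVec K.π ι)) :
    ∃ Ψ : Matrix ι ι O, (∀ v, Ψ.mulVec v ∈ L) ∧ K.bar Ψ = Φ := by
  choose w hw hw' using fun j => hΦ (Pi.single j 1)
  refine ⟨Matrix.of fun i j => w j i, fun v => ?_, ?_⟩
  · rw [show (Matrix.of fun i j => w j i).mulVec v = ∑ j, v j • w j from funext fun i => by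
      rw [Matrix.mulVec, dotProduct, Finset.sum_apply]
      exact Finset.sum_congr rfl fun j _ => mul_comm _ _]
    exact L.sum_mem fun j _ => L.smul_mem _ (hw j)
  · refine (Pi.basisFun k ι).ext fun j => ?_
    rw [Pi.basisFun_apply, K.bar_apply, Matrix.mulVec_single_one, ← hw']
    rfl

theorem Setup.bar_normMat_of_fixed {v : ι → O} (hv : (S.A - 1).mulVec v = 0) :
    K.bar (normMat p S.A) (redVec K.π ι v) = 0 := by
  rw [K.bar_red, normMat_mul_of_fixed hv]
  funext i
  show K.π ((p : O) * v i) = 0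
  rw [map_mul, map_natCast, K.hpk, zero_mul]

theorem Setup.fixed_iff {v : ι → O} : (S.A - 1).mulVec v = 0 ↔ S.A.mulVec v = v := by
  rw [Matrix.sub_mulVec, Matrix.one_mulVec, sub_eq_zero]

theorem Setup.pow_mulVec_fixed {v : ι → O} (hv : S.A.mulVec v = v) (i : ℕ) :
    (S.A ^ i).mulVec v = v := by
  induction i with
  | zero => rw [pow_zero, Matrix.one_mulVec]
  | succ i ih => rw [pow_succ, ← Matrix.mulVec_mulVec, hv, ih]

/-- Every element `A^i - 1` reduced has image in the image of the difference. -/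
theorem Setup.pow_sub_mem_range (i : ℕ) (v : ι → k) :
    K.bar (S.A ^ i) v - v ∈ LinearMap.range (K.bar (S.A - 1)) := by
  refine ⟨K.bar (∑ j ∈ Finset.range i, S.A ^ j) v, ?_⟩
  rw [← Module.End.mul_apply, ← map_mul, mul_geom_sum, map_sub, map_one]
  rfl

/-- The fixed points modulo the norms. -/
def Setup.fixPair : Pair K S where
  P' := (fixSub (1 : Matrix ι ι O) S.A).map (redVec K.π ι)
  B' := LinearMap.range (K.bar (normMat p S.A))
  le := by
    rintro _ ⟨v, rfl⟩
    obtain ⟨v', rfl⟩ := redVec_surjective (π := K.π) v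
    refine ⟨(normMat p S.A).mulVec v', mem_fixSub.2 ⟨?_, Matrix.one_mulVec _⟩, (K.bar_red _ _).symm⟩
    rw [Matrix.mulVec_mulVec, sub_mul_normMat S.A_pow_p, Matrix.zero_mulVec]
  comm := fun Z hZ => by
    refine ⟨?_, ?_⟩
    · rintro _ ⟨v, hv, rfl⟩
      refine ⟨Z.mulVec v, mem_fixSub.2 ⟨?_, Matrix.one_mulVec _⟩, (K.bar_red _ _).symm⟩
      obtain ⟨h1, -⟩ := mem_fixSub.1 hv
      rw [Matrix.mulVec_mulVec, show (S.A - 1) * Z = Z * (S.A - 1) by
        rw [sub_mul, mul_sub, hZ, one_mul, mul_one], ← Matrix.mulVec_mulVec, h1, Matrix.mulVec_zero]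
    · rintro _ ⟨v, rfl⟩
      refine ⟨K.bar Z v, ?_⟩
      rw [← Module.End.mul_apply, ← Module.End.mul_apply, ← map_mul, ← map_mul]
      congr 2
      rw [normMat, Finset.mul_sum, Finset.sum_mul]
      exact Finset.sum_congr rfl fun i _ => ((show Commute Z S.A from hZ).pow_right i).eq.symm
  norm := fun n hn => by
    refine ⟨?_, ?_⟩
    · rintro _ ⟨v, hv, rfl⟩
      refine ⟨(S.ρ n).mulVec v, mem_fixSub.2 ⟨?_, Matrix.one_mulVec _⟩, (K.bar_red _ _).symm⟩
      obtain ⟨a, ha⟩ := S.A_mul_conj hn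
      rw [S.fixed_iff, Matrix.mulVec_mulVec, ha, ← Matrix.mulVec_mulVec,
        S.pow_mulVec_fixed (S.fixed_iff.1 (mem_fixSub.1 hv).1)]
    · rintro _ ⟨v, rfl⟩
      refine ⟨K.bar (S.ρ n) v, ?_⟩
      rw [← Module.End.mul_apply, ← Module.End.mul_apply, ← map_mul, ← map_mul, S.normMat_conj hn]
  triv := by
    rintro _ ⟨v, hv, rfl⟩
    rw [K.bar_red, S.fixed_iff.1 (mem_fixSub.1 hv).1, sub_self]
    exact Submodule.zero_mem _
  kill := fun Y => by
    rintro _ ⟨v, hv, rfl⟩
    refine ⟨redVec K.π ι (Y.mulVec v), ?_⟩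
    rw [K.bar_red, K.bar_red, Setup.tw, normMat, Matrix.sum_mulVec, Matrix.sum_mulVec]
    congr 1
    refine Finset.sum_congr rfl fun i _ => ?_
    rw [← Matrix.mulVec_mulVec v _ (S.A ^ (p - i)), S.pow_mulVec_fixed (S.fixed_iff.1 (mem_fixSub.1 hv).1),
      Matrix.mulVec_mulVec]
  lift := fun Φ hΦP hΦB => by
    obtain ⟨Ψ, hΨ, hΨbar⟩ := K.exists_matrix_lift _ Φ hΦP
    obtain ⟨X, hX⟩ := K.exists_div (X := Ψ * normMat p S.A) (by
      rw [map_mul, hΨbar]
      exact LinearMap.ext fun v => hΦB _ ⟨v, rfl⟩)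
    have hAΨ : S.A * Ψ = Ψ := Matrix.ext_iff_mulVec.2 fun v => by
      rw [← Matrix.mulVec_mulVec, S.fixed_iff.1 (mem_fixSub.1 (hΨ v)).1]
    refine ⟨X, ?_, ?_⟩
    · refine smul_right_injective (Matrix ι ι O) K.nat_ne_zero ?_
      show (p : O) • (X * S.A) = (p : O) • (S.A * X)
      rw [← smul_mul_assoc, ← mul_smul_comm, ← hX, mul_assoc, S.normMat_commute, ← mul_assoc, hAΨ]
    · rintro _ ⟨v, hv, rfl⟩
      have h1 : X.mulVec v = Ψ.mulVec v := by
        refine smul_right_injective (ι → O) K.nat_ne_zero ?_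
        show (p : O) • X.mulVec v = (p : O) • Ψ.mulVec v
        rw [← Matrix.smul_mulVec, ← hX, ← Matrix.mulVec_mulVec,
          normMat_mul_of_fixed (mem_fixSub.1 hv).1, Matrix.mulVec_smul]
      rw [K.bar_red, h1, ← K.bar_red, hΨbar, sub_self]
      exact Submodule.zero_mem _

theorem Setup.sum_pow_sub : ∑ i ∈ Finset.range p, S.A ^ (p - i) = normMat p S.A := by
  rw [normMat, ← Finset.sum_range_reflect (fun i => S.A ^ i) p]
  have h1 : ∀ i ∈ Finset.range p, S.A ^ (p - i) = S.A ^ (p - 1 - i) * S.A := fun i hi => by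
    rw [← pow_succ]
    congr 1
    have := Finset.mem_range.1 hi
    omega
  rw [Finset.sum_congr rfl h1, ← Finset.sum_mul, Finset.sum_range_reflect (fun i => S.A ^ i) p]
  exact S.normMat_commute

/-- The kernel of the norm modulo the differences. -/
def Setup.normPair : Pair K S where
  P' := (normSub (1 : Matrix ι ι O) p S.A).map (redVec K.π ι)
  B' := LinearMap.range (K.bar (S.A - 1))
  le := by
    rintro _ ⟨v, rfl⟩
    obtain ⟨v', rfl⟩ := redVec_surjective (π := K.π) v
    refine ⟨(S.A - 1).mulVec v', mem_normSub.2 ⟨?_, Matrix.one_mulVec _⟩, (K.bar_red _ _).symm⟩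
    rw [Matrix.mulVec_mulVec, normMat_mul_sub S.A_pow_p, Matrix.zero_mulVec]
  comm := fun Z hZ => by
    refine ⟨?_, ?_⟩
    · rintro _ ⟨v, hv, rfl⟩
      refine ⟨Z.mulVec v, mem_normSub.2 ⟨?_, Matrix.one_mulVec _⟩, (K.bar_red _ _).symm⟩
      obtain ⟨h1, -⟩ := mem_normSub.1 hv
      rw [Matrix.mulVec_mulVec, ← _root_.CfsgLib.CyclicDefect.commute_normMat hZ, ← Matrix.mulVec_mulVec, h1, Matrix.mulVec_zero]
    · rintro _ ⟨v, rfl⟩
      refine ⟨K.bar Z v, ?_⟩
      rw [← Module.End.mul_apply, ← Module.End.mul_apply, ← map_mul, ← map_mul,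
        show (S.A - 1) * Z = Z * (S.A - 1) by rw [sub_mul, mul_sub, hZ, one_mul, mul_one]]
  norm := fun n hn => by
    refine ⟨?_, ?_⟩
    · rintro _ ⟨v, hv, rfl⟩
      refine ⟨(S.ρ n).mulVec v, mem_normSub.2 ⟨?_, Matrix.one_mulVec _⟩, (K.bar_red _ _).symm⟩
      rw [Matrix.mulVec_mulVec, ← S.normMat_conj hn, ← Matrix.mulVec_mulVec, (mem_normSub.1 hv).1,
        Matrix.mulVec_zero]
    · rintro _ ⟨v, rfl⟩
      obtain ⟨a, ha⟩ := S.conj_A hn
      obtain ⟨w, hw⟩ := S.pow_sub_mem_range K a (K.bar (S.ρ n) v)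
      refine ⟨w, ?_⟩
      rw [hw, ← Module.End.mul_apply, ← Module.End.mul_apply, ← map_mul, ← map_mul, mul_sub, mul_one,
        ha, map_sub, LinearMap.sub_apply]
  triv := fun v _ => ⟨v, by rw [map_sub, map_one]; rfl⟩
  kill := fun Y => by
    rintro _ ⟨v, hv, rfl⟩
    have h : K.bar (S.tw Y) (redVec K.π ι v) =
        ∑ i ∈ Finset.range p, (K.bar (S.A ^ i) (K.bar (Y * S.A ^ (p - i)) (redVec K.π ι v)) -
          K.bar (Y * S.A ^ (p - i)) (redVec K.π ι v)) +
        K.bar Y (redVec K.π ι ((normMat p S.A).mulVec v)) := by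
      rw [Finset.sum_sub_distrib, ← K.bar_red, ← Module.End.mul_apply, ← map_mul, ← S.sum_pow_sub,
        Finset.mul_sum, map_sum, LinearMap.sum_apply, sub_add_cancel, Setup.tw, map_sum,
        LinearMap.sum_apply]
      exact Finset.sum_congr rfl fun i _ => by rw [← Module.End.mul_apply, ← map_mul, mul_assoc]
    rw [h, (mem_normSub.1 hv).1, map_zero, map_zero, add_zero]
    exact Submodule.sum_mem _ fun i _ => S.pow_sub_mem_range K i _
  lift := fun Φ hΦP hΦB => by
    obtain ⟨Ψ, hΨ, hΨbar⟩ := K.exists_matrix_lift _ Φ hΦP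
    have hΨN : normMat p S.A * Ψ = 0 := Matrix.ext_iff_mulVec.2 fun v => by
      rw [← Matrix.mulVec_mulVec, (mem_normSub.1 (hΨ v)).1, Matrix.zero_mulVec]
    have hΦpow : ∀ (j : ℕ) (v : ι → k), Φ (K.bar (S.A ^ j) v) = Φ v := fun j v => by
      rw [← sub_eq_zero, ← map_sub]
      exact hΦB _ (S.pow_sub_mem_range K j v)
    obtain ⟨X, hX⟩ := K.exists_div (X := S.tw Ψ) (by
      refine LinearMap.ext fun v => ?_
      rw [Setup.tw, map_sum, LinearMap.sum_apply, LinearMap.zero_apply]
      simp only [map_mul, Module.End.mul_apply, hΨbar, hΦpow]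
      rw [← LinearMap.sum_apply, ← map_sum, ← normMat, ← hΨbar, ← Module.End.mul_apply, ← map_mul,
        hΨN, map_zero, LinearMap.zero_apply])
    refine ⟨-X, ?_, ?_⟩
    · have hc : S.tw Ψ * S.A = S.A * S.tw Ψ := by
        have hsplit : ∀ i ∈ Finset.range p, S.A ^ i * Ψ * S.A ^ (p - i) * S.A =
            S.A ^ i * Ψ * S.A ^ (p - i + 1) := fun i _ => by rw [mul_assoc, ← pow_succ]
        have hcyc : ∀ i, S.A ^ (i % p) = S.A ^ i := fun i => by
          conv_rhs => rw [← Nat.div_add_mod i p, pow_add, pow_mul, S.A_pow_p, one_pow, one_mul]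
        rw [Setup.tw, Finset.sum_mul, Finset.mul_sum, Finset.sum_congr rfl hsplit]
        refine Finset.sum_bij (fun i _ => (i + (p - 1)) % p) (fun i _ => Finset.mem_range.2 (Nat.mod_lt _ hp.out.pos))
          ?_ ?_ ?_
        · intro i hi j hj h
          have hi' := Finset.mem_range.1 hi
          have hj' := Finset.mem_range.1 hj
          have e : ∀ t, t < p → (t + (p - 1)) % p = if t = 0 then p - 1 else t - 1 := fun t ht => by
            split_ifs with h0
            · rw [h0, zero_add, Nat.mod_eq_of_lt (by omega)]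
            · rw [show t + (p - 1) = (t - 1) + p by omega, Nat.add_mod_right, Nat.mod_eq_of_lt (by omega)]
          simp only [e i hi', e j hj'] at h
          split_ifs at h <;> omega
        · intro j hj
          have hj' := Finset.mem_range.1 hj
          refine ⟨(j + 1) % p, Finset.mem_range.2 (Nat.mod_lt _ hp.out.pos), ?_⟩
          rw [Nat.mod_add_mod, show j + 1 + (p - 1) = j + p by omega, Nat.add_mod_right,
            Nat.mod_eq_of_lt hj']
        · intro i hi
          have hi' := Finset.mem_range.1 hi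
          rw [← mul_assoc, ← mul_assoc, ← pow_succ']
          rcases Nat.eq_zero_or_pos i with rfl | h0
          · have hp1 := hp.out.one_le
            rw [zero_add, Nat.mod_eq_of_lt (by omega), Nat.sub_add_cancel hp1, S.A_pow_p, Nat.sub_zero,
              pow_zero, show p - (p - 1) = 1 by omega, pow_succ, S.A_pow_p, one_mul, one_mul, pow_one]
          · rw [show i + (p - 1) = (i - 1) + p by omega, Nat.add_mod_right, Nat.mod_eq_of_lt (by omega),
              Nat.sub_add_cancel h0, show p - (i - 1) = p - i + 1 by omega]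
      refine smul_right_injective (Matrix ι ι O) K.nat_ne_zero ?_
      show (p : O) • (-X * S.A) = (p : O) • (S.A * -X)
      rw [neg_mul, mul_neg, smul_neg, smul_neg, ← smul_mul_assoc, ← mul_smul_comm, ← hX, hc]
    · rintro _ ⟨w, hw, rfl⟩
      have hNw := (mem_normSub.1 hw).1
      -- the conjugates differ from `Ψ w` by multiples of `p`
      have hz : ∀ i : ℕ, ∃ z : ι → O, (Ψ * S.A ^ i).mulVec w = Ψ.mulVec w + (p : O) • z := by
        intro i
        obtain ⟨z, hz⟩ := redVec_eq_zero K.ker (v := (Ψ * S.A ^ i).mulVec w - Ψ.mulVec w) (by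
          rw [map_sub, ← K.bar_red, ← K.bar_red, map_mul, Module.End.mul_apply, hΨbar, hΦpow, sub_self])
        exact ⟨z, by rw [← hz, add_sub_cancel]⟩
      choose z hz using fun i => hz (p - i)
      have h1 : X.mulVec w = ∑ i ∈ Finset.range p, (S.A ^ i).mulVec (z i) := by
        refine smul_right_injective (ι → O) K.nat_ne_zero ?_
        show (p : O) • X.mulVec w = (p : O) • _
        rw [← Matrix.smul_mulVec, ← hX, Setup.tw, Matrix.sum_mulVec, Finset.smul_sum]
        simp only [mul_assoc, ← Matrix.mulVec_mulVec _ (S.A ^ _) (Ψ * S.A ^ _), hz, Matrix.mulVec_add,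
          Matrix.mulVec_smul, Finset.sum_add_distrib]
        rw [← Matrix.sum_mulVec, ← normMat, Matrix.mulVec_mulVec, hΨN, Matrix.zero_mulVec, zero_add]
      have h2 : ∑ i ∈ Finset.range p, z i = -Ψ.mulVec w := by
        refine smul_right_injective (ι → O) K.nat_ne_zero ?_
        show (p : O) • _ = (p : O) • _
        have h3 : ∑ i ∈ Finset.range p, (Ψ * S.A ^ (p - i)).mulVec w = 0 := by
          rw [← Matrix.sum_mulVec, ← Finset.mul_sum, S.sum_pow_sub, ← Matrix.mulVec_mulVec, hNw,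
            Matrix.mulVec_zero]
        simp only [hz, Finset.sum_add_distrib, Finset.sum_const, Finset.card_range] at h3
        rw [Finset.smul_sum, smul_neg, Nat.cast_smul_eq_nsmul O p (Ψ.mulVec w)]
        exact eq_neg_of_add_eq_zero_right h3
      rw [map_neg, LinearMap.neg_apply, K.bar_red, h1, ← hΨbar, K.bar_red, ← neg_add']
      refine Submodule.neg_mem _ ?_
      rw [show redVec K.π ι (∑ i ∈ Finset.range p, (S.A ^ i).mulVec (z i)) + redVec K.π ι (Ψ.mulVec w) =
        ∑ i ∈ Finset.range p, (K.bar (S.A ^ i) (redVec K.π ι (z i)) - redVec K.π ι (z i)) by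
          rw [Finset.sum_sub_distrib, ← map_sum (redVec K.π ι) z, h2, map_neg, sub_neg_eq_add, map_sum]
          congr 1
          exact Finset.sum_congr rfl fun i _ => (K.bar_red _ _).symm]
      exact Submodule.sum_mem _ fun i _ => S.pow_sub_mem_range K i _

include K in
/-- **The bound**: the constant value on the section is `0`, `1` or `-1`. -/
theorem Setup.abs_le_one (hodd : p ≠ 2) : |S.s| ≤ 1 := by
  have hp3 : 3 ≤ p := by
    have := hp.out.two_le
    omega
  set E := S.F S.o S.o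
  have hE : E * E = E := by rw [S.hmul, if_pos rfl]
  have hEA : E * S.A = S.A * E := S.hFA _ _
  have hEtr : ∀ i, 0 < i → i < p → (E * S.A ^ i).trace = (S.s : O) := fun i hi hip => by
    rw [S.A_pow]
    exact S.htr i hi hip
  obtain ⟨l1, l2⟩ := lower_bounds (π := K.π) (E := E) K.ker K.hpk K.nat_ne_zero S.A_pow_p hE hEA hEtr
  have u1 := (S.fixPair K).finrank_le
  have u2 := (S.normPair K).finrank_le
  have e1 : (S.fixPair K).B'.map (K.bar E) =
      LinearMap.range (Matrix.mulVecLin ((E * normMat p S.A).map K.π)) := by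
    rw [← K.bar_eq_mulVecLin, map_mul, Module.End.mul_eq_comp, LinearMap.range_comp]
    rfl
  have e2 : (S.normPair K).B'.map (K.bar E) =
      LinearMap.range (Matrix.mulVecLin ((E * (S.A - 1)).map K.π)) := by
    rw [← K.bar_eq_mulVecLin, map_mul, Module.End.mul_eq_comp, LinearMap.range_comp]
    rfl
  have f1 : (fixSub E S.A).map (redVec K.π ι) ≤ (S.fixPair K).P'.map (K.bar E) := by
    rintro _ ⟨v, hv, rfl⟩
    refine ⟨redVec K.π ι v, ⟨v, mem_fixSub.2 ⟨(mem_fixSub.1 hv).1, Matrix.one_mulVec v⟩, rfl⟩, ?_⟩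
    rw [K.bar_red, (mem_fixSub.1 hv).2]
  have f2 : (normSub E p S.A).map (redVec K.π ι) ≤ (S.normPair K).P'.map (K.bar E) := by
    rintro _ ⟨v, hv, rfl⟩
    refine ⟨redVec K.π ι v, ⟨v, mem_normSub.2 ⟨(mem_normSub.1 hv).1, Matrix.one_mulVec v⟩, rfl⟩, ?_⟩
    rw [K.bar_red, (mem_normSub.1 hv).2]
  rw [e1] at u1
  rw [e2] at u2
  have m1 := (Submodule.finrank_mono f1).trans u1
  have m2 := (Submodule.finrank_mono f2).trans u2
  have hp3' : (3 : ℤ) ≤ p := by exact_mod_cast hp3
  zify at m1 m2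
  rw [abs_le]
  constructor <;> nlinarith

end CfsgLib.CyclicDefect
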