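import Cfsg.Agent.Lib.CyclicDefect.Local
import Cfsg.Agent.Lib.Blocks.Homo949Dual
import Cfsg.Agent.Lib.Characters.Decomp
import Cfsg.Agent.Lib.Characters.Clifford
import Cfsg.Agent.Lib.Characters.BrauerPerm
import Cfsg.Agent.Lib.CharCorr.Basic
import Mathlib.Data.Nat.GCD.Basic

/-!
# The characters of the centraliser of a Sylow subgroup of prime order
-/

set_option autoImplicit false
set_option linter.style.haveILetI false
set_option linter.unusedSectionVars false

noncomputable section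

namespace CfsgLib.CyclicDefect

open Cfsg CfsgLib.Characters
open scoped ComplexConjugate

universe u

variable {p : ℕ} [hp : Fact p.Prime] {G : Type u} [Group G] [Finite G] (L : Loc p G)

theorem Loc.comm (a b : (L.P : Subgroup G)) : a * b = b * a :=
  Subtype.ext (Subgroup.mem_centralizer_iff.1 (L.P_le_C b.2) a a.2)

/-- The dual of the Sylow subgroup. -/
abbrev Loc.Dual : Type u := (L.P : Subgroup G) →* ℂˣ

theorem Loc.finite_dual : Finite L.Dual := Blocks.Homo949.finite_dual L.comm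

instance Loc.dualFinite : Finite L.Dual := L.finite_dual

theorem Loc.card_dual : Nat.card L.Dual = p :=
  (Blocks.Homo949.card_dual L.comm).trans L.hP

theorem Loc.exists_projExp : ∃ m : ℕ, m % p = 0 ∧ m % Nat.card L.O = 1 % Nat.card L.O := by
  obtain ⟨m, hm1, hm2⟩ := Nat.chineseRemainder
    (hp.out.coprime_iff_not_dvd.2 L.not_dvd_card_O) 0 1
  exact ⟨m, by rw [Nat.ModEq, Nat.zero_mod] at hm1; exact hm1, hm2⟩

theorem Loc.pow_projExp (i : ℕ) {y : G} (hy : y ∈ L.O) :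
    (L.x ^ i * y) ^ L.exists_projExp.choose = y := by
  obtain ⟨h1, h2⟩ := L.exists_projExp.choose_spec
  have hc : Commute (L.x ^ i) y := (show Commute y L.x from L.O_commute hy).symm.pow_left i
  have e1 : (L.x ^ i) ^ L.exists_projExp.choose = 1 := by
    rw [← pow_mul, ← orderOf_dvd_iff_pow_eq_one, L.hx]
    exact dvd_mul_of_dvd_right (Nat.dvd_of_mod_eq_zero h1) _
  have hy1 : y ^ Nat.card L.O = 1 :=
    congrArg Subtype.val (pow_card_eq_one' (x := (⟨y, hy⟩ : L.O)))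
  have e2 : ∀ n, y ^ n = y ^ (n % Nat.card L.O) := fun n => by
    conv_lhs => rw [← Nat.div_add_mod n (Nat.card L.O), pow_add, pow_mul, hy1, one_pow, one_mul]
  rw [hc.mul_pow, e1, one_mul, e2, h2, ← e2, pow_one]

/-- The projection onto the `p'`-part. -/
def Loc.projO : L.C →* L.O where
  toFun c := ⟨(c : G) ^ L.exists_projExp.choose, by
    obtain ⟨i, -, y, hy, hc⟩ := L.decomp c.2
    rw [hc, L.pow_projExp i hy]
    exact hy⟩
  map_one' := Subtype.ext (one_pow _)
  map_mul' c d := Subtype.ext (by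
    obtain ⟨i, -, y, hy, hc⟩ := L.decomp c.2
    obtain ⟨j, -, z, hz, hd⟩ := L.decomp d.2
    show ((c : G) * d) ^ L.exists_projExp.choose =
      (c : G) ^ L.exists_projExp.choose * (d : G) ^ L.exists_projExp.choose
    rw [hc, hd, L.pow_projExp i hy, L.pow_projExp j hz]
    have hyx : Commute y (L.x ^ j) := (show Commute y L.x from L.O_commute hy).pow_right j
    rw [show L.x ^ i * y * (L.x ^ j * z) = L.x ^ (i + j) * (y * z) by
      rw [pow_add, mul_assoc, ← mul_assoc y, hyx.eq]; simp only [mul_assoc]]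
    exact L.pow_projExp _ (L.O.mul_mem hy hz))

/-- The element `x ^ i * y` of the centraliser. -/
def Loc.el (i : ℕ) (y : L.O) : L.C :=
  ⟨L.x ^ i * y, L.C.mul_mem (L.C.pow_mem L.x_mem_C i) (L.O_le_C y.2)⟩

theorem Loc.coe_el (i : ℕ) (y : L.O) : (L.el i y : G) = L.x ^ i * y := rfl

theorem Loc.exists_el (c : L.C) : ∃ i, i < p ∧ ∃ y : L.O, c = L.el i y := by
  obtain ⟨i, hi, y, hy, hc⟩ := L.decomp c.2
  exact ⟨i, hi, ⟨y, hy⟩, Subtype.ext hc⟩

theorem Loc.projO_el (i : ℕ) (y : L.O) : L.projO (L.el i y) = y :=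
  Subtype.ext (L.pow_projExp i y.2)

theorem Loc.ext_el (lam : L.Dual) (i : ℕ) (y : L.O) :
    (L.ext lam (L.el i y) : ℂ) = (lam ⟨L.x, L.hxP⟩ : ℂ) ^ i := by
  rw [← Units.val_pow_eq_pow_val]
  exact congrArg Units.val (L.ext_eq lam y.2)

theorem Loc.el_injective : Function.Injective fun z : Fin p × L.O => L.el z.1 z.2 := by
  rintro ⟨i, y⟩ ⟨j, y'⟩ h
  have h1 : y = y' := by
    rw [← L.projO_el i y, ← L.projO_el j y']
    exact congrArg L.projO h
  subst h1
  have h2 : L.x ^ (i : ℕ) * (y : G) = L.x ^ (j : ℕ) * y := congrArg Subtype.val h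
  have h3 := pow_injOn_Iio_orderOf (x := L.x) (by rw [Set.mem_Iio, L.hx]; exact i.2)
    (by rw [Set.mem_Iio, L.hx]; exact j.2) (mul_right_cancel h2)
  exact Prod.ext (Fin.ext h3) rfl

theorem Loc.el_bijective : Function.Bijective fun z : Fin p × L.O => L.el z.1 z.2 :=
  ⟨L.el_injective, fun c => by
    obtain ⟨i, hi, y, hc⟩ := L.exists_el c
    exact ⟨(⟨i, hi⟩, y), hc.symm⟩⟩

theorem Loc.card_C : Nat.card L.C = p * Nat.card L.O := by
  rw [← Nat.card_congr (Equiv.ofBijective _ L.el_bijective), Nat.card_prod, Nat.card_eq_fintype_card,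
    Fintype.card_fin]

theorem Loc.sum_C [Fintype L.C] [Fintype L.O] {R : Type*} [AddCommMonoid R] (F : L.C → R) :
    ∑ c, F c = ∑ i : Fin p, ∑ y : L.O, F (L.el i y) := by
  rw [← Fintype.sum_prod_type' (fun (i : Fin p) (y : L.O) => F (L.el i y))]
  exact ((Equiv.ofBijective _ L.el_bijective).sum_comp F).symm

theorem Loc.sum_P [Fintype ↥(L.P : Subgroup G)] {R : Type*} [AddCommMonoid R]
    (F : ↥(L.P : Subgroup G) → R) :
    ∑ z, F z = ∑ i : Fin p, F ((⟨L.x, L.hxP⟩ : (L.P : Subgroup G)) ^ (i : ℕ)) := by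
  refine (Function.Bijective.sum_comp (g := F) ?_).symm
  refine (Nat.bijective_iff_injective_and_card _).2 ⟨fun i j h => ?_, ?_⟩
  · refine Fin.ext (pow_injOn_Iio_orderOf (x := L.x) (by rw [Set.mem_Iio, L.hx]; exact i.2)
      (by rw [Set.mem_Iio, L.hx]; exact j.2) ?_)
    exact congrArg Subtype.val h
  · rw [Nat.card_eq_fintype_card, Fintype.card_fin]
    exact L.hP.symm

/-- The character of the centraliser attached to a pair. -/
def Loc.xiFun (lam : L.Dual) (θ : L.O → ℂ) (c : L.C) : ℂ := (L.ext lam c : ℂ) * θ (L.projO c)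

theorem Loc.xiFun_el (lam : L.Dual) (θ : L.O → ℂ) (i : ℕ) (y : L.O) :
    L.xiFun lam θ (L.el i y) = (lam ⟨L.x, L.hxP⟩ : ℂ) ^ i * θ y := by
  rw [Loc.xiFun, L.ext_el, L.projO_el]

theorem Loc.sum_dual_pow (lam mu : L.Dual) [DecidableEq L.Dual] :
    ∑ i : Fin p, (lam ⟨L.x, L.hxP⟩ : ℂ) ^ (i : ℕ) * conj ((mu ⟨L.x, L.hxP⟩ : ℂ) ^ (i : ℕ)) =
      if lam = mu then (p : ℂ) else 0 := by
  classical
  haveI := Fintype.ofFinite (L.P : Subgroup G)
  have h := Blocks.Homo949.sum_hom_orth lam mu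
  rw [L.sum_P, show Nat.card (L.P : Subgroup G) = p from L.hP] at h
  simp only [map_pow, Units.val_pow_eq_pow_val] at h
  rw [show (∑ i : Fin p, (lam ⟨L.x, L.hxP⟩ : ℂ) ^ (i : ℕ) * conj ((mu ⟨L.x, L.hxP⟩ : ℂ) ^ (i : ℕ))) =
      ∑ i : Fin p, (lam ⟨L.x, L.hxP⟩ : ℂ) ^ (i : ℕ) * conj (mu ⟨L.x, L.hxP⟩ : ℂ) ^ (i : ℕ) from
    Finset.sum_congr rfl fun i _ => by rw [map_pow]]
  convert h using 2

theorem Loc.classInner_xiFun [Fintype L.C] [Fintype L.O] [DecidableEq L.Dual] (lam mu : L.Dual)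
    (θ φ : L.O → ℂ) :
    classInner (L.xiFun lam θ) (L.xiFun mu φ) = if lam = mu then classInner θ φ else 0 := by
  have hp0 : (p : ℂ) ≠ 0 := Nat.cast_ne_zero.2 hp.out.ne_zero
  simp only [classInner, L.sum_C, L.xiFun_el, map_mul]
  have e : ∀ (i : Fin p) (y : L.O),
      (lam ⟨L.x, L.hxP⟩ : ℂ) ^ (i : ℕ) * θ y * (conj ((mu ⟨L.x, L.hxP⟩ : ℂ) ^ (i : ℕ)) * conj (φ y)) =
      ((lam ⟨L.x, L.hxP⟩ : ℂ) ^ (i : ℕ) * conj ((mu ⟨L.x, L.hxP⟩ : ℂ) ^ (i : ℕ))) *
        (θ y * conj (φ y)) := fun i y => by ring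
  simp only [e, ← Finset.mul_sum]
  rw [← Finset.sum_mul, L.sum_dual_pow, L.card_C, Nat.cast_mul]
  split_ifs
  · field_simp
  · simp

theorem Loc.isCharacter_xiFun (lam : L.Dual) {θ : L.O → ℂ} (hθ : IsCharacter L.O θ) :
    IsCharacter L.C (L.xiFun lam θ) :=
  isCharacter_mul (isCharacter_of_irr (isIrrCharacter_of_hom (L.ext lam)))
    (CharCorr.isCharacter_comp hθ L.projO)

theorem Loc.isIrr_xiFun (lam : L.Dual) (θ : IrrCharacter L.O) :
    IsIrrCharacter L.C (L.xiFun lam (θ : L.O → ℂ)) := by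
  classical
  haveI := Fintype.ofFinite L.O
  haveI := Fintype.ofFinite L.C
  refine BrauerPerm.isIrrCharacter_of_norm_one (L.isCharacter_xiFun lam (irr_isCharacter θ)) ?_
  rw [L.classInner_xiFun, if_pos rfl]
  exact classInner_irr_self θ.2

/-- The irreducible character of the centraliser attached to a pair. -/
def Loc.xi (lam : L.Dual) (θ : IrrCharacter L.O) : IrrCharacter L.C :=
  ⟨L.xiFun lam (θ : L.O → ℂ), L.isIrr_xiFun lam θ⟩

theorem Loc.xi_el (lam : L.Dual) (θ : IrrCharacter L.O) (i : ℕ) (y : L.O) :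
    (L.xi lam θ : L.C → ℂ) (L.el i y) = (lam ⟨L.x, L.hxP⟩ : ℂ) ^ i * (θ : L.O → ℂ) y :=
  L.xiFun_el lam _ i y

theorem Loc.xi_injective : Function.Injective fun z : L.Dual × IrrCharacter L.O => L.xi z.1 z.2 := by
  classical
  haveI := Fintype.ofFinite L.O
  haveI := Fintype.ofFinite L.C
  rintro ⟨lam, θ⟩ ⟨mu, φ⟩ h
  have h1 : classInner (L.xiFun lam (θ : L.O → ℂ)) (L.xiFun mu (φ : L.O → ℂ)) = 1 := by
    have e : L.xiFun lam (θ : L.O → ℂ) = L.xiFun mu (φ : L.O → ℂ) := congrArg Subtype.val h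
    rw [e]
    exact classInner_irr_self (L.isIrr_xiFun mu φ)
  rw [L.classInner_xiFun, classInner_irr] at h1
  by_cases hl : lam = mu
  · by_cases hθ : θ = φ
    · rw [hl, hθ]
    · rw [if_pos hl, if_neg hθ] at h1
      exact absurd h1 zero_ne_one
  · rw [if_neg hl] at h1
    exact absurd h1 zero_ne_one

theorem Loc.exists_xi (η : IrrCharacter L.C) : ∃ lam θ, η = L.xi lam θ := by
  classical
  haveI := Fintype.ofFinite L.O
  haveI := Fintype.ofFinite L.C
  haveI := Fintype.ofFinite (L.P : Subgroup G)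
  haveI := Fintype.ofFinite L.Dual
  by_contra! h
  have hz : ∀ (i : Fin p) (θ : IrrCharacter L.O),
      classInner (fun y => (η : L.C → ℂ) (L.el i y)) (θ : L.O → ℂ) = 0 := by
    intro i θ
    let f : ↥(L.P : Subgroup G) → ℂ := fun z =>
      classInner (fun y : L.O => (η : L.C → ℂ) ⟨(z : G) * y,
        L.C.mul_mem (L.P_le_C z.2) (L.O_le_C y.2)⟩) (θ : L.O → ℂ)
    have hcoef : ∀ lam : L.Dual, ∑ z, f z * conj (lam z : ℂ) = 0 := by
      intro lam
      have h1 : classInner (η : L.C → ℂ) (L.xi lam θ : L.C → ℂ) = 0 := by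
        rw [classInner_irr, if_neg (h lam θ)]
      rw [classInner, L.sum_C, mul_eq_zero, or_iff_right (by simp)] at h1
      simp only [L.xi_el, map_mul] at h1
      rw [L.sum_P]
      simp only [f, classInner, Finset.mul_sum, Finset.sum_mul, map_pow, Units.val_pow_eq_pow_val]
      rw [show (0 : ℂ) = (Nat.card L.O : ℂ)⁻¹ * 0 by ring, ← h1, Finset.mul_sum]
      refine Finset.sum_congr rfl fun j _ => ?_
      rw [Finset.mul_sum]
      refine Finset.sum_congr rfl fun y _ => ?_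
      have e : (⟨(((⟨L.x, L.hxP⟩ : (L.P : Subgroup G)) ^ (j : ℕ) : (L.P : Subgroup G)) : G) * y,
          L.C.mul_mem (L.P_le_C (SetLike.coe_mem _)) (L.O_le_C y.2)⟩ : L.C) = L.el j y :=
        Subtype.ext (by simp [Loc.el])
      rw [e]
      simp only [map_pow]
      ring
    have h2 := Blocks.Homo949.eq_sum_coef L.comm f ((⟨L.x, L.hxP⟩ : (L.P : Subgroup G)) ^ (i : ℕ))
    simp only [hcoef, zero_mul, Finset.sum_const_zero, mul_eq_zero, Nat.cast_eq_zero,
      Nat.card_pos.ne', false_or] at h2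
    rw [← h2]
    simp only [f]
    congr 1
  refine irr_one_ne_zero η ?_
  obtain ⟨i, hi, y, hy⟩ := L.exists_el 1
  have hcl : IsClassFunction L.O (fun y => (η : L.C → ℂ) (L.el i y)) := by
    intro a b
    have hc : Commute (b : G) (L.x ^ i) := (show Commute (b : G) L.x from L.O_commute b.2).pow_right i
    have e : L.el i (b * a * b⁻¹) =
        ⟨(b : G), L.O_le_C b.2⟩ * L.el i a * (⟨(b : G), L.O_le_C b.2⟩ : L.C)⁻¹ := by
      refine Subtype.ext ?_
      simp only [Subgroup.coe_mul, Subgroup.coe_inv, L.coe_el, ← mul_assoc, hc.eq]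
    show (η : L.C → ℂ) (L.el i (b * a * b⁻¹)) = (η : L.C → ℂ) (L.el i a)
    rw [e]
    exact irr_isClassFunction η _ _
  rw [hy]
  have h3 := congrFun (classFunction_eq_sum hcl) y
  simp only [hz ⟨i, hi⟩] at h3
  simpa using h3

/-- The pairs give all irreducible characters of the centraliser. -/
def Loc.pairEquiv : L.Dual × IrrCharacter L.O ≃ IrrCharacter L.C :=
  Equiv.ofBijective (fun z => L.xi z.1 z.2) ⟨L.xi_injective, fun η => by
    obtain ⟨lam, θ, rfl⟩ := L.exists_xi η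
    exact ⟨(lam, θ), rfl⟩⟩

theorem Loc.pairEquiv_apply (lam : L.Dual) (θ : IrrCharacter L.O) :
    L.pairEquiv (lam, θ) = L.xi lam θ := rfl

/-- The multiplicity of a pair in the restriction of a function on the group. -/
def Loc.coef [Fintype L.C] (F : G → ℂ) (lam : L.Dual) (θ : IrrCharacter L.O) : ℂ :=
  classInner (fun c : L.C => F c) (L.xi lam θ : L.C → ℂ)

theorem Loc.value [Fintype L.C] [Fintype L.O] [Fintype L.Dual] {F : G → ℂ}
    (hF : IsClassFunction G F) (i : ℕ) (y : L.O) :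
    F (L.x ^ i * y) = ∑ θ : IrrCharacter L.O, ∑ lam : L.Dual,
      L.coef F lam θ * ((lam ⟨L.x, L.hxP⟩ : ℂ) ^ i * (θ : L.O → ℂ) y) := by
  have hcl : IsClassFunction L.C (fun c : L.C => F c) := fun a b => hF a b
  have h := congrFun (classFunction_eq_sum hcl) (L.el i y)
  rw [Finset.sum_apply, ← L.pairEquiv.sum_comp, Fintype.sum_prod_type, Finset.sum_comm] at h
  simp only [Pi.smul_apply, smul_eq_mul, L.pairEquiv_apply, L.xi_el, L.coe_el] at h
  exact h

/-- Projecting a section onto a character of the `p'`-part. -/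
theorem Loc.proj [Fintype L.C] [Fintype L.O] [Fintype L.Dual] {F : G → ℂ}
    (hF : IsClassFunction G F) (i : ℕ) (θ : IrrCharacter L.O) :
    ∑ y : L.O, conj ((θ : L.O → ℂ) y) * F (L.x ^ i * y) =
      (Nat.card L.O : ℂ) * ∑ lam : L.Dual, L.coef F lam θ * (lam ⟨L.x, L.hxP⟩ : ℂ) ^ i := by
  classical
  have hO : (Nat.card L.O : ℂ) ≠ 0 := Nat.cast_ne_zero.2 Nat.card_pos.ne'
  have horth : ∀ φ : IrrCharacter L.O, ∑ y : L.O, conj ((θ : L.O → ℂ) y) * (φ : L.O → ℂ) y =
      if φ = θ then (Nat.card L.O : ℂ) else 0 := fun φ => by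
    have h := classInner_irr φ θ
    rw [classInner, inv_mul_eq_iff_eq_mul₀ hO, mul_ite, mul_one, mul_zero] at h
    rw [← h]
    exact Finset.sum_congr rfl fun y _ => mul_comm _ _
  conv_lhs => simp only [L.value hF, Finset.mul_sum]
  rw [Finset.sum_comm]
  have e : ∀ φ : IrrCharacter L.O, ∑ y : L.O, ∑ lam : L.Dual,
      conj ((θ : L.O → ℂ) y) * (L.coef F lam φ * ((lam ⟨L.x, L.hxP⟩ : ℂ) ^ i * (φ : L.O → ℂ) y)) =
      (if φ = θ then (Nat.card L.O : ℂ) else 0) *
        ∑ lam : L.Dual, L.coef F lam φ * (lam ⟨L.x, L.hxP⟩ : ℂ) ^ i := fun φ => by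
    rw [← horth, Finset.sum_mul]
    refine Finset.sum_congr rfl fun y _ => ?_
    rw [Finset.mul_sum]
    exact Finset.sum_congr rfl fun lam _ => by ring
  refine (Finset.sum_congr rfl fun φ _ => e φ).trans ?_
  simp only [ite_mul, zero_mul]
  rw [Finset.sum_ite_eq', if_pos (Finset.mem_univ θ)]

end CfsgLib.CyclicDefect
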