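import Cfsg.Agent.Lib.CyclicDefect.Values
import Cfsg.Agent.Lib.Characters.Exceptional

/-!
# The characters of a block with a Sylow subgroup of prime order as defect group
-/

set_option autoImplicit false
set_option linter.style.haveILetI false
set_option linter.unusedSectionVars false

noncomputable section

namespace CfsgLib.CyclicDefect

open Cfsg CfsgLib.Characters
open scoped ComplexConjugate Classical

universe u

variable {p : ℕ} [hp : Fact p.Prime] {G : Type u} [Group G] [Fintype G] (L : Loc p G)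
  [Fintype L.C] [Fintype L.O] [Fintype L.Dual] {M : Ideal AlgInt}

/-- The size of an orbit of characters of the `p'`-part. -/
def Loc.wOrb (θ : IrrCharacter L.O) : ℕ :=
  (Finset.univ.filter fun φ => φ ∈ L.orbit θ).card

theorem Loc.card_C_mul_wOrb (θ : IrrCharacter L.O) :
    L.eIdx θ * L.wOrb θ = L.C.relIndex L.N := by
  have h1 := L.card_orbit_mul θ
  have h2 : Nat.card L.C * L.C.relIndex L.N = Nat.card L.N := by
    rw [← Nat.card_congr (Subgroup.subgroupOfEquivOfLe L.C_le_N).toEquiv]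
    exact Subgroup.card_mul_index _
  rw [L.card_stabN, ← h2] at h1
  refine Nat.eq_of_mul_eq_mul_left (Nat.card_pos (α := L.C)) ?_
  rw [← h1, Loc.wOrb]
  ring

theorem Loc.classInner_psiD (θ : IrrCharacter L.O) (a b : L.Dual) (χ : IrrCharacter G) :
    classInner (L.psi θ a - L.psi θ b) (χ : G → ℂ) =
      ((L.mult χ a θ - L.mult χ b θ : ℤ) : ℂ) := by
  rw [classInner_sub_left, classInner_conj_symm (χ : G → ℂ) (L.psi θ a),
    classInner_conj_symm (χ : G → ℂ) (L.psi θ b),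
    L.classInner_psi, L.classInner_psi, L.coef_eq, L.coef_eq, map_intCast, map_intCast, Int.cast_sub]

/-- The differences vanish at the regular elements. -/
theorem Loc.psi_regular (θ : IrrCharacter L.O) (a b : L.Dual) {g : G} (hg : ¬ p ∣ orderOf g) :
    L.psi θ a g = L.psi θ b g := by
  simp only [Loc.psi, Induction.indFun_apply]
  congr 1
  refine Finset.sum_congr rfl fun x _ => ?_
  by_cases h : x⁻¹ * g * x ∈ L.C
  · rw [Induction.extendByZero_mem L.C _ h, Induction.extendByZero_mem L.C _ h]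
    obtain ⟨i, hip, y, hy⟩ := L.exists_el ⟨_, h⟩
    have hy' : x⁻¹ * g * x = L.x ^ i * y := congrArg Subtype.val hy
    have hi : i = 0 := by
      by_contra h0
      have h1 := (L.regular_iff hip y.2).2 h0
      rw [← hy', show x⁻¹ * g * x = MulAut.conj x⁻¹ g by simp, MulEquiv.orderOf_eq] at h1
      exact hg h1
    rw [hy, hi, L.xi_el, L.xi_el, pow_zero, pow_zero]
  · rw [Induction.extendByZero_notMem L.C _ h, Induction.extendByZero_notMem L.C _ h]

theorem Loc.cast_C_ne : (Nat.card L.C : ℂ) ≠ 0 := Nat.cast_ne_zero.2 Nat.card_pos.ne'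

theorem Loc.inner_base (θ : IrrCharacter L.O) :
    classInner (L.psi θ 1 - L.psi θ (L.rep θ (L.base θ)))
      (L.psi θ 1 - L.psi θ (L.rep θ (L.base θ))) = (L.eIdx θ : ℂ) + 1 := by
  refine mul_left_cancel₀ L.cast_C_ne ?_
  rw [L.inner_diff, L.cnt_one_one, L.cnt_one_ne (L.rep_ne θ _), L.cnt_ne_one (L.rep_ne θ _),
    L.cnt_rep, if_pos rfl]
  push_cast
  ring

theorem Loc.inner_base_diff (θ : IrrCharacter L.O) {I : L.Idx θ} (hI : I ≠ L.base θ) :
    classInner (L.psi θ 1 - L.psi θ (L.rep θ (L.base θ)))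
      (L.psi θ (L.rep θ I) - L.psi θ (L.rep θ (L.base θ))) = 1 := by
  refine mul_left_cancel₀ L.cast_C_ne ?_
  rw [L.inner_diff, L.cnt_one_ne (L.rep_ne θ _), L.cnt_one_ne (L.rep_ne θ _), L.cnt_rep, L.cnt_rep,
    if_pos rfl, if_neg (Ne.symm hI)]
  push_cast
  ring

theorem Loc.inner_diff_diff (θ : IrrCharacter L.O) (I J : L.Idx θ) :
    classInner (L.psi θ (L.rep θ I) - L.psi θ (L.rep θ (L.base θ)))
      (L.psi θ (L.rep θ J) - L.psi θ (L.rep θ (L.base θ))) =
      (if I = J then 1 else 0) - (if I = L.base θ then 1 else 0) -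
        (if L.base θ = J then 1 else 0) + 1 := by
  refine mul_left_cancel₀ L.cast_C_ne ?_
  simp only [L.inner_diff, L.cnt_rep, if_true, mul_add, mul_sub, mul_ite, mul_one, mul_zero]

theorem Loc.sum_eV_sq (θ : IrrCharacter L.O) :
    ∑ χ : IrrCharacter G, L.eV χ θ ^ 2 = (L.eIdx θ : ℤ) + 1 := by
  have h := classInner_self_eq_sum_sq
    (isClassFunction_sub (isClassFunction_of_isCharacter (L.psi_isCharacter θ 1))
      (isClassFunction_of_isCharacter (L.psi_isCharacter θ (L.rep θ (L.base θ)))))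
    (m := fun χ => L.eV χ θ) fun χ => L.classInner_psiD θ _ _ χ
  rw [L.inner_base] at h
  exact_mod_cast h.symm

theorem Loc.sum_eV_values (θ : IrrCharacter L.O) {g : G} (hg : ¬ p ∣ orderOf g) :
    ∑ χ : IrrCharacter G, (L.eV χ θ : ℂ) * (χ : G → ℂ) g = 0 := by
  have h := congrFun (classFunction_eq_sum
    (isClassFunction_sub (isClassFunction_of_isCharacter (L.psi_isCharacter θ 1))
      (isClassFunction_of_isCharacter (L.psi_isCharacter θ (L.rep θ (L.base θ)))))) g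
  rw [Pi.sub_apply, L.psi_regular θ 1 (L.rep θ (L.base θ)) hg, sub_self, Finset.sum_apply] at h
  simp only [Pi.smul_apply, smul_eq_mul, L.classInner_psiD] at h
  exact h.symm

/-- The degree of a member modulo `p`. -/
theorem Loc.degree (hM : IsPModular p M) {θ : IrrCharacter L.O} {χ : IrrCharacter G}
    (hχ : χ ∈ L.indB hM θ) :
    ∃ K : ℤ, (charDegree (χ : G → ℂ) : ℤ) = (L.wOrb θ * charDegree (θ : L.O → ℂ) : ℕ) *
      (L.eV χ θ + (L.eIdx θ : ℤ) * ∑ I : L.Idx θ, L.tV χ θ (L.rep θ I)) + (p : ℤ) * K := by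
  set d : IrrCharacter L.O → ℤ := fun φ => (charDegree (φ : L.O → ℂ) : ℤ) with hd
  have hval : (charDegree (χ : G → ℂ) : ℤ) =
      ∑ φ : IrrCharacter L.O, (∑ lam : L.Dual, L.mult χ lam φ) * d φ := by
    have h := L.value (irr_isClassFunction χ) 0 (1 : L.O)
    simp only [pow_zero, OneMemClass.coe_one, mul_one, one_mul, L.coef_eq,
      CharCorr.irr_one_eq_charDegree] at h
    refine Int.cast_injective (α := ℂ) ?_
    simp only [hd, Int.cast_sum, Int.cast_mul, Int.cast_natCast, h, Finset.sum_mul]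
  have hp1 : (p : ℤ) = 1 + (L.eIdx θ : ℤ) * (Fintype.card (L.Idx θ) : ℤ) := by
    have h1 := L.eIdx_mul_card θ
    have h2 := hp.out.one_le
    have : ((L.eIdx θ * Fintype.card (L.Idx θ) : ℕ) : ℤ) = ((p - 1 : ℕ) : ℤ) := by rw [h1]
    push_cast [h2] at this
    linarith
  have hin : ∀ φ ∈ Finset.univ.filter (fun φ => φ ∈ L.orbit θ),
      (∑ lam : L.Dual, L.mult χ lam φ) * d φ = (∑ lam : L.Dual, L.mult χ lam θ) * d θ := by
    intro φ hφ
    obtain ⟨m, rfl⟩ := L.mem_orbit_iff.1 (Finset.mem_filter.1 hφ).2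
    congr 1
    · rw [← (L.conjDual_bijective m).sum_comp]
      simp only [L.mult_conj]
    · simp only [hd, charDegree, L.conjIrr_apply, map_one]
  have hout : ∀ φ ∈ Finset.univ.filter (fun φ => ¬ φ ∈ L.orbit θ),
      (∑ lam : L.Dual, L.mult χ lam φ) * d φ = (p : ℤ) * (L.mult χ 1 φ * d φ) := by
    intro φ hφ
    have hc : ∀ lam : L.Dual, L.mult χ lam φ = L.mult χ 1 φ := fun lam => by
      have := L.coef_const_of_notMem_orbit hM hχ (Finset.mem_filter.1 hφ).2 lam 1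
      rwa [L.coef_eq, L.coef_eq, Int.cast_inj] at this
    rw [Finset.sum_congr rfl fun lam _ => hc lam, Finset.sum_const, Finset.card_univ, nsmul_eq_mul,
      ← Nat.card_eq_fintype_card, L.card_dual, mul_assoc]
  set z := L.mult χ (L.rep θ (L.base θ)) θ
  have hsum : ∑ lam : L.Dual, L.mult χ lam θ =
      L.eV χ θ + (L.eIdx θ : ℤ) * ∑ I : L.Idx θ, L.tV χ θ (L.rep θ I) + (p : ℤ) * z := by
    rw [L.sum_dual θ (fun lam => L.mult χ lam θ) fun lam mu h => L.mult_rel χ h, hp1]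
    simp only [Loc.eV, Loc.tV, Finset.sum_sub_distrib, Finset.sum_const, Finset.card_univ,
      nsmul_eq_mul]
    simp only [z]
    ring
  refine ⟨(L.wOrb θ : ℤ) * d θ * z +
    ∑ φ ∈ Finset.univ.filter (fun φ => ¬ φ ∈ L.orbit θ), L.mult χ 1 φ * d φ, ?_⟩
  rw [hval, ← Finset.sum_filter_add_sum_filter_not Finset.univ (fun φ => φ ∈ L.orbit θ),
    Finset.sum_congr rfl hin, Finset.sum_congr rfl hout, Finset.sum_const, nsmul_eq_mul, hsum,
    ← Finset.mul_sum, Nat.cast_mul]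
  simp only [Loc.wOrb, hd]
  ring

/-- Coefficient at a non-exceptional character. -/
theorem Loc.eV_sign (hM : IsPModular p M) (hodd : p ≠ 2) {θ : IrrCharacter L.O}
    {χ : IrrCharacter G} (hχ : χ ∈ L.indB hM θ)
    (ht : ∀ lam : L.Dual, lam ≠ 1 → L.tV χ θ lam = 0) : L.eV χ θ = 1 ∨ L.eV χ θ = -1 := by
  have hne : L.eV χ θ ≠ 0 := (L.exists_nonconst hM hχ).resolve_right fun ⟨lam, h1, h2⟩ =>
    h2 (ht lam h1)
  obtain ⟨n, hn, -, hb⟩ := L.bound hM hodd {χ} (fun φ hφ => (Finset.mem_singleton.1 hφ).symm ▸ hχ)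
    (fun lam hlam => by rw [Finset.sum_singleton]; exact ht lam hlam)
    (fun φ hφ ψ hψ => by rw [Finset.mem_singleton.1 hφ, Finset.mem_singleton.1 hψ])
    (Finset.mem_singleton_self χ)
  rw [Finset.sum_singleton, abs_mul, Nat.abs_cast] at hb
  have h1 : (1 : ℤ) ≤ (n χ : ℤ) := by exact_mod_cast hn
  have h2 : 1 ≤ |L.eV χ θ| := Int.one_le_abs hne
  have h3 : |L.eV χ θ| ≤ 1 := by nlinarith
  exact (abs_eq zero_le_one).1 (le_antisymm h3 h2)

/-- **The structure of an induced block.** -/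
theorem Loc.exists_decomposition (hM : IsPModular p M) (hodd : p ≠ 2) (θ : IrrCharacter L.O) :
    ∃ (X Y : Finset (IrrCharacter G)) (εY : ℤ),
      (∀ χ, χ ∈ L.indB hM θ ↔ χ ∈ X ∨ χ ∈ Y) ∧ Disjoint X Y ∧
      X.card = L.eIdx θ ∧ Y.card = Fintype.card (L.Idx θ) ∧ (εY = 1 ∨ εY = -1) ∧
      (∀ χ ∈ X, (L.eV χ θ = 1 ∨ L.eV χ θ = -1) ∧
        (∀ lam : L.Dual, lam ≠ 1 → L.tV χ θ lam = 0) ∧
        ∃ K : ℤ, (charDegree (χ : G → ℂ) : ℤ) =
          L.eV χ θ * (L.wOrb θ * charDegree (θ : L.O → ℂ) : ℕ) + (p : ℤ) * K) ∧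
      (∀ χ ∈ Y, ∃ K : ℤ, (charDegree (χ : G → ℂ) : ℤ) =
          εY * ((L.eIdx θ * L.wOrb θ) * charDegree (θ : L.O → ℂ) : ℕ) + (p : ℤ) * K) ∧
      (∀ χ ∈ Y, ∀ ψ ∈ Y, ∀ g : G, ¬ p ∣ orderOf g → (χ : G → ℂ) g = (ψ : G → ℂ) g) ∧
      ∀ ψ ∈ Y, ∀ g : G, ¬ p ∣ orderOf g →
        (εY : ℂ) * (ψ : G → ℂ) g = ∑ χ ∈ X, (L.eV χ θ : ℂ) * (χ : G → ℂ) g := by
  -- it is enough to produce the exceptional set
  suffices h : ∃ (Y : Finset (IrrCharacter G)) (εY : ℤ), (∀ χ ∈ Y, χ ∈ L.indB hM θ) ∧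
      Y.card = Fintype.card (L.Idx θ) ∧ (εY = 1 ∨ εY = -1) ∧
      (∀ χ, χ ∈ L.indB hM θ → χ ∉ Y → ∀ lam : L.Dual, lam ≠ 1 → L.tV χ θ lam = 0) ∧
      ∑ χ ∈ Y, L.eV χ θ ^ 2 = 1 ∧ ∑ χ ∈ Y, L.eV χ θ = -εY ∧
      (∀ χ ∈ Y, ∃ K : ℤ, L.eV χ θ + (L.eIdx θ : ℤ) * ∑ I : L.Idx θ, L.tV χ θ (L.rep θ I) =
        εY * (L.eIdx θ : ℤ) + (p : ℤ) * K) ∧
      ∀ χ ∈ Y, ∀ ψ ∈ Y, ∀ g : G, ¬ p ∣ orderOf g → (χ : G → ℂ) g = (ψ : G → ℂ) g by
    obtain ⟨Y, εY, hYB, hYcard, hεY, htame, hsq, hsum, hYdeg, hYreg⟩ := h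
    set X := Finset.univ.filter fun χ => χ ∈ L.indB hM θ ∧ χ ∉ Y with hX
    have hXsign : ∀ χ ∈ X, L.eV χ θ = 1 ∨ L.eV χ θ = -1 := fun χ hχ =>
      L.eV_sign hM hodd (Finset.mem_filter.1 hχ).2.1
        (htame χ (Finset.mem_filter.1 hχ).2.1 (Finset.mem_filter.1 hχ).2.2)
    have hdisj : Disjoint X Y :=
      Finset.disjoint_left.2 fun χ hχ => (Finset.mem_filter.1 hχ).2.2
    have hsplit : ∀ {R : Type} [AddCommMonoid R] (F : IrrCharacter G → R),
        (∀ χ, χ ∉ L.indB hM θ → F χ = 0) → ∑ χ, F χ = ∑ χ ∈ X, F χ + ∑ χ ∈ Y, F χ := by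
      intro R _ F hF
      rw [← Finset.sum_union hdisj]
      refine (Finset.sum_subset (Finset.subset_univ _) fun χ _ hχ => hF χ fun hB => hχ ?_).symm
      rw [Finset.mem_union]
      by_cases hY : χ ∈ Y
      · exact Or.inr hY
      · exact Or.inl (Finset.mem_filter.2 ⟨Finset.mem_univ _, hB, hY⟩)
    refine ⟨X, Y, εY, fun χ => ⟨fun hB => ?_, fun h => h.elim (fun h => (Finset.mem_filter.1 h).2.1)
      (hYB χ)⟩, hdisj, ?_, hYcard, hεY, fun χ hχ => ?_, fun χ hχ => ?_, hYreg, fun ψ hψ g hg => ?_⟩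
    · by_cases hY : χ ∈ Y
      · exact Or.inr hY
      · exact Or.inl (Finset.mem_filter.2 ⟨Finset.mem_univ _, hB, hY⟩)
    · have h := L.sum_eV_sq θ
      rw [hsplit _ (fun χ hχ => by rw [(L.vanish_of_notMem hM hχ 1).1]; rfl), hsq,
        Finset.sum_congr rfl fun χ hχ => show L.eV χ θ ^ 2 = 1 by
          rcases hXsign χ hχ with h | h <;> rw [h] <;> rfl, Finset.sum_const, nsmul_one] at h
      exact_mod_cast add_right_cancel h
    · obtain ⟨hB, hY⟩ := (Finset.mem_filter.1 hχ).2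
      refine ⟨hXsign χ hχ, htame χ hB hY, ?_⟩
      obtain ⟨K, hK⟩ := L.degree hM hB
      rw [Finset.sum_eq_zero fun I _ => htame χ hB hY _ (L.rep_ne θ I), mul_zero, add_zero] at hK
      exact ⟨K, by rw [hK]; ring⟩
    · obtain ⟨K, hK⟩ := L.degree hM (hYB χ hχ)
      obtain ⟨K', hK'⟩ := hYdeg χ hχ
      refine ⟨K + (L.wOrb θ * charDegree (θ : L.O → ℂ) : ℕ) * K', ?_⟩
      rw [hK, hK']
      push_cast
      ring
    · have h := L.sum_eV_values θ hg
      rw [hsplit _ (fun χ hχ => by rw [(L.vanish_of_notMem hM hχ 1).1, Int.cast_zero, zero_mul]),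
        Finset.sum_congr rfl fun χ (hχ : χ ∈ Y) => by rw [hYreg χ hχ ψ hψ g hg],
        ← Finset.sum_mul, ← Int.cast_sum, hsum, Int.cast_neg] at h
      linear_combination -h
  set I₀ := L.base θ with hI₀
  set t := Fintype.card (L.Idx θ) with ht
  have hp1 : (p : ℤ) = 1 + (L.eIdx θ : ℤ) * (t : ℤ) := by
    have h1 := L.eIdx_mul_card θ
    have h2 := hp.out.one_le
    have : ((L.eIdx θ * Fintype.card (L.Idx θ) : ℕ) : ℤ) = ((p - 1 : ℕ) : ℤ) := by rw [h1]
    push_cast [h2] at this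
    linarith
  have ht0 : 0 < t := Fintype.card_pos_iff.2 (L.idx_nonempty θ)
  rcases Nat.lt_or_ge t 2 with ht1 | ht2
  · -- a single orbit
    have hI : ∀ I : L.Idx θ, I = I₀ := fun I => by
      haveI := Fintype.card_le_one_iff_subsingleton.1 (show t ≤ 1 by omega)
      exact Subsingleton.elim _ _
    have htame : ∀ (χ : IrrCharacter G) (lam : L.Dual), lam ≠ 1 → L.tV χ θ lam = 0 := by
      intro χ lam hlam
      rw [L.tV_rep χ hlam, hI (Quotient.mk _ _)]
      exact sub_self _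
    obtain ⟨χ, hχ⟩ := Blocks.IsPBlock.nonempty hM (L.indB_spec hM θ).2.1
    have hs := L.eV_sign hM hodd hχ (htame χ)
    refine ⟨{χ}, -L.eV χ θ, fun φ hφ => (Finset.mem_singleton.1 hφ).symm ▸ hχ,
      by rw [Finset.card_singleton]; omega, by omega, fun φ _ _ => htame φ, ?_, by simp, ?_,
      fun φ hφ ψ hψ g _ => by rw [Finset.mem_singleton.1 hφ, Finset.mem_singleton.1 hψ]⟩
    · rw [Finset.sum_singleton]
      rcases hs with h | h <;> rw [h] <;> rfl
    · intro φ hφ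
      rw [Finset.mem_singleton.1 hφ, Finset.sum_eq_zero fun I _ => htame χ _ (L.rep_ne θ I)]
      have ht' : (t : ℤ) = 1 := by omega
      rw [ht', mul_one] at hp1
      exact ⟨L.eV χ θ, by rw [hp1]; ring⟩
  -- the exceptional family
  set τ : L.Idx θ → G → ℂ := fun I => L.psi θ (L.rep θ I) - L.psi θ (L.rep θ I₀) with hτ
  obtain ⟨εc, hεc, μ, hμinj, hτμ⟩ := CfsgLib.CharExceptional.exceptional_family I₀ τ
    (by simp [hτ]) (fun I => isGeneralizedCharacter_sub
      (isGeneralizedCharacter_of_isCharacter (L.psi_isCharacter θ _))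
      (isGeneralizedCharacter_of_isCharacter (L.psi_isCharacter θ _)))
    (fun I => by simp only [hτ, Pi.sub_apply, L.psi_one, sub_self])
    (fun I hI => by rw [hτ, L.inner_diff_diff, if_pos rfl, if_neg hI, if_neg (Ne.symm hI)]; norm_num)
    (fun I J hI hJ hne => by
      rw [hτ, L.inner_diff_diff, if_neg hne, if_neg hI, if_neg (Ne.symm hJ)]; norm_num)
  obtain ⟨ε, hε, rfl⟩ : ∃ ε : ℤ, (ε = 1 ∨ ε = -1) ∧ (ε : ℂ) = εc := by
    rcases hεc with h | h
    · exact ⟨1, Or.inl rfl, by rw [h]; norm_num⟩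
    · exact ⟨-1, Or.inr rfl, by rw [h]; norm_num⟩
  have hεsq : ε * ε = 1 := by rcases hε with h | h <;> rw [h] <;> rfl
  have htV : ∀ (χ : IrrCharacter G) (I : L.Idx θ), L.tV χ θ (L.rep θ I) =
      ε * ((if μ I = χ then 1 else 0) - (if μ I₀ = χ then 1 else 0)) := by
    intro χ I
    have h := L.classInner_psiD θ (L.rep θ I) (L.rep θ I₀) χ
    rw [show L.psi θ (L.rep θ I) - L.psi θ (L.rep θ I₀) = τ I from rfl, hτμ, classInner_smul_left,
      classInner_sub_left, classInner_irr, classInner_irr] at h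
    rw [Loc.tV, ← hI₀]
    refine Int.cast_injective (α := ℂ) ?_
    rw [← h]
    push_cast
    rfl
  obtain ⟨I₁, hI₁⟩ : ∃ I : L.Idx θ, I ≠ I₀ := Fintype.exists_ne_of_one_lt_card (by omega) I₀
  have hμB : ∀ J, μ J ∈ L.indB hM θ := by
    intro J
    by_contra hJ
    have h := fun I => (L.vanish_of_notMem hM hJ (L.rep θ I)).2
    by_cases hJ0 : J = I₀
    · have h1 := h I₁
      rw [htV, if_neg fun hh => hI₁ ((hμinj hh).trans hJ0), if_pos (by rw [hJ0])] at h1
      omega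
    · have h1 := h J
      rw [htV, if_pos rfl, if_neg fun hh => hJ0 (hμinj hh).symm] at h1
      omega
  set Y := Finset.univ.image μ with hY
  have hreg : ∀ J, ∀ g : G, ¬ p ∣ orderOf g → (μ J : G → ℂ) g = (μ I₀ : G → ℂ) g := by
    intro J g hg
    have h := congrFun (hτμ J) g
    simp only [hτ, Pi.sub_apply] at h
    rw [L.psi_regular θ (L.rep θ J) (L.rep θ I₀) hg, sub_self, Pi.smul_apply,
      Pi.sub_apply, smul_eq_mul, eq_comm, mul_eq_zero, Int.cast_eq_zero] at h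
    exact sub_eq_zero.1 (h.resolve_left (by omega))
  have hdeg : ∀ J, (μ J : G → ℂ) 1 = (μ I₀ : G → ℂ) 1 := fun J =>
    hreg J 1 (by rw [orderOf_one]; exact hp.out.not_dvd_one)
  have htameY : ∀ (lam : L.Dual) (hl : lam ≠ 1) (w : L.Idx θ → ℤ),
      ∑ J, w J * L.tV (μ J) θ lam = ε * (w (Quotient.mk (L.setoid θ) ⟨lam, hl⟩) - w I₀) := by
    intro lam hlam w
    simp only [L.tV_rep _ hlam, htV, hμinj.eq_iff, mul_sub, mul_ite, mul_one, mul_zero,
      Finset.sum_sub_distrib, Finset.sum_ite_eq, Finset.mem_univ, if_true]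
    ring
  set c := L.eV (μ I₀) θ + ε with hc
  have hcI : ∀ I, I ≠ I₀ → L.eV (μ I) θ = c := by
    intro I hI
    have h := L.inner_base_diff θ hI
    rw [show L.psi θ (L.rep θ I) - L.psi θ (L.rep θ (L.base θ)) = τ I from rfl, hτμ,
      classInner_smul_right, classInner_sub_right, L.classInner_psiD, L.classInner_psiD,
      map_intCast] at h
    have h' : ε * (L.eV (μ I) θ - L.eV (μ I₀) θ) = 1 := by exact_mod_cast h
    rw [hc]
    linear_combination ε * h' - (L.eV (μ I) θ - L.eV (μ I₀) θ) * hεsq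
  obtain ⟨n, hn0, hnt, hnb⟩ := L.bound hM hodd Y
    (fun χ hχ => by obtain ⟨J, -, rfl⟩ := Finset.mem_image.1 hχ; exact hμB J)
    (fun lam hlam => by
      rw [hY, Finset.sum_image hμinj.injOn]
      simpa using htameY lam hlam (fun _ => 1))
    (fun χ hχ ψ hψ => by
      obtain ⟨J, -, rfl⟩ := Finset.mem_image.1 hχ
      obtain ⟨J', -, rfl⟩ := Finset.mem_image.1 hψ
      rw [hdeg J, hdeg J'])
    (χ₀ := μ I₀) (Finset.mem_image_of_mem μ (Finset.mem_univ I₀))
  have hnconst : ∀ I, n (μ I) = n (μ I₀) := by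
    intro I
    have h := hnt _ (L.rep_ne θ I)
    rw [hY, Finset.sum_image hμinj.injOn, htameY _ (L.rep_ne θ I) (fun J => (n (μ J) : ℤ))] at h
    rw [show Quotient.mk (L.setoid θ) ⟨L.rep θ I, L.rep_ne θ I⟩ = I from Quotient.out_eq I] at h
    rcases hε with he | he <;> rw [he] at h <;> omega
  have hsumeV : ∑ J, L.eV (μ J) θ = (t : ℤ) * c - ε := by
    rw [← Finset.add_sum_erase _ _ (Finset.mem_univ I₀),
      Finset.sum_congr rfl fun J hJ => hcI J (Finset.mem_erase.1 hJ).1, Finset.sum_const,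
      Finset.card_erase_of_mem (Finset.mem_univ I₀), Finset.card_univ, ← ht, nsmul_eq_mul,
      Nat.cast_sub (by omega : 1 ≤ t)]
    push_cast
    rw [hc]
    ring
  have hsumsq : ∑ J, L.eV (μ J) θ ^ 2 = (c - ε) ^ 2 + ((t : ℤ) - 1) * c ^ 2 := by
    rw [← Finset.add_sum_erase _ _ (Finset.mem_univ I₀),
      Finset.sum_congr rfl fun J hJ => by rw [hcI J (Finset.mem_erase.1 hJ).1], Finset.sum_const,
      Finset.card_erase_of_mem (Finset.mem_univ I₀), Finset.card_univ, ← ht, nsmul_eq_mul,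
      Nat.cast_sub (by omega : 1 ≤ t)]
    push_cast
    rw [hc]
    ring
  have hcases : c = 0 ∨ (t = 2 ∧ c = ε) := by
    rw [hY, Finset.sum_image hμinj.injOn, Finset.sum_congr rfl fun J _ => by rw [hnconst J],
      ← Finset.mul_sum, hsumeV, abs_mul, Nat.abs_cast] at hnb
    have h1 : (1 : ℤ) ≤ (n (μ I₀) : ℤ) := by exact_mod_cast hn0
    have h2 : |(t : ℤ) * c - ε| ≤ 1 :=
      le_trans (le_mul_of_one_le_left (abs_nonneg _) h1) hnb
    rw [abs_le] at h2
    have ht2' : (2 : ℤ) ≤ (t : ℤ) := by exact_mod_cast ht2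
    rcases lt_trichotomy c 0 with hc0 | hc0 | hc0
    · right
      have h3 : (t : ℤ) * c ≤ -(t : ℤ) := by nlinarith
      have h4 : (t : ℤ) = 2 := by rcases hε with he | he <;> omega
      rw [h4] at h2
      exact ⟨by omega, by rcases hε with he | he <;> omega⟩
    · exact Or.inl hc0
    · right
      have h3 : (t : ℤ) ≤ (t : ℤ) * c := by nlinarith
      have h4 : (t : ℤ) = 2 := by rcases hε with he | he <;> omega
      rw [h4] at h2
      exact ⟨by omega, by rcases hε with he | he <;> omega⟩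
  have hsumI : ∀ J, ∑ I : L.Idx θ, L.tV (μ J) θ (L.rep θ I) =
      ε * (1 - (t : ℤ) * (if J = I₀ then 1 else 0)) := by
    intro J
    simp only [htV, hμinj.eq_iff, ← Finset.mul_sum, Finset.sum_sub_distrib, Finset.sum_ite_eq',
      Finset.mem_univ, if_true, Finset.sum_const, Finset.card_univ, ← ht, nsmul_eq_mul,
      eq_comm (a := I₀)]
  refine ⟨Y, if c = 0 then ε else -ε, fun χ hχ => ?_, ?_, ?_, fun χ _ hχ lam hlam => ?_, ?_, ?_,
    fun χ hχ => ?_, fun χ hχ ψ hψ g hg => ?_⟩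
  · obtain ⟨J, -, rfl⟩ := Finset.mem_image.1 hχ
    exact hμB J
  · rw [hY, Finset.card_image_of_injective _ hμinj, Finset.card_univ]
  · split_ifs <;> omega
  · rw [L.tV_rep χ hlam, htV, if_neg fun h => hχ (Finset.mem_image.2 ⟨_, Finset.mem_univ _, h⟩),
      if_neg fun h => hχ (Finset.mem_image.2 ⟨_, Finset.mem_univ _, h⟩), sub_self, mul_zero]
  · rw [hY, Finset.sum_image hμinj.injOn, hsumsq]
    rcases hcases with h | ⟨h, h'⟩
    · rw [h]; linear_combination hεsq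
    · rw [h', h]; push_cast; linear_combination hεsq
  · rw [hY, Finset.sum_image hμinj.injOn, hsumeV]
    rcases hcases with h | ⟨h, h'⟩
    · rw [h, if_pos rfl]; ring
    · rw [if_neg (by omega), h', h]; push_cast; ring
  · obtain ⟨J, -, rfl⟩ := Finset.mem_image.1 hχ
    rw [hsumI]
    by_cases hJ : J = I₀
    · subst hJ
      have he : L.eV (μ I₀) θ = c - ε := by rw [hc]; ring
      rw [he, if_pos rfl]
      rcases hcases with h | ⟨h, h'⟩
      · refine ⟨-ε, ?_⟩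
        rw [h, if_pos rfl, hp1]
        ring
      · refine ⟨0, ?_⟩
        rw [if_neg (by omega : ¬ c = 0), h', h]
        push_cast
        ring
    · rw [hcI J hJ, if_neg hJ]
      rcases hcases with h | ⟨h, h'⟩
      · refine ⟨0, ?_⟩
        rw [h, if_pos rfl]
        ring
      · refine ⟨ε, ?_⟩
        rw [if_neg (by omega : ¬ c = 0), h', hp1, h]
        push_cast
        ring
  · obtain ⟨J, -, rfl⟩ := Finset.mem_image.1 hχ
    obtain ⟨J', -, rfl⟩ := Finset.mem_image.1 hψ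
    rw [hreg J g hg, hreg J' g hg]

end CfsgLib.CyclicDefect
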