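import Cfsg.Agent.Lib.CyclicDefect.BlockC
import Cfsg.Agent.Lib.Characters.Induction
import Cfsg.Agent.Lib.Characters.Generalized

/-!
# The isometry from the centraliser and the orbits of the stabiliser
-/

set_option autoImplicit false
set_option linter.style.haveILetI false
set_option linter.unusedSectionVars false

noncomputable section

namespace CfsgLib.CyclicDefect

open Cfsg CfsgLib.Characters
open scoped ComplexConjugate Classical

universe u

variable {p : ℕ} [hp : Fact p.Prime] {G : Type u} [Group G] [Fintype G] (L : Loc p G)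

/-- Conjugation of the Sylow subgroup by an element of the normaliser. -/
def Loc.autP (n : L.N) : (L.P : Subgroup G) ≃* (L.P : Subgroup G) :=
  (L.P : Subgroup G).normalizerMonoidHom n

theorem Loc.coe_autP (n : L.N) (z : (L.P : Subgroup G)) :
    (L.autP n z : G) = (n : G) * z * (n : G)⁻¹ := rfl

/-- The conjugate of a linear character of the Sylow subgroup. -/
def Loc.conjDual (n : L.N) (lam : L.Dual) : L.Dual := lam.comp (L.autP n).toMonoidHom

theorem Loc.conjDual_apply (n : L.N) (lam : L.Dual) (z : (L.P : Subgroup G)) :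
    L.conjDual n lam z = lam (L.autP n z) := rfl

theorem Loc.conjDual_mul (a b : L.N) (lam : L.Dual) :
    L.conjDual b (L.conjDual a lam) = L.conjDual (a * b) lam :=
  MonoidHom.ext fun z => congrArg lam (Subtype.ext (by simp [L.coe_autP, mul_assoc]))

theorem Loc.conjDual_one (lam : L.Dual) : L.conjDual 1 lam = lam :=
  MonoidHom.ext fun z => congrArg lam (Subtype.ext (by simp [L.coe_autP]))

theorem Loc.conjDual_bijective (n : L.N) : Function.Bijective (L.conjDual n) := by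
  refine Function.bijective_iff_has_inverse.2 ⟨L.conjDual n⁻¹, fun lam => ?_, fun lam => ?_⟩
  · rw [L.conjDual_mul, mul_inv_cancel, L.conjDual_one]
  · rw [L.conjDual_mul, inv_mul_cancel, L.conjDual_one]

theorem Loc.conjDual_trivial (n : L.N) : L.conjDual n 1 = 1 := MonoidHom.ext fun _ => rfl

/-- The element `z * y` of the centraliser. -/
def Loc.zy (z : (L.P : Subgroup G)) (y : L.O) : L.C :=
  ⟨(z : G) * y, L.C.mul_mem (L.P_le_C z.2) (L.O_le_C y.2)⟩

theorem Loc.xi_zy (lam : L.Dual) (θ : IrrCharacter L.O) (z : (L.P : Subgroup G)) (y : L.O) :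
    (L.xi lam θ : L.C → ℂ) (L.zy z y) = (lam z : ℂ) * (θ : L.O → ℂ) y := by
  have hz' : (z : G) ∈ Subgroup.zpowers L.x := by rw [L.zpowers]; exact z.2
  obtain ⟨i, hi⟩ := mem_powers_iff_mem_zpowers.2 hz'
  have hz : z = (⟨L.x, L.hxP⟩ : (L.P : Subgroup G)) ^ i := Subtype.ext hi.symm
  have e : L.zy z y = L.el i y := Subtype.ext (by rw [hz]; rfl)
  rw [e, L.xi_el, hz, map_pow, Units.val_pow_eq_pow_val]

/-- Conjugation of the centraliser by an element of the normaliser. -/
def Loc.autC (n : L.N) : L.C ≃ L.C where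
  toFun c := ⟨(n : G) * c * (n : G)⁻¹, L.conj_mem_C n.2 c.2⟩
  invFun c := ⟨(n : G)⁻¹ * c * n, by simpa using L.conj_mem_C (inv_mem n.2) c.2⟩
  left_inv c := Subtype.ext (by simp [mul_assoc])
  right_inv c := Subtype.ext (by simp [mul_assoc])

theorem Loc.xi_autC (lam : L.Dual) (θ : IrrCharacter L.O) (n : L.N) (c : L.C) :
    (L.xi lam θ : L.C → ℂ) (L.autC n c) =
      (L.xi (L.conjDual n lam) (L.conjIrr n θ) : L.C → ℂ) c := by
  obtain ⟨i, -, y, rfl⟩ := L.exists_el c
  set z : (L.P : Subgroup G) := ⟨L.x, L.hxP⟩ ^ i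
  have e1 : L.el i y = L.zy z y := Subtype.ext rfl
  have e2 : L.autC n (L.el i y) = L.zy (L.autP n z) (L.aut n y) := Subtype.ext (by
    show (n : G) * (L.x ^ i * y) * (n : G)⁻¹ =
      (n : G) * L.x ^ i * (n : G)⁻¹ * ((n : G) * y * (n : G)⁻¹)
    group)
  rw [e2, e1, L.xi_zy, L.xi_zy, L.conjDual_apply, L.conjIrr_apply]

variable [Fintype L.C] [Fintype L.O] [Fintype L.Dual]

theorem Loc.coef_conj {F : G → ℂ} (hF : IsClassFunction G F) (n : L.N) (lam : L.Dual)
    (θ : IrrCharacter L.O) :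
    L.coef F (L.conjDual n lam) (L.conjIrr n θ) = L.coef F lam θ := by
  simp only [Loc.coef, classInner]
  congr 1
  refine Fintype.sum_equiv (L.autC n) _ _ fun c => ?_
  rw [← L.xi_autC]
  congr 1
  exact (hF (c : G) (n : G)).symm

theorem Loc.sum_coef_conj {F : G → ℂ} (hF : IsClassFunction G F) (n : L.N)
    (θ : IrrCharacter L.O) :
    ∑ lam : L.Dual, L.coef F lam (L.conjIrr n θ) = ∑ lam : L.Dual, L.coef F lam θ := by
  rw [← (L.conjDual_bijective n).sum_comp]
  exact Finset.sum_congr rfl fun lam _ => L.coef_conj hF n lam θ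

/-- The induced character of a pair. -/
def Loc.psi (θ : IrrCharacter L.O) (lam : L.Dual) : G → ℂ :=
  indFun L.C (L.xi lam θ : L.C → ℂ)

theorem Loc.classInner_psi (θ : IrrCharacter L.O) (lam : L.Dual) (χ : IrrCharacter G) :
    classInner (χ : G → ℂ) (L.psi θ lam) = L.coef (χ : G → ℂ) lam θ :=
  Induction.classInner_indFun_right L.C _ (irr_isClassFunction χ)

theorem Loc.psi_isCharacter (θ : IrrCharacter L.O) (lam : L.Dual) :
    IsCharacter G (L.psi θ lam) :=
  Induction.isCharacter_indFun L.C (irr_isCharacter _)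

theorem Loc.psi_one (θ : IrrCharacter L.O) (lam : L.Dual) :
    L.psi θ lam 1 = (L.C.index : ℂ) * (θ : L.O → ℂ) 1 := by
  rw [Loc.psi, Induction.indFun_one_apply]
  have h1 : (1 : L.C) = L.el 0 1 := Subtype.ext (by simp [Loc.el])
  rw [h1, L.xi_el, pow_zero, one_mul]

/-- The number of elements of the stabiliser taking one linear character to another. -/
def Loc.cnt (θ : IrrCharacter L.O) (lam mu : L.Dual) : ℕ :=
  (Finset.univ.filter fun n : L.N => L.conjIrr n θ = θ ∧ L.conjDual n mu = lam).card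

theorem Loc.psi_diff_eq (θ : IrrCharacter L.O) (lam mu : L.Dual) (c : L.C) :
    indFun L.C (fun d => (L.xi lam θ : L.C → ℂ) d - (L.xi mu θ : L.C → ℂ) d) c =
      (Nat.card L.C : ℂ)⁻¹ * ∑ n : L.N,
        ((L.xi lam θ : L.C → ℂ) (L.autC n c) - (L.xi mu θ : L.C → ℂ) (L.autC n c)) := by
  rw [Induction.indFun_apply]
  congr 1
  have hreg : ∀ d : L.C, ¬ p ∣ orderOf (d : G) →
      (L.xi lam θ : L.C → ℂ) d - (L.xi mu θ : L.C → ℂ) d = 0 := by
    intro d hd
    obtain ⟨i, hi, y, rfl⟩ := L.exists_el d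
    have hi0 : i = 0 := by
      by_contra h0
      exact hd ((L.regular_iff hi y.2).2 h0)
    subst hi0
    rw [L.xi_el, L.xi_el, pow_zero, pow_zero, sub_self]
  rw [← Equiv.sum_comp (Equiv.inv G), ← Finset.sum_filter_add_sum_filter_not Finset.univ (· ∈ L.N),
    Finset.sum_eq_zero (s := Finset.univ.filter fun g => ¬ g ∈ L.N) fun g hg => ?_, add_zero]
  · refine Finset.sum_bij' (fun g hg => (⟨g, (Finset.mem_filter.1 hg).2⟩ : L.N))
      (fun n _ => (n : G)) (fun _ _ => Finset.mem_univ _)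
      (fun n _ => Finset.mem_filter.2 ⟨Finset.mem_univ _, n.2⟩) (fun _ _ => rfl) (fun _ _ => rfl)
      fun g hg => ?_
    simp only [Equiv.inv_apply, inv_inv]
    rw [Induction.extendByZero_mem L.C _ (L.conj_mem_C (Finset.mem_filter.1 hg).2 c.2)]
    rfl
  · have hgN := (Finset.mem_filter.1 hg).2
    simp only [Equiv.inv_apply, inv_inv]
    by_cases hmem : g * (c : G) * g⁻¹ ∈ L.C
    · rw [Induction.extendByZero_mem L.C _ hmem]
      refine hreg _ fun hd => hgN (L.fusion c.2 ?_ hmem)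
      have ho := (MulAut.conj g).orderOf_eq (c : G)
      rw [MulAut.conj_apply] at ho
      rwa [← ho]
    · exact Induction.extendByZero_notMem L.C _ hmem

theorem Loc.classInner_xi (lam mu : L.Dual) (θ φ : IrrCharacter L.O) :
    classInner (L.xi lam θ : L.C → ℂ) (L.xi mu φ : L.C → ℂ) =
      if θ = φ ∧ lam = mu then 1 else 0 := by
  rw [classInner_irr]
  refine if_congr ⟨fun h => ?_, fun h => by rw [h.1, h.2]⟩ rfl rfl
  have h' := L.xi_injective (a₁ := (lam, θ)) (a₂ := (mu, φ)) h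
  exact ⟨congrArg Prod.snd h', congrArg Prod.fst h'⟩

/-- The inner products of the differences. -/
theorem Loc.inner_diff (θ : IrrCharacter L.O) (a b a' b' : L.Dual) :
    (Nat.card L.C : ℂ) * classInner (L.psi θ a - L.psi θ b) (L.psi θ a' - L.psi θ b') =
      (L.cnt θ a a' : ℂ) - L.cnt θ a b' - L.cnt θ b a' + L.cnt θ b b' := by
  have hsub : ∀ x y : L.Dual, L.psi θ x - L.psi θ y =
      indFun L.C (fun d => (L.xi x θ : L.C → ℂ) d - (L.xi y θ : L.C → ℂ) d) :=
    fun x y => (Induction.indFun_sub L.C _ _).symm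
  have hC : (Nat.card L.C : ℂ) ≠ 0 := Nat.cast_ne_zero.2 Nat.card_pos.ne'
  have hres : (fun c : L.C => (L.psi θ a' - L.psi θ b') c) =
      (Nat.card L.C : ℂ)⁻¹ • ∑ n : L.N,
        ((L.xi (L.conjDual n a') (L.conjIrr n θ) : L.C → ℂ) -
          (L.xi (L.conjDual n b') (L.conjIrr n θ) : L.C → ℂ)) := by
    funext c
    rw [hsub, L.psi_diff_eq, Pi.smul_apply, Finset.sum_apply, smul_eq_mul]
    exact congrArg _ (Finset.sum_congr rfl fun n _ => by rw [Pi.sub_apply, L.xi_autC, L.xi_autC])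
  rw [hsub a b, Induction.classInner_indFun L.C _ (ψ := L.psi θ a' - L.psi θ b')
    (isClassFunction_sub (Induction.isClassFunction_indFun L.C _)
      (Induction.isClassFunction_indFun L.C _)), hres, classInner_smul_right, classInner_sum_right,
    map_inv₀, map_natCast, ← mul_assoc, mul_inv_cancel₀ hC, one_mul]
  simp only [show (fun d => (L.xi a θ : L.C → ℂ) d - (L.xi b θ : L.C → ℂ) d) =
    (L.xi a θ : L.C → ℂ) - (L.xi b θ : L.C → ℂ) from rfl, classInner_sub_left, classInner_sub_right,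
    L.classInner_xi, Finset.sum_sub_distrib, Finset.sum_boole, Loc.cnt]
  simp only [eq_comm (a := θ), eq_comm (a := a), eq_comm (a := b)]
  ring

/-- The stabiliser inside the normaliser. -/
def Loc.stabN (θ : IrrCharacter L.O) : Subgroup L.N where
  carrier := {n | L.conjIrr n θ = θ}
  mul_mem' := by
    intro a b ha hb
    show L.conjIrr (a * b) θ = θ
    rw [← L.conjIrr_mul, ha, hb]
  one_mem' := L.conjIrr_one θ
  inv_mem' := by
    intro a ha
    show L.conjIrr a⁻¹ θ = θ
    conv_lhs => rw [← (show L.conjIrr a θ = θ from ha)]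
    rw [L.conjIrr_mul, mul_inv_cancel, L.conjIrr_one]

theorem Loc.mem_stabN {θ : IrrCharacter L.O} {n : L.N} :
    n ∈ L.stabN θ ↔ L.conjIrr n θ = θ := Iff.rfl

theorem Loc.C_le_stabN (θ : IrrCharacter L.O) : L.C.subgroupOf L.N ≤ L.stabN θ := by
  intro n hn
  obtain ⟨i, -, y, hy⟩ := L.exists_el ⟨(n : G), Subgroup.mem_subgroupOf.1 hn⟩
  have hny : (n : G) = L.x ^ i * y := congrArg Subtype.val hy
  refine L.mem_stabN.2 (Subtype.ext (funext fun z => ?_))
  rw [L.conjIrr_apply]
  have e : L.aut n z = y * z * y⁻¹ := Subtype.ext (by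
    show (n : G) * z * (n : G)⁻¹ = (y : G) * z * (y : G)⁻¹
    have hc : Commute ((y : G) * z * (y : G)⁻¹) (L.x ^ i) :=
      (show Commute _ L.x from L.O_commute (y * z * y⁻¹).2).pow_right i
    rw [hny, show L.x ^ i * (y : G) * z * (L.x ^ i * (y : G))⁻¹ =
      L.x ^ i * ((y : G) * z * (y : G)⁻¹) * (L.x ^ i)⁻¹ by group, ← hc.eq, mul_inv_cancel_right])
  rw [e]
  exact irr_isClassFunction θ z y

/-- The index of the centraliser in the stabiliser. -/
def Loc.eIdx (θ : IrrCharacter L.O) : ℕ := (L.C.subgroupOf L.N).relIndex (L.stabN θ)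

theorem Loc.card_stabN (θ : IrrCharacter L.O) :
    Nat.card (L.stabN θ) = Nat.card L.C * L.eIdx θ := by
  rw [← Nat.card_congr (Subgroup.subgroupOfEquivOfLe L.C_le_N).toEquiv,
    ← Nat.card_congr (Subgroup.subgroupOfEquivOfLe (L.C_le_stabN θ)).toEquiv]
  exact (Subgroup.card_mul_index _).symm

theorem Loc.eIdx_pos (θ : IrrCharacter L.O) : 0 < L.eIdx θ := by
  have h := L.card_stabN θ
  refine Nat.pos_of_ne_zero fun h0 => ?_
  rw [h0, mul_zero] at h
  exact Nat.card_pos.ne' h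

theorem Loc.cnt_eq_filter (θ : IrrCharacter L.O) (lam mu : L.Dual) :
    L.cnt θ lam mu =
      (Finset.univ.filter fun n : L.stabN θ => L.conjDual n mu = lam).card := by
  refine Finset.card_bij' (fun n hn => (⟨n, (Finset.mem_filter.1 hn).2.1⟩ : L.stabN θ))
    (fun n _ => (n : L.N)) (fun n hn => ?_) (fun n hn => ?_) (fun _ _ => rfl) (fun _ _ => rfl)
  · exact Finset.mem_filter.2 ⟨Finset.mem_univ _, (Finset.mem_filter.1 hn).2.2⟩
  · exact Finset.mem_filter.2 ⟨Finset.mem_univ _, n.2, (Finset.mem_filter.1 hn).2⟩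

theorem Loc.cnt_one_one (θ : IrrCharacter L.O) : L.cnt θ 1 1 = Nat.card L.C * L.eIdx θ := by
  rw [L.cnt_eq_filter, ← L.card_stabN, Nat.card_eq_fintype_card]
  simp [L.conjDual_trivial]

theorem Loc.conjDual_fix {lam : L.Dual} (hlam : lam ≠ 1) {n : L.N} (h : L.conjDual n lam = lam) :
    (n : G) ∈ L.C := by
  refine L.mem_C_iff.2 ?_
  have hker : lam.ker = ⊥ := by
    haveI : Fact (Nat.card (L.P : Subgroup G)).Prime :=
      ⟨by rw [show Nat.card (L.P : Subgroup G) = p from L.hP]; exact hp.out⟩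
    exact (lam.ker.eq_bot_or_eq_top_of_prime_card).resolve_right fun hk =>
      hlam (MonoidHom.ext fun z => MonoidHom.mem_ker.1 (by rw [hk]; exact Subgroup.mem_top z))
  have h1 : L.autP n ⟨L.x, L.hxP⟩ = ⟨L.x, L.hxP⟩ :=
    (MonoidHom.ker_eq_bot_iff lam).1 hker (DFunLike.congr_fun h _)
  exact mul_inv_eq_iff_eq_mul.1 (congrArg Subtype.val h1)

theorem Loc.cnt_one_ne {θ : IrrCharacter L.O} {mu : L.Dual} (h : mu ≠ 1) : L.cnt θ 1 mu = 0 := by
  refine Finset.card_eq_zero.2 (Finset.filter_eq_empty_iff.2 fun n _ hn => h ?_)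
  exact (L.conjDual_bijective n).1 (hn.2.trans (L.conjDual_trivial n).symm)

theorem Loc.cnt_ne_one {θ : IrrCharacter L.O} {lam : L.Dual} (h : lam ≠ 1) :
    L.cnt θ lam 1 = 0 := by
  refine Finset.card_eq_zero.2 (Finset.filter_eq_empty_iff.2 fun n _ hn => h ?_)
  rw [← hn.2, L.conjDual_trivial]

/-- Two linear characters in one orbit of the stabiliser. -/
def Loc.Rel (θ : IrrCharacter L.O) (lam mu : L.Dual) : Prop :=
  ∃ n ∈ L.stabN θ, L.conjDual n mu = lam

theorem Loc.rel_equivalence (θ : IrrCharacter L.O) : Equivalence (L.Rel θ) where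
  refl lam := ⟨1, one_mem _, L.conjDual_one lam⟩
  symm := fun {lam mu} ⟨n, hn, h⟩ => ⟨n⁻¹, inv_mem hn, by
    rw [← h, L.conjDual_mul, mul_inv_cancel, L.conjDual_one]⟩
  trans := fun {a b c} ⟨n, hn, h⟩ ⟨m, hm, h'⟩ => ⟨m * n, mul_mem hm hn, by
    rw [← L.conjDual_mul, h', h]⟩

theorem Loc.cnt_eq_zero {θ : IrrCharacter L.O} {lam mu : L.Dual} (h : ¬ L.Rel θ lam mu) :
    L.cnt θ lam mu = 0 :=
  Finset.card_eq_zero.2 (Finset.filter_eq_empty_iff.2 fun n _ hn => h ⟨n, hn.1, hn.2⟩)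

theorem Loc.cnt_self {θ : IrrCharacter L.O} {lam mu : L.Dual} (hmu : mu ≠ 1)
    (h : L.Rel θ lam mu) : L.cnt θ lam mu = Nat.card L.C := by
  obtain ⟨m, hm, hm'⟩ := h
  rw [L.cnt_eq_filter, ← Nat.card_congr (Subgroup.subgroupOfEquivOfLe L.C_le_N).toEquiv,
    ← Nat.card_congr (Subgroup.subgroupOfEquivOfLe (L.C_le_stabN θ)).toEquiv,
    Nat.card_eq_fintype_card, ← Finset.card_univ]
  have hC : ∀ n : L.N, L.conjDual n mu = lam → (n : G) * (m : G)⁻¹ ∈ L.C := by
    intro n hn
    refine L.conjDual_fix hmu (n := n * m⁻¹) ?_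
    rw [← L.conjDual_mul, hn, ← hm', L.conjDual_mul, mul_inv_cancel, L.conjDual_one]
  refine Finset.card_bij'
    (fun n hn => (⟨n * ⟨m, hm⟩⁻¹, Subgroup.mem_subgroupOf.2 (Subgroup.mem_subgroupOf.2
      (hC _ (Finset.mem_filter.1 hn).2))⟩ : (L.C.subgroupOf L.N).subgroupOf (L.stabN θ)))
    (fun d _ => (d : L.stabN θ) * ⟨m, hm⟩) (fun n _ => Finset.mem_univ _) (fun d _ => ?_)
    (fun n _ => inv_mul_cancel_right n _) (fun d _ => Subtype.ext (mul_inv_cancel_right _ _))
  refine Finset.mem_filter.2 ⟨Finset.mem_univ _, ?_⟩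
  have hd : (((d : L.stabN θ) : L.N) : G) ∈ L.C :=
    Subgroup.mem_subgroupOf.1 (Subgroup.mem_subgroupOf.1 d.2)
  have hfix : L.conjDual ((d : L.stabN θ) : L.N) mu = mu := by
    refine MonoidHom.ext fun z => congrArg mu (Subtype.ext ?_)
    show (((d : L.stabN θ) : L.N) : G) * z * (((d : L.stabN θ) : L.N) : G)⁻¹ = z
    rw [← Subgroup.mem_centralizer_iff.1 hd _ z.2, mul_inv_cancel_right]
  rw [Subgroup.coe_mul, ← L.conjDual_mul, hfix]
  exact hm'

/-- The setoid of orbits on the non-trivial linear characters. -/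
def Loc.setoid (θ : IrrCharacter L.O) : Setoid {lam : L.Dual // lam ≠ 1} where
  r a b := L.Rel θ a.1 b.1
  iseqv := ⟨fun a => (L.rel_equivalence θ).refl a.1, fun h => (L.rel_equivalence θ).symm h,
    fun h h' => (L.rel_equivalence θ).trans h h'⟩

/-- The orbits on the non-trivial linear characters. -/
abbrev Loc.Idx (θ : IrrCharacter L.O) : Type u := Quotient (L.setoid θ)

instance Loc.idxFintype (θ : IrrCharacter L.O) : Fintype (L.Idx θ) := Fintype.ofFinite _

/-- A representative of an orbit. -/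
def Loc.rep (θ : IrrCharacter L.O) (I : L.Idx θ) : L.Dual := (Quotient.out I).1

theorem Loc.rep_ne (θ : IrrCharacter L.O) (I : L.Idx θ) : L.rep θ I ≠ 1 := (Quotient.out I).2

theorem Loc.rep_rel {θ : IrrCharacter L.O} {lam : L.Dual} (h : lam ≠ 1) :
    L.Rel θ (L.rep θ (Quotient.mk (L.setoid θ) ⟨lam, h⟩)) lam :=
  Quotient.mk_out (s := L.setoid θ) ⟨lam, h⟩

theorem Loc.eq_of_rel {θ : IrrCharacter L.O} {I J : L.Idx θ}
    (h : L.Rel θ (L.rep θ I) (L.rep θ J)) : I = J := by
  rw [← Quotient.out_eq I, ← Quotient.out_eq J]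
  exact Quotient.sound h

theorem Loc.cnt_rep (θ : IrrCharacter L.O) (I J : L.Idx θ) :
    (L.cnt θ (L.rep θ I) (L.rep θ J) : ℂ) = if I = J then (Nat.card L.C : ℂ) else 0 := by
  split_ifs with h
  · subst h
    rw [L.cnt_self (L.rep_ne θ I) ((L.rel_equivalence θ).refl _)]
  · rw [L.cnt_eq_zero fun hr => h (L.eq_of_rel hr), Nat.cast_zero]

/-- Summing an invariant function over the linear characters. -/
theorem Loc.sum_dual {R : Type*} [CommRing R] (θ : IrrCharacter L.O) (F : L.Dual → R)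
    (hF : ∀ lam mu, L.Rel θ lam mu → F lam = F mu) :
    ∑ lam : L.Dual, F lam = F 1 + (L.eIdx θ : R) * ∑ I : L.Idx θ, F (L.rep θ I) := by
  rw [← Finset.add_sum_erase _ _ (Finset.mem_univ (1 : L.Dual)), Finset.mul_sum]
  congr 1
  let cls : L.Dual → L.Idx θ → Prop := fun lam I => L.Rel θ lam (L.rep θ I)
  have hcls : ∀ lam ∈ Finset.univ.erase (1 : L.Dual),
      ∑ I : L.Idx θ, (if cls lam I then F (L.rep θ I) else 0) = F lam := by
    intro lam hlam
    have hne := (Finset.mem_erase.1 hlam).1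
    have hr := (L.rel_equivalence θ).symm (L.rep_rel (θ := θ) hne)
    rw [Finset.sum_eq_single (Quotient.mk (L.setoid θ) ⟨lam, hne⟩)]
    · rw [if_pos hr]
      exact (hF _ _ hr).symm
    · intro J _ hJ
      rw [if_neg]
      exact fun hJ' => hJ (L.eq_of_rel ((L.rel_equivalence θ).trans
        ((L.rel_equivalence θ).symm hJ') hr))
    · exact fun h => absurd (Finset.mem_univ _) h
  rw [← Finset.sum_congr rfl hcls, Finset.sum_comm]
  refine Finset.sum_congr rfl fun I _ => ?_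
  rw [← Finset.sum_filter, Finset.sum_const, nsmul_eq_mul]
  congr 2
  have hC : 0 < Nat.card L.C := Nat.card_pos
  refine Nat.eq_of_mul_eq_mul_left hC ?_
  rw [← L.card_stabN, mul_comm, ← smul_eq_mul, ← Finset.sum_const,
    Nat.card_eq_fintype_card (α := L.stabN θ), ← Finset.card_univ, Finset.card_eq_sum_card_fiberwise
    (t := (Finset.univ.erase (1 : L.Dual)).filter fun lam => cls lam I)
    (f := fun n : L.stabN θ => L.conjDual n (L.rep θ I)) fun n _ => ?_]
  · refine Finset.sum_congr rfl fun lam hlam => ?_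
    rw [← L.cnt_eq_filter, L.cnt_self (L.rep_ne θ I) (Finset.mem_filter.1 hlam).2]
  · refine Finset.mem_filter.2 ⟨Finset.mem_erase.2 ⟨fun h => L.rep_ne θ I ?_, Finset.mem_univ _⟩,
      ⟨n, n.2, rfl⟩⟩
    exact (L.conjDual_bijective n).1 (h.trans (L.conjDual_trivial n).symm)

theorem Loc.eIdx_mul_card (θ : IrrCharacter L.O) :
    L.eIdx θ * Fintype.card (L.Idx θ) = p - 1 := by
  have h := L.sum_dual (R := ℤ) θ (fun _ => 1) fun _ _ _ => rfl
  simp only [Finset.sum_const, Finset.card_univ, nsmul_one, ← Nat.card_eq_fintype_card,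
    L.card_dual] at h
  have h1 : (p : ℤ) = ((1 + L.eIdx θ * Nat.card (L.Idx θ) : ℕ) : ℤ) := by push_cast; linarith
  have h2 : p = 1 + L.eIdx θ * Nat.card (L.Idx θ) := by exact_mod_cast h1
  rw [← Nat.card_eq_fintype_card]
  omega

/-- The orbit of a character of the `p'`-part times its stabiliser. -/
theorem Loc.card_orbit_mul (θ : IrrCharacter L.O) :
    (Finset.univ.filter fun φ => φ ∈ L.orbit θ).card * Nat.card (L.stabN θ) = Nat.card L.N := by
  rw [Nat.card_eq_fintype_card (α := L.N), ← Finset.card_univ (α := L.N),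
    Finset.card_eq_sum_card_fiberwise (t := Finset.univ.filter fun φ => φ ∈ L.orbit θ)
      (f := fun n : L.N => L.conjIrr n θ) fun n _ =>
      Finset.mem_filter.2 ⟨Finset.mem_univ _, L.mem_orbit_iff.2 ⟨n, rfl⟩⟩,
    ← smul_eq_mul, ← Finset.sum_const]
  refine Finset.sum_congr rfl fun φ hφ => ?_
  obtain ⟨m, rfl⟩ := L.mem_orbit_iff.1 (Finset.mem_filter.1 hφ).2
  rw [Nat.card_eq_fintype_card, ← Finset.card_univ]
  refine Finset.card_bij' (fun n _ => (n : L.N) * m)
    (fun n hn => (⟨n * m⁻¹, ?_⟩ : L.stabN θ)) (fun n _ => Finset.mem_filter.2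
      ⟨Finset.mem_univ _, ?_⟩) (fun _ _ => Finset.mem_univ _)
    (fun n _ => Subtype.ext (mul_inv_cancel_right _ _)) (fun n _ => inv_mul_cancel_right _ _)
  · rw [L.mem_stabN, ← L.conjIrr_mul, (Finset.mem_filter.1 hn).2, L.conjIrr_mul, mul_inv_cancel,
      L.conjIrr_one]
  · rw [← L.conjIrr_mul, L.mem_stabN.1 n.2]

end CfsgLib.CyclicDefect
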