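import Cfsg.Agent.Lib.CyclicDefect.NilpotentRank
import Mathlib.LinearAlgebra.Trace
import Mathlib.LinearAlgebra.FreeModule.PID
import Mathlib.LinearAlgebra.Matrix.ToLin
import Mathlib.LinearAlgebra.Dimension.Localization
import Mathlib.Algebra.CharP.Algebra

/-!
# Fixed points of a lattice with an action of order `p`, reduced modulo `p`
-/

set_option autoImplicit false
set_option linter.style.haveILetI false
set_option linter.unusedSectionVars false

noncomputable section

namespace CfsgLib.CyclicDefect

open Module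

variable {O k : Type*} [CommRing O] [IsDomain O] [IsPrincipalIdealRing O] [Field k]
  {π : O →+* k} [RingHomSurjective π] {ι : Type*} [Fintype ι] [DecidableEq ι]

variable (π ι) in
/-- Reduction of vectors. -/
def redVec : (ι → O) →ₛₗ[π] (ι → k) where
  toFun v i := π (v i)
  map_add' _ _ := funext fun _ => map_add π _ _
  map_smul' _ _ := funext fun _ => map_mul π _ _

theorem redVec_mulVec (A : Matrix ι ι O) (v : ι → O) :
    redVec π ι (A.mulVec v) = (A.map π).mulVec (redVec π ι v) := by
  funext i
  exact RingHom.map_mulVec π A v i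

theorem redVec_surjective : Function.Surjective (redVec π ι) := fun w =>
  ⟨fun i => (RingHom.surjective π (w i)).choose, funext fun i => (RingHom.surjective π (w i)).choose_spec⟩

variable {p : ℕ} (hker : ∀ c : O, π c = 0 → (p : O) ∣ c) (hpk : (p : k) = 0) (hp0 : (p : O) ≠ 0)

include hker in
theorem redVec_eq_zero {v : ι → O} (h : redVec π ι v = 0) : ∃ w, v = (p : O) • w := by
  choose w hw using fun i => hker (v i) (congrFun h i)
  exact ⟨w, funext fun i => hw i⟩

include hker hpk hp0 in
/-- The reduction of a pure sublattice has the same dimension. -/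
theorem finrank_map_redVec (S : Submodule O (ι → O))
    (hS : ∀ v, (p : O) • v ∈ S → v ∈ S) :
    finrank k (S.map (redVec π ι)) = finrank O S := by
  obtain ⟨n, b⟩ := Submodule.basisOfPid (Pi.basisFun O ι) S
  rw [finrank_eq_card_basis b, Fintype.card_fin]
  let c : Fin n → ι → k := fun i => redVec π ι (b i : ι → O)
  have hspan : S.map (redVec π ι) = Submodule.span k (Set.range c) := by
    refine le_antisymm ?_ (Submodule.span_le.2 ?_)
    · rintro _ ⟨v, hv, rfl⟩
      have h1 : v = ∑ i, ((b.repr ⟨v, hv⟩ i • b i : S) : ι → O) := by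
        rw [← Submodule.coe_sum, b.sum_repr]
      rw [h1, map_sum]
      refine Submodule.sum_mem _ fun i _ => ?_
      rw [Submodule.coe_smul, LinearMap.map_smulₛₗ]
      exact Submodule.smul_mem _ _ (Submodule.subset_span ⟨i, rfl⟩)
    · rintro _ ⟨i, rfl⟩
      exact ⟨b i, (b i).2, rfl⟩
  have hli : LinearIndependent k c := by
    rw [Fintype.linearIndependent_iff]
    intro g hg
    choose g' hg' using fun i => RingHom.surjective π (g i)
    set v := ∑ i, g' i • b i with hv
    have h0 : redVec π ι (v : ι → O) = 0 := by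
      rw [hv, Submodule.coe_sum, map_sum]
      simp only [Submodule.coe_smul, LinearMap.map_smulₛₗ, hg']
      exact hg
    obtain ⟨w, hw⟩ := redVec_eq_zero hker h0
    have hwS : w ∈ S := hS w (hw ▸ v.2)
    have h2 : v = (p : O) • ⟨w, hwS⟩ := Subtype.ext hw
    intro i
    have h3 := congrArg (fun u => b.repr u i) h2
    simp only [hv, map_sum, map_smul, Basis.repr_self, Finsupp.smul_single, smul_eq_mul, mul_one,
      Finsupp.smul_apply, Finsupp.coe_finsetSum, Finset.sum_apply, Finsupp.single_apply,
      Finset.sum_ite_eq', Finset.mem_univ, if_true] at h3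
    rw [← hg', h3, map_mul, map_natCast, hpk, zero_mul]
  rw [hspan, finrank_span_eq_card hli, Fintype.card_fin]

omit [DecidableEq ι] in
/-- The trace of a map into a sublattice on which it is scalar. -/
theorem trace_eq_mul_finrank (f : (ι → O) →ₗ[O] (ι → O)) (S : Submodule O (ι → O))
    (hf : ∀ v, f v ∈ S) (c : O) (hc : ∀ v ∈ S, f v = c • v) :
    LinearMap.trace O _ f = c * (finrank O S : O) := by
  haveI : Module.Free O S := Module.Free.of_basis (Submodule.basisOfPid (Pi.basisFun O ι) S).2
  let g := LinearMap.codRestrict S f hf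
  have h1 : S.subtype ∘ₗ g = f := LinearMap.ext fun v => rfl
  have h2 : g ∘ₗ S.subtype = c • LinearMap.id := LinearMap.ext fun v => Subtype.ext (hc v v.2)
  rw [← h1, LinearMap.trace_comp_comm', h2, map_smul, LinearMap.trace_id, smul_eq_mul]

/-- The sum of the powers. -/
def normMat (p : ℕ) (A : Matrix ι ι O) : Matrix ι ι O := ∑ i ∈ Finset.range p, A ^ i

variable {A E : Matrix ι ι O}

theorem normMat_mul_sub (hA : A ^ p = 1) : normMat p A * (A - 1) = 0 := by
  rw [normMat, geom_sum_mul, hA, sub_self]

theorem sub_mul_normMat (hA : A ^ p = 1) : (A - 1) * normMat p A = 0 := by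
  rw [normMat, mul_geom_sum, hA, sub_self]

theorem normMat_mul_of_fixed {v : ι → O} (hv : (A - 1).mulVec v = 0) :
    (normMat p A).mulVec v = (p : O) • v := by
  have h1 : A.mulVec v = v := by rwa [Matrix.sub_mulVec, Matrix.one_mulVec, sub_eq_zero] at hv
  have h2 : ∀ i, (A ^ i).mulVec v = v := fun i => by
    induction i with
    | zero => rw [pow_zero, Matrix.one_mulVec]
    | succ i ih => rw [pow_succ, ← Matrix.mulVec_mulVec, h1, ih]
  rw [normMat, Matrix.sum_mulVec]
  simp only [h2, Finset.sum_const, Finset.card_range, Nat.cast_smul_eq_nsmul]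

variable (E) in
/-- The fixed sublattice of the summand cut out by an idempotent. -/
def fixSub (A : Matrix ι ι O) : Submodule O (ι → O) :=
  LinearMap.ker (Matrix.mulVecLin (A - 1)) ⊓ LinearMap.ker (Matrix.mulVecLin (1 - E))

variable (E) in
/-- The sublattice killed by the norm in the summand cut out by an idempotent. -/
def normSub (p : ℕ) (A : Matrix ι ι O) : Submodule O (ι → O) :=
  LinearMap.ker (Matrix.mulVecLin (normMat p A)) ⊓ LinearMap.ker (Matrix.mulVecLin (1 - E))

theorem mem_fixSub {v : ι → O} :
    v ∈ fixSub E A ↔ (A - 1).mulVec v = 0 ∧ E.mulVec v = v := by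
  simp only [fixSub, Submodule.mem_inf, LinearMap.mem_ker, Matrix.mulVecLin_apply,
    Matrix.sub_mulVec (1 : Matrix ι ι O) E, Matrix.one_mulVec]
  exact and_congr_right fun _ => ⟨fun h => (sub_eq_zero.1 h).symm, fun h => by rw [h, sub_self]⟩

theorem mem_normSub {v : ι → O} :
    v ∈ normSub E p A ↔ (normMat p A).mulVec v = 0 ∧ E.mulVec v = v := by
  simp only [normSub, Submodule.mem_inf, LinearMap.mem_ker, Matrix.mulVecLin_apply,
    Matrix.sub_mulVec (1 : Matrix ι ι O) E, Matrix.one_mulVec]
  exact and_congr_right fun _ => ⟨fun h => (sub_eq_zero.1 h).symm, fun h => by rw [h, sub_self]⟩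

include hp0 in
theorem fixSub_pure {v : ι → O} (h : (p : O) • v ∈ fixSub E A) : v ∈ fixSub E A := by
  rw [mem_fixSub] at h ⊢
  rw [Matrix.mulVec_smul, Matrix.mulVec_smul] at h
  exact ⟨(smul_eq_zero.1 h.1).resolve_left hp0, smul_right_injective _ hp0 h.2⟩

include hp0 in
theorem normSub_pure {v : ι → O} (h : (p : O) • v ∈ normSub E p A) : v ∈ normSub E p A := by
  rw [mem_normSub] at h ⊢
  rw [Matrix.mulVec_smul, Matrix.mulVec_smul] at h
  exact ⟨(smul_eq_zero.1 h.1).resolve_left hp0, smul_right_injective _ hp0 h.2⟩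

variable [CharZero O] (hA : A ^ p = 1) (hE : E * E = E) (hc : E * A = A * E)
  {s : ℤ} (htr : ∀ i, 0 < i → i < p → (E * A ^ i).trace = (s : O))

include hc in
theorem commute_pow : ∀ i, E * A ^ i = A ^ i * E := fun i => (Commute.pow_right hc i).eq

include hc in
theorem commute_normMat : E * normMat p A = normMat p A * E := by
  rw [normMat, Finset.mul_sum, Finset.sum_mul]
  exact Finset.sum_congr rfl fun i _ => commute_pow hc i

include htr in
theorem trace_mul_normMat (hp : 0 < p) :
    (E * normMat p A).trace = E.trace + (((p : ℤ) - 1) * s : ℤ) := by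
  rw [normMat, Finset.mul_sum, Matrix.trace_sum, ← Finset.add_sum_erase _ _ (Finset.mem_range.2 hp),
    pow_zero, mul_one, Finset.sum_congr rfl fun i hi => htr i
      (Nat.pos_of_ne_zero (Finset.mem_erase.1 hi).1) (Finset.mem_range.1 (Finset.mem_erase.1 hi).2),
    Finset.sum_const, Finset.card_erase_of_mem (Finset.mem_range.2 hp), Finset.card_range,
    nsmul_eq_mul]
  push_cast [Nat.cast_sub hp]
  rfl

include hker hpk hp0 hE in
theorem trace_idem : E.trace = (finrank k (LinearMap.range (Matrix.mulVecLin (E.map π))) : O) := by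
  have h1 : E.trace = LinearMap.trace O _ (Matrix.mulVecLin E) := (Matrix.trace_toLin'_eq E).symm
  rw [h1, trace_eq_mul_finrank (Matrix.mulVecLin E) (LinearMap.range (Matrix.mulVecLin E))
    (fun v => ⟨v, rfl⟩) 1 (fun v hv => by
      obtain ⟨w, rfl⟩ := hv
      rw [one_smul, Matrix.mulVecLin_apply, Matrix.mulVecLin_apply, Matrix.mulVec_mulVec, hE]),
    one_mul]
  congr 1
  have hmap : (LinearMap.range (Matrix.mulVecLin E)).map (redVec π ι) =
      LinearMap.range (Matrix.mulVecLin (E.map π)) := by
    ext w
    constructor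
    · rintro ⟨v, ⟨u, rfl⟩, rfl⟩
      exact ⟨redVec π ι u, (redVec_mulVec E u).symm⟩
    · rintro ⟨u, rfl⟩
      obtain ⟨u', rfl⟩ := redVec_surjective (π := π) u
      exact ⟨E.mulVec u', ⟨u', rfl⟩, redVec_mulVec E u'⟩
  rw [← hmap, finrank_map_redVec (π := π) hker hpk hp0]
  rintro v ⟨w, hw⟩
  refine ⟨v, smul_right_injective _ hp0 ?_⟩
  show (p : O) • E.mulVec v = (p : O) • v
  rw [← Matrix.mulVec_smul, ← hw, Matrix.mulVecLin_apply, Matrix.mulVec_mulVec, hE]

include hA hE hc htr in
theorem finrank_fixSub (hp : 0 < p) :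
    (p : O) * (finrank O (fixSub E A) : O) = E.trace + (((p : ℤ) - 1) * s : ℤ) := by
  rw [← trace_mul_normMat htr hp, ← Matrix.trace_toLin'_eq]
  refine (trace_eq_mul_finrank _ _ (fun v => mem_fixSub.2 ⟨?_, ?_⟩) _ fun v hv => ?_).symm
  · rw [Matrix.toLin'_apply, Matrix.mulVec_mulVec, ← mul_assoc,
      show (A - 1) * E = E * (A - 1) by rw [sub_mul, mul_sub, hc, one_mul, mul_one], mul_assoc,
      sub_mul_normMat hA, mul_zero, Matrix.zero_mulVec]
  · rw [Matrix.toLin'_apply, Matrix.mulVec_mulVec, ← mul_assoc, hE]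
  · obtain ⟨h1, h2⟩ := mem_fixSub.1 hv
    rw [Matrix.toLin'_apply, ← Matrix.mulVec_mulVec, normMat_mul_of_fixed h1, Matrix.mulVec_smul, h2]

include hA hE hc htr in
theorem finrank_normSub (hp : 0 < p) :
    (p : O) * (finrank O (normSub E p A) : O) =
      (p : O) * E.trace - (E.trace + (((p : ℤ) - 1) * s : ℤ)) := by
  have h : (E * ((p : O) • (1 : Matrix ι ι O) - normMat p A)).trace =
      (p : O) * E.trace - (E.trace + (((p : ℤ) - 1) * s : ℤ)) := by
    rw [mul_sub, Matrix.trace_sub, trace_mul_normMat htr hp, mul_smul_comm, mul_one,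
      Matrix.trace_smul, smul_eq_mul]
  rw [← h, ← Matrix.trace_toLin'_eq]
  refine (trace_eq_mul_finrank _ _ (fun v => mem_normSub.2 ⟨?_, ?_⟩) _ fun v hv => ?_).symm
  · have hNN : normMat p A * normMat p A = (p : O) • normMat p A := by
      have : ∀ i, normMat p A * A ^ i = normMat p A := fun i => by
        induction i with
        | zero => rw [pow_zero, mul_one]
        | succ i ih =>
          rw [pow_succ, ← mul_assoc, ih]
          have := normMat_mul_sub hA
          rwa [mul_sub, mul_one, sub_eq_zero] at this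
      nth_rewrite 2 [normMat]
      rw [Finset.mul_sum]
      simp only [this, Finset.sum_const, Finset.card_range, Nat.cast_smul_eq_nsmul]
    rw [Matrix.toLin'_apply, Matrix.mulVec_mulVec, ← mul_assoc, ← commute_normMat hc, mul_assoc,
      mul_sub, mul_smul_comm, mul_one, hNN, sub_self, mul_zero, Matrix.zero_mulVec]
  · rw [Matrix.toLin'_apply, Matrix.mulVec_mulVec, ← mul_assoc, hE]
  · obtain ⟨h1, h2⟩ := mem_normSub.1 hv
    rw [Matrix.toLin'_apply, ← Matrix.mulVec_mulVec, Matrix.sub_mulVec, Matrix.smul_mulVec,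
      Matrix.one_mulVec, h1, sub_zero, Matrix.mulVec_smul, h2]

variable [Fact p.Prime] [CharP k p]

include hA hE hc in
/-- The rank bounds on the reduction of the summand. -/
theorem reduced_rank_bounds :
    p * finrank k (LinearMap.range (Matrix.mulVecLin ((E * normMat p A).map π))) ≤
        finrank k (LinearMap.range (Matrix.mulVecLin (E.map π))) ∧
      p * finrank k (LinearMap.range (Matrix.mulVecLin ((E * (A - 1)).map π))) ≤
        (p - 1) * finrank k (LinearMap.range (Matrix.mulVecLin (E.map π))) := by
  classical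
  set e : Module.End k (ι → k) := Matrix.toLinAlgEquiv' (E.map π)
  set a : Module.End k (ι → k) := Matrix.toLinAlgEquiv' (A.map π)
  set R := LinearMap.range e
  have he : e * e = e := by rw [← map_mul, ← Matrix.map_mul, hE]
  have hea : e * a = a * e := by rw [← map_mul, ← map_mul, ← Matrix.map_mul, ← Matrix.map_mul, hc]
  have hap : a ^ p = 1 := by
    rw [← map_pow, show A.map π = π.mapMatrix A from rfl, ← map_pow, hA, map_one, map_one]
  set D := a - 1
  have hDp : D ^ p = 0 := by
    rcases subsingleton_or_nontrivial (Module.End k (ι → k)) with h | h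
    · exact Subsingleton.elim _ _
    · haveI : CharP (Module.End k (ι → k)) p :=
        charP_of_injective_algebraMap (algebraMap k (Module.End k (ι → k))).injective p
      rw [sub_pow_char_of_commute p (Commute.one_right a), hap, one_pow, sub_self]
  have hN : ∑ i ∈ Finset.range p, a ^ i = D ^ (p - 1) := by
    rcases subsingleton_or_nontrivial (Module.End k (ι → k)) with h | h
    · exact Subsingleton.elim _ _
    · haveI : CharP (Module.End k (ι → k)) p :=
        charP_of_injective_algebraMap (algebraMap k (Module.End k (ι → k))).injective p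
      exact geom_sum_eq_sub_one_pow a
  have hDR : ∀ v ∈ R, D v ∈ R := by
    rintro v ⟨w, rfl⟩
    refine ⟨D w, ?_⟩
    exact LinearMap.congr_fun (show e * D = D * e by rw [mul_sub, sub_mul, hea, mul_one, one_mul]) w
  set D' := D.restrict hDR
  have hpow : ∀ j (v : R), (((D' ^ j) v : R) : ι → k) = (D ^ j) v := by
    intro j
    induction j with
    | zero => exact fun v => rfl
    | succ j ih =>
      intro v
      rw [pow_succ', Module.End.mul_apply, pow_succ', Module.End.mul_apply, ← ih]
      rfl
  obtain ⟨b1, b2⟩ := nilpotent_rank_bounds D' (Fact.out : p.Prime).pos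
    (LinearMap.ext fun v => Subtype.ext (by rw [hpow, hDp]; rfl))
  have hr : ∀ j, finrank k (LinearMap.range (D' ^ j)) = finrank k (LinearMap.range (D ^ j * e)) := by
    intro j
    rw [← Submodule.finrank_map_subtype_eq]
    suffices h : (LinearMap.range (D' ^ j)).map R.subtype = LinearMap.range (D ^ j * e) by rw [h]
    ext w
    constructor
    · rintro ⟨_, ⟨⟨v, u, rfl⟩, rfl⟩, rfl⟩
      exact ⟨u, (hpow j ⟨e u, u, rfl⟩).symm⟩
    · rintro ⟨u, rfl⟩
      exact ⟨_, ⟨⟨e u, u, rfl⟩, rfl⟩, hpow j ⟨e u, u, rfl⟩⟩
  rw [← pow_one D', hr] at b2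
  rw [hr] at b1
  have hcomm : ∀ j, D ^ j * e = e * D ^ j := fun j =>
    ((Commute.sub_right (show Commute e a from hea) (Commute.one_right e)).pow_right j).eq.symm
  rw [hcomm, pow_one] at b2
  rw [hcomm, ← hN] at b1
  have hE0 : Matrix.mulVecLin (E.map π) = e := rfl
  have hE1 : Matrix.mulVecLin ((E * normMat p A).map π) = e * ∑ i ∈ Finset.range p, a ^ i := by
    show Matrix.toLinAlgEquiv' ((E * normMat p A).map π) = _
    rw [show (E * normMat p A).map π = π.mapMatrix (E * normMat p A) from rfl, map_mul, normMat,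
      map_sum, map_mul, map_sum]
    simp only [map_pow]
    rfl
  have hE2 : Matrix.mulVecLin ((E * (A - 1)).map π) = e * D := by
    show Matrix.toLinAlgEquiv' ((E * (A - 1)).map π) = _
    rw [show (E * (A - 1)).map π = π.mapMatrix (E * (A - 1)) from rfl, map_mul, map_sub, map_one,
      map_mul, map_sub, map_one]
    rfl
  rw [hE0, hE1, hE2]
  exact ⟨b1, b2⟩

include hker hpk hp0 hA hE hc htr in
/-- **The lower bounds**: a summand with trace `s` at the non-trivial powers has fixed points
modulo norms, respectively norm kernel modulo differences, of dimension at least a positive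
multiple of `s`, respectively `-s`. -/
theorem lower_bounds :
    ((p : ℤ) - 1) * s ≤ (p : ℤ) * ((finrank k ((fixSub E A).map (redVec π ι)) : ℤ) -
        finrank k (LinearMap.range (Matrix.mulVecLin ((E * normMat p A).map π)))) ∧
      -(((p : ℤ) - 1) * s) ≤ (p : ℤ) * ((finrank k ((normSub E p A).map (redVec π ι)) : ℤ) -
        finrank k (LinearMap.range (Matrix.mulVecLin ((E * (A - 1)).map π)))) := by
  have hp := (Fact.out : p.Prime).pos
  obtain ⟨b1, b2⟩ := reduced_rank_bounds (π := π) hA hE hc
  have ht := trace_idem (π := π) hker hpk hp0 hE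
  have h1 := finrank_fixSub hA hE hc htr hp
  have h2 := finrank_normSub hA hE hc htr hp
  rw [ht] at h1 h2
  rw [finrank_map_redVec hker hpk hp0 _ fun v h => fixSub_pure hp0 h,
    finrank_map_redVec hker hpk hp0 _ fun v h => normSub_pure hp0 h]
  set r := finrank k (LinearMap.range (Matrix.mulVecLin (E.map π)))
  have h1' : (p : ℤ) * finrank O (fixSub E A) = r + ((p : ℤ) - 1) * s := by
    refine Int.cast_injective (α := O) ?_
    push_cast
    push_cast at h1
    linear_combination h1
  have h2' : (p : ℤ) * finrank O (normSub E p A) =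
      (p : ℤ) * r - (r + ((p : ℤ) - 1) * s) := by
    refine Int.cast_injective (α := O) ?_
    push_cast
    push_cast at h2
    linear_combination h2
  zify [hp] at b1 b2
  constructor <;> rw [mul_sub] <;> linarith

end CfsgLib.CyclicDefect
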