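import Cfsg.Agent.Lib.CyclicDefect.Green
import Mathlib.GroupTheory.Transfer
import Mathlib.GroupTheory.SpecificGroups.Cyclic
import Mathlib.RingTheory.ZMod.UnitsCyclic
import Mathlib.Algebra.Group.Units.Hom
import Mathlib.Analysis.Complex.Basic

/-!
# The local subgroups at a Sylow subgroup of prime order
-/

set_option autoImplicit false
set_option linter.style.haveILetI false
set_option linter.unusedSectionVars false

noncomputable section

namespace CfsgLib.CyclicDefect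

universe u

/-- A Sylow subgroup of prime order with a chosen generator. -/
structure Loc (p : ℕ) (G : Type u) [Group G] where
  P : Sylow p G
  hP : Nat.card P = p
  x : G
  hx : orderOf x = p
  hxP : x ∈ (P : Subgroup G)

variable {p : ℕ} [hp : Fact p.Prime] {G : Type u} [Group G] [Finite G]

theorem exists_loc (P : Sylow p G) (hP : Nat.card P = p) : ∃ L : Loc p G, L.P = P := by
  obtain ⟨x, hx⟩ := exists_prime_orderOf_dvd_card' (G := (P : Subgroup G)) p (by rw [hP])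
  exact ⟨⟨P, hP, x, by rw [Subgroup.orderOf_coe, hx], x.2⟩, rfl⟩

variable (L : Loc p G)

/-- The normaliser. -/
abbrev Loc.N : Subgroup G := Subgroup.normalizer ((L.P : Subgroup G) : Set G)

/-- The centraliser. -/
abbrev Loc.C : Subgroup G := Subgroup.centralizer ((L.P : Subgroup G) : Set G)

theorem Loc.zpowers : Subgroup.zpowers L.x = (L.P : Subgroup G) := zpowers_eq L.P L.hx L.hxP L.hP

theorem Loc.mem_C_iff {c : G} : c ∈ L.C ↔ c * L.x = L.x * c := by
  refine ⟨fun h => (Subgroup.mem_centralizer_iff.1 h L.x L.hxP).symm, fun h => ?_⟩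
  refine Subgroup.mem_centralizer_iff.2 fun z hz => ?_
  rw [SetLike.mem_coe, ← L.zpowers] at hz
  obtain ⟨i, rfl⟩ := Subgroup.mem_zpowers_iff.1 hz
  exact ((show Commute L.x c from h.symm).zpow_left i).eq

theorem Loc.P_le_C : (L.P : Subgroup G) ≤ L.C := fun z hz => by
  rw [← L.zpowers] at hz
  obtain ⟨i, rfl⟩ := Subgroup.mem_zpowers_iff.1 hz
  exact L.mem_C_iff.2 ((Commute.refl L.x).zpow_left i).eq

theorem Loc.C_le_N : L.C ≤ L.N := Subgroup.centralizer_le_normalizer _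

theorem Loc.x_mem_C : L.x ∈ L.C := L.P_le_C L.hxP

theorem Loc.x_pow_p : L.x ^ p = 1 := orderOf_dvd_iff_pow_eq_one.1 L.hx.dvd

/-- The Sylow subgroup inside the centraliser. -/
def Loc.PC : Sylow p L.C := L.P.subtype L.P_le_C

theorem Loc.PC_le : Subgroup.normalizer ((L.PC : Subgroup L.C) : Set L.C) ≤
    Subgroup.centralizer ((L.PC : Subgroup L.C) : Set L.C) := fun c _ =>
  Subgroup.mem_centralizer_iff.2 fun z hz =>
    Subtype.ext (Subgroup.mem_centralizer_iff.1 c.2 (z : G) hz)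

theorem Loc.mem_PC {c : L.C} : c ∈ (L.PC : Subgroup L.C) ↔ (c : G) ∈ (L.P : Subgroup G) := Iff.rfl

theorem Loc.card_PC : Nat.card L.PC = p :=
  (Nat.card_congr (Subgroup.subgroupOfEquivOfLe L.P_le_C).toEquiv).trans L.hP

/-- The `p'`-part of the centraliser. -/
def Loc.O : Subgroup G := (MonoidHom.transferSylow L.PC L.PC_le).ker.map L.C.subtype

theorem Loc.O_le_C : L.O ≤ L.C := by
  rintro _ ⟨c, -, rfl⟩
  exact c.2

theorem Loc.not_dvd_card_O : ¬ p ∣ Nat.card L.O := by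
  rw [Loc.O, Subgroup.card_map_of_injective L.C.subtype_injective]
  exact MonoidHom.not_dvd_card_ker_transferSylow L.PC L.PC_le

theorem Loc.mem_O {y : G} : y ∈ L.O ↔ y ∈ L.C ∧ ¬ p ∣ orderOf y := by
  constructor
  · intro h
    exact ⟨L.O_le_C h, fun hd => L.not_dvd_card_O (hd.trans (Subgroup.orderOf_dvd_natCard _ h))⟩
  · rintro ⟨hy, hord⟩
    refine ⟨⟨y, hy⟩, ?_, rfl⟩
    set K := (MonoidHom.transferSylow L.PC L.PC_le).ker
    have hidx : K.index = p := by
      rw [(MonoidHom.ker_transferSylow_isComplement' L.PC L.PC_le).symm.index_eq_card, L.card_PC]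
    have h1 := Subgroup.pow_index_mem K (⟨y, hy⟩ : L.C)
    rw [hidx] at h1
    obtain ⟨m, hm⟩ := exists_pow_eq_self_of_coprime (x := (⟨y, hy⟩ : L.C)) (n := p) (by
      rw [← Subgroup.orderOf_coe]
      exact hp.out.coprime_iff_not_dvd.2 hord)
    rw [← hm]
    exact Subgroup.pow_mem _ h1 m

theorem Loc.O_commute {y : G} (hy : y ∈ L.O) : y * L.x = L.x * y :=
  L.mem_C_iff.1 (L.O_le_C hy)

theorem Loc.conj_mem_C {n : G} (hn : n ∈ L.N) {c : G} (hc : c ∈ L.C) : n * c * n⁻¹ ∈ L.C := by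
  refine Subgroup.mem_centralizer_iff.2 fun z hz => ?_
  have h1 : n⁻¹ * z * n ∈ (L.P : Subgroup G) := by
    have := (Subgroup.mem_normalizer_iff.1 (inv_mem hn) z).1 hz
    rwa [inv_inv] at this
  have h2 := Subgroup.mem_centralizer_iff.1 hc _ h1
  calc z * (n * c * n⁻¹) = n * ((n⁻¹ * z * n) * c) * n⁻¹ := by group
    _ = n * (c * (n⁻¹ * z * n)) * n⁻¹ := by rw [h2]
    _ = n * c * n⁻¹ * z := by group

theorem Loc.conj_mem_O {n : G} (hn : n ∈ L.N) {y : G} (hy : y ∈ L.O) : n * y * n⁻¹ ∈ L.O := by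
  obtain ⟨h1, h2⟩ := L.mem_O.1 hy
  refine L.mem_O.2 ⟨L.conj_mem_C hn h1, ?_⟩
  have h3 := (MulAut.conj n).orderOf_eq y
  rw [MulAut.conj_apply] at h3
  rwa [h3]

/-- Every element of the centraliser is a product of a power of the generator and a `p'`-element. -/
theorem Loc.decomp {c : G} (hc : c ∈ L.C) : ∃ i, i < p ∧ ∃ y ∈ L.O, c = L.x ^ i * y := by
  have h := (MonoidHom.ker_transferSylow_isComplement' L.PC L.PC_le).symm
  obtain ⟨⟨⟨z, hz⟩, ⟨y, hy⟩⟩, hzy⟩ := h.2 (⟨c, hc⟩ : L.C)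
  have hz' : (z : G) ∈ Subgroup.zpowers L.x := by rw [L.zpowers]; exact L.mem_PC.1 hz
  obtain ⟨i, hi⟩ := mem_powers_iff_mem_zpowers.2 hz'
  refine ⟨i % p, Nat.mod_lt _ hp.out.pos, y, ⟨y, hy, rfl⟩, ?_⟩
  rw [show L.x ^ (i % p) = L.x ^ i by
    conv_rhs => rw [← Nat.div_add_mod i p, pow_add, pow_mul, L.x_pow_p, one_pow, one_mul]]
  exact (congrArg Subtype.val hzy).symm.trans (by rw [Subgroup.coe_mul, ← hi])

theorem Loc.x_pow_ne {i : ℕ} (hi : 0 < i) (hip : i < p) : L.x ^ i ≠ 1 :=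
  pow_ne_one_of_lt_orderOf hi.ne' (L.hx.symm ▸ hip)

/-- The `p`-part of an element of the centraliser is recovered by a power. -/
theorem Loc.pow_card_O {i : ℕ} {y : G} (hy : y ∈ L.O) :
    (L.x ^ i * y) ^ Nat.card L.O = L.x ^ (i * Nat.card L.O) := by
  have hc : Commute (L.x ^ i) y := (show Commute y L.x from L.O_commute hy).symm.pow_left i
  have h1 : y ^ Nat.card L.O = 1 :=
    congrArg Subtype.val (pow_card_eq_one' (x := (⟨y, hy⟩ : L.O)))
  rw [hc.mul_pow, ← pow_mul, h1, mul_one]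

theorem Loc.regular_iff {i : ℕ} (hip : i < p) {y : G} (hy : y ∈ L.O) :
    p ∣ orderOf (L.x ^ i * y) ↔ i ≠ 0 := by
  constructor
  · rintro h rfl
    rw [pow_zero, one_mul] at h
    exact (L.mem_O.1 hy).2 h
  · intro hi
    have h1 : L.x ^ (i * Nat.card L.O) ≠ 1 := fun h => by
      rw [← orderOf_dvd_iff_pow_eq_one, L.hx] at h
      rcases hp.out.dvd_mul.1 h with h | h
      · have := Nat.le_of_dvd (Nat.pos_of_ne_zero hi) h
        omega
      · exact L.not_dvd_card_O h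
    have h2 : (L.x ^ (i * Nat.card L.O)) ^ p = 1 := by
      rw [← pow_mul, mul_comm, pow_mul, L.x_pow_p, one_pow]
    have h3 := orderOf_eq_prime h2 h1
    rw [← L.pow_card_O hy] at h3
    exact (dvd_of_eq h3.symm).trans (orderOf_pow_dvd _)

/-- An element moving a singular element of the centraliser into the centraliser normalises the
Sylow subgroup. -/
theorem Loc.fusion {g c : G} (hc : c ∈ L.C) (hsing : p ∣ orderOf c) (hg : g * c * g⁻¹ ∈ L.C) :
    g ∈ L.N := by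
  obtain ⟨i, hip, y, hy, rfl⟩ := L.decomp hc
  have hi := (L.regular_iff hip hy).1 hsing
  obtain ⟨j, -, y', hy', hj⟩ := L.decomp hg
  have h1 : g * L.x ^ (i * Nat.card L.O) * g⁻¹ = L.x ^ (j * Nat.card L.O) := by
    rw [← L.pow_card_O hy, ← L.pow_card_O hy', ← hj, ← MulAut.conj_apply, map_pow, MulAut.conj_apply]
  obtain ⟨a, ha⟩ := exists_pow_eq_self_of_coprime (x := L.x) (n := i * Nat.card L.O) (by
    rw [L.hx]
    refine (hp.out.coprime_iff_not_dvd.2 fun h => ?_).symm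
    rcases hp.out.dvd_mul.1 h with h | h
    · have := Nat.le_of_dvd (Nat.pos_of_ne_zero hi) h
      omega
    · exact L.not_dvd_card_O h)
  have h2 : g * L.x * g⁻¹ = (L.x ^ (j * Nat.card L.O)) ^ a := by
    rw [← h1, ← MulAut.conj_apply, ← MulAut.conj_apply, ← map_pow, ha]
  rw [← inv_mem_iff]
  refine mem_normalizer_of_conj L.P L.hx L.hxP L.hP ?_
  rw [inv_inv, h2]
  exact Subgroup.le_normalizer (Subgroup.pow_mem _ (Subgroup.pow_mem _ L.hxP _) _)

theorem Loc.centralizer_pow {i : ℕ} (hi : 0 < i) (hip : i < p) :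
    Subgroup.centralizer ({L.x ^ i} : Set G) = L.C := by
  refine le_antisymm (fun g hg => ?_) fun g hg => ?_
  · rw [Subgroup.mem_centralizer_singleton_iff] at hg
    obtain ⟨a, ha⟩ := exists_pow_eq_self_of_coprime (x := L.x) (n := i) (by
      rw [L.hx]
      refine (hp.out.coprime_iff_not_dvd.2 fun h => ?_).symm
      have := Nat.le_of_dvd hi h
      omega)
    refine L.mem_C_iff.2 ?_
    rw [← ha]
    exact ((show Commute g (L.x ^ i) from hg).pow_right a).eq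
  · exact Subgroup.mem_centralizer_singleton_iff.2
      ((show Commute g L.x from L.mem_C_iff.1 hg).pow_right i).eq

/-- A subgroup of the normaliser is cyclic over the centraliser. -/
theorem Loc.exists_gen (T : Subgroup G) (hT : T ≤ L.N) (hxT : L.x ∈ T) :
    ∃ n₀ ∈ T, ∀ n ∈ T, ∃ i j : ℕ, ∃ y ∈ L.O, n = n₀ ^ i * L.x ^ j * y := by
  haveI : IsCyclic (L.P : Subgroup G) := isCyclic_of_prime_card L.hP
  let φ : T →* MulAut (L.P : Subgroup G) :=
    (L.P : Subgroup G).normalizerMonoidHom.comp (Subgroup.inclusion hT)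
  haveI : IsCyclic (MulAut (L.P : Subgroup G)) := by
    haveI : IsCyclic (ZMod (Nat.card (L.P : Subgroup G)))ˣ := by
      rw [show Nat.card (L.P : Subgroup G) = p from L.hP]
      infer_instance
    exact isCyclic_of_surjective (IsCyclic.mulAutMulEquiv (L.P : Subgroup G)).symm
      (IsCyclic.mulAutMulEquiv (L.P : Subgroup G)).symm.surjective
  obtain ⟨⟨_, n₀, rfl⟩, hgen⟩ := IsCyclic.exists_generator (α := φ.range)
  refine ⟨n₀, n₀.2, fun n hn => ?_⟩
  obtain ⟨i, hi⟩ := mem_powers_iff_mem_zpowers.2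
    (hgen (⟨φ ⟨n, hn⟩, ⟨n, hn⟩, rfl⟩ : φ.range))
  have h1 : φ (n₀ ^ i) = φ ⟨n, hn⟩ := by
    rw [map_pow]
    exact congrArg Subtype.val hi
  have h2 : (n₀ ^ i)⁻¹ * ⟨n, hn⟩ ∈ φ.ker := (MonoidHom.eq_iff φ).1 h1.symm
  have h3 : ((((n₀ ^ i)⁻¹ * ⟨n, hn⟩ : T)) : G) ∈ L.C := by
    refine L.mem_C_iff.2 ?_
    have h4 := DFunLike.congr_fun (MonoidHom.mem_ker.1 h2) (⟨L.x, L.hxP⟩ : (L.P : Subgroup G))
    exact mul_inv_eq_iff_eq_mul.1 (congrArg Subtype.val h4)
  obtain ⟨j, -, y, hy, hjy⟩ := L.decomp h3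
  refine ⟨i, j, y, hy, ?_⟩
  rw [mul_assoc, ← hjy]
  simp

theorem Loc.exists_exponent : ∃ a : ℕ, p ∣ (L.PC : Subgroup L.C).index * a + (p - 1) := by
  obtain ⟨a, ha⟩ := Nat.exists_mul_mod_eq_one_of_coprime
    (hp.out.coprime_iff_not_dvd.2 L.PC.not_dvd_index).symm hp.out.one_lt
  refine ⟨a, Nat.dvd_of_mod_eq_zero ?_⟩
  rw [Nat.add_mod, ha.2, Nat.mod_eq_of_lt (Nat.sub_lt hp.out.pos one_pos),
    Nat.add_sub_cancel' hp.out.one_le, Nat.mod_self]

/-- A linear character of the Sylow subgroup, extended trivially over the `p'`-part. -/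
def Loc.ext (lam : (L.P : Subgroup G) →* ℂˣ) : L.C →* ℂˣ :=
  ((lam.comp (Subgroup.subgroupOfEquivOfLe L.P_le_C).toMonoidHom).comp
    (MonoidHom.transferSylow L.PC L.PC_le)) ^ L.exists_exponent.choose

theorem Loc.ext_O (lam : (L.P : Subgroup G) →* ℂˣ) {y : L.C} (hy : (y : G) ∈ L.O) :
    L.ext lam y = 1 := by
  obtain ⟨c, hc, hcy⟩ := hy
  obtain rfl : c = y := Subtype.ext hcy
  show (lam _) ^ _ = 1
  have h0 : MonoidHom.transferSylow L.PC L.PC_le c = 1 := hc
  have h1 : ∀ t : (L.PC : Subgroup L.C), t = 1 → lam ((Subgroup.subgroupOfEquivOfLe L.P_le_C).toMonoidHom t) = 1 := by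
    rintro t rfl
    exact (congrArg lam (map_one _)).trans (map_one lam)
  exact (congrArg (· ^ _) (h1 _ h0)).trans (one_pow _)

theorem Loc.ext_P (lam : (L.P : Subgroup G) →* ℂˣ) {z : L.C} (hz : (z : G) ∈ (L.P : Subgroup G)) :
    L.ext lam z = lam ⟨z, hz⟩ := by
  show (lam _) ^ L.exists_exponent.choose = _
  rw [← map_pow]
  congr 1
  refine Subtype.ext ?_
  rw [Subgroup.coe_pow]
  show (((MonoidHom.transferSylow L.PC L.PC_le z : L.C) : G)) ^ _ = (z : G)
  rw [MonoidHom.transferSylow_eq_pow L.PC L.PC_le z hz]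
  show ((z : G) ^ (L.PC : Subgroup L.C).index) ^ L.exists_exponent.choose = z
  rw [← pow_mul]
  obtain ⟨q, hq⟩ := L.exists_exponent.choose_spec
  have hzp : (z : G) ^ p = 1 := by
    have h := pow_card_eq_one' (x := (⟨z, hz⟩ : (L.P : Subgroup G)))
    rw [show Nat.card (L.P : Subgroup G) = p from L.hP] at h
    exact congrArg Subtype.val h
  have h1 : (z : G) ^ ((L.PC : Subgroup L.C).index * L.exists_exponent.choose + (p - 1)) = 1 := by
    rw [hq, pow_mul, hzp, one_pow]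
  rw [pow_add] at h1
  rw [eq_inv_of_mul_eq_one_left h1, inv_eq_iff_mul_eq_one, ← pow_succ,
    Nat.sub_add_cancel hp.out.one_le, hzp]

theorem Loc.ext_eq (lam : (L.P : Subgroup G) →* ℂˣ) {i : ℕ} {y : G} (hy : y ∈ L.O) :
    L.ext lam ⟨L.x ^ i * y, L.C.mul_mem (L.C.pow_mem L.x_mem_C i) (L.O_le_C hy)⟩ =
      lam ⟨L.x, L.hxP⟩ ^ i := by
  have h1 : (⟨L.x ^ i * y, L.C.mul_mem (L.C.pow_mem L.x_mem_C i) (L.O_le_C hy)⟩ : L.C) =
      ⟨L.x, L.x_mem_C⟩ ^ i * ⟨y, L.O_le_C hy⟩ := Subtype.ext rfl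
  rw [h1, map_mul, map_pow, L.ext_O lam (y := ⟨y, L.O_le_C hy⟩) hy, mul_one,
    L.ext_P lam (z := ⟨L.x, L.x_mem_C⟩) L.hxP]

end CfsgLib.CyclicDefect
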