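import Mathlib.LinearAlgebra.FiniteDimensional.Lemmas
import Mathlib.Algebra.CharP.Lemmas
import Mathlib.Algebra.Polynomial.Eval.Defs
import Mathlib.RingTheory.Polynomial.Basic
import Mathlib.Algebra.Field.ZMod
import Mathlib.Algebra.Algebra.ZMod
import Mathlib.Algebra.Polynomial.AlgebraMap

/-!
# Ranks of powers of a nilpotent map
-/

set_option autoImplicit false
set_option linter.style.haveILetI false

namespace CfsgLib.CyclicDefect

open Module

variable {k : Type*} [Field k] {V : Type*} [AddCommGroup V] [Module k V] [FiniteDimensional k V]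

/-- The kernel of the map on the range of its `j`-th power. -/
def kerRange (D : V →ₗ[k] V) (j : ℕ) : Submodule k V := LinearMap.ker D ⊓ LinearMap.range (D ^ j)

omit [FiniteDimensional k V] in
theorem range_pow_succ (D : V →ₗ[k] V) (j : ℕ) :
    LinearMap.range (D ^ (j + 1)) = (LinearMap.range (D ^ j)).map D := by
  rw [pow_succ', Module.End.mul_eq_comp, LinearMap.range_comp]

theorem finrank_range_pow (D : V →ₗ[k] V) (j : ℕ) :
    finrank k (LinearMap.range (D ^ j)) =
      finrank k (kerRange D j) + finrank k (LinearMap.range (D ^ (j + 1))) := by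
  have h := LinearMap.finrank_range_add_finrank_ker (D.comp (LinearMap.range (D ^ j)).subtype)
  rw [LinearMap.range_comp, Submodule.range_subtype, ← range_pow_succ, LinearMap.ker_comp] at h
  have e : finrank k (Submodule.comap (LinearMap.range (D ^ j)).subtype (LinearMap.ker D)) =
      finrank k (kerRange D j) := by
    rw [← Submodule.finrank_map_subtype_eq, Submodule.map_comap_subtype, inf_comm]
    rfl
  omega

omit [FiniteDimensional k V] in
theorem kerRange_antitone (D : V →ₗ[k] V) {i j : ℕ} (h : i ≤ j) : kerRange D j ≤ kerRange D i := by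
  refine inf_le_inf_left _ ?_
  obtain ⟨l, rfl⟩ := Nat.exists_eq_add_of_le h
  rw [pow_add, Module.End.mul_eq_comp]
  exact LinearMap.range_comp_le_range _ _

theorem finrank_eq_sum (D : V →ₗ[k] V) (n : ℕ) :
    finrank k V = ∑ j ∈ Finset.range n, finrank k (kerRange D j) +
      finrank k (LinearMap.range (D ^ n)) := by
  induction n with
  | zero =>
    rw [pow_zero, Finset.sum_range_zero, zero_add, Module.End.one_eq_id, LinearMap.range_id,
      finrank_top]
  | succ n ih => rw [Finset.sum_range_succ, ih, finrank_range_pow D n]; ring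

/-- If `D^p = 0` then `p * rank D^(p-1) ≤ dim` and `dim ≤ p * nullity D`. -/
theorem nilpotent_rank_bounds (D : V →ₗ[k] V) {p : ℕ} (hp : 0 < p) (hD : D ^ p = 0) :
    p * finrank k (LinearMap.range (D ^ (p - 1))) ≤ finrank k V ∧
      p * finrank k (LinearMap.range D) ≤ (p - 1) * finrank k V := by
  have hz : finrank k (LinearMap.range (D ^ p)) = 0 := by rw [hD, LinearMap.range_zero, finrank_bot]
  have hsum := finrank_eq_sum D p
  rw [hz, add_zero] at hsum
  have hlast : finrank k (LinearMap.range (D ^ (p - 1))) = finrank k (kerRange D (p - 1)) := by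
    have h := finrank_range_pow D (p - 1)
    rwa [Nat.sub_add_cancel hp, hz, add_zero] at h
  constructor
  · rw [hlast, hsum]
    have := Finset.card_nsmul_le_sum (Finset.range p) (fun j => finrank k (kerRange D j))
      (finrank k (kerRange D (p - 1))) fun j hj =>
      Submodule.finrank_mono (kerRange_antitone D (by have := Finset.mem_range.1 hj; omega))
    simpa using this
  · have h0 : finrank k V ≤ p * finrank k (LinearMap.ker D) := by
      rw [hsum]
      refine (Finset.sum_le_card_nsmul (Finset.range p) _ _ fun j _ =>
        Submodule.finrank_mono (inf_le_left : kerRange D j ≤ LinearMap.ker D)).trans ?_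
      simp
    have h1 := LinearMap.finrank_range_add_finrank_ker D
    obtain ⟨q, rfl⟩ := Nat.exists_eq_succ_of_ne_zero hp.ne'
    rw [Nat.succ_sub_one]
    nlinarith

/-- In characteristic `p` the sum of the powers is a power of the difference. -/
theorem geom_sum_eq_sub_one_pow {R : Type*} [Ring R] {p : ℕ} [hp : Fact p.Prime] [CharP R p]
    (a : R) : ∑ i ∈ Finset.range p, a ^ i = (a - 1) ^ (p - 1) := by
  have h : (∑ i ∈ Finset.range p, (Polynomial.X : Polynomial (ZMod p)) ^ i) =
      (Polynomial.X - 1) ^ (p - 1) := by
    apply mul_right_cancel₀ (b := (Polynomial.X : Polynomial (ZMod p)) - 1)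
      (by rw [← map_one Polynomial.C]; exact Polynomial.X_sub_C_ne_zero 1)
    rw [geom_sum_mul, ← pow_succ, Nat.sub_add_cancel hp.out.one_le, sub_pow_char, one_pow]
  letI : Algebra (ZMod p) R := ZMod.algebra R p
  have h2 := congrArg (Polynomial.aeval a) h
  simpa using h2

end CfsgLib.CyclicDefect
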