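import Cfsg.Agent.Lib.CyclicDefect.Witt
import Cfsg.Agent.Lib.Blocks.BlockParts
import Cfsg.Agent.Lib.Characters.SplittingField
import Mathlib.Algebra.Module.Lattice
import Mathlib.LinearAlgebra.FreeModule.PID

/-!
# Indecomposable lattices over the unramified ring affording prescribed characters
-/

set_option autoImplicit false
set_option linter.style.haveILetI false
set_option linter.unusedSectionVars false

noncomputable section

namespace CfsgLib.CyclicDefect

open Cfsg Module
open scoped ComplexConjugate

universe u

variable (p : ℕ) [hp : Fact p.Prime]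

/-- The embedding of the field of fractions into the complex numbers. -/
def fieldToC : WittField p →+* ℂ := (exists_embedding p).some

theorem toC_eq (a : WittRing p) : toC p a = fieldToC p (algebraMap (WittRing p) (WittField p) a) :=
  rfl

theorem mem_unramField_iff (z : ℂ) : z ∈ unramField p ↔ ∃ c, fieldToC p c = z := Iff.rfl

instance wittField_charZero : CharZero (WittField p) := IsFractionRing.charZero (WittRing p)

variable {G : Type u} [Group G] [Finite G]

/-- A matrix representation over the field of fractions has an integral form. -/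
theorem exists_integral_form {d : ℕ} (R : G →* Matrix (Fin d) (Fin d) (WittField p)) :
    ∃ (ρ : G →* Matrix (Fin d) (Fin d) (WittRing p))
      (E : Matrix (Fin d) (Fin d) (WittField p) ≃ₐ[WittField p]
        Matrix (Fin d) (Fin d) (WittField p)),
      ∀ g, (ρ g).map (algebraMap (WittRing p) (WittField p)) = E (R g) ∧
        algebraMap (WittRing p) (WittField p) (ρ g).trace = (R g).trace := by
  classical
  let σ : G →* Module.End (WittField p) (Fin d → WittField p) :=
    (Matrix.toLinAlgEquiv' (R := WittField p)).toAlgHom.toRingHom.toMonoidHom.comp R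
  let c := Pi.basisFun (WittField p) (Fin d)
  let L : Submodule (WittRing p) (Fin d → WittField p) :=
    Submodule.span (WittRing p) (Set.range fun x : G × Fin d => σ x.1 (c x.2))
  have hLfg : L.FG := Submodule.fg_span (Set.finite_range _)
  have hspan : Submodule.span (WittField p) (L : Set (Fin d → WittField p)) = ⊤ := by
    rw [eq_top_iff, ← c.span_eq]
    apply Submodule.span_mono
    rintro _ ⟨i, rfl⟩
    exact Submodule.subset_span ⟨(1, i), by simp⟩
  haveI : Submodule.IsLattice (WittField p) L := ⟨hLfg, hspan⟩
  haveI : Module.Finite (WittRing p) L := Module.Finite.iff_fg.2 hLfg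
  haveI : Module.IsTorsionFree (WittRing p) (Fin d → WittField p) :=
    Module.IsTorsionFree.trans_faithfulSMul (WittRing p) (WittField p) _
  haveI : Module.IsTorsionFree (WittRing p) L :=
    Function.Injective.moduleIsTorsionFree L.subtype Subtype.val_injective (fun _ _ => rfl)
  haveI : Module.Free (WittRing p) L := Module.free_of_finite_type_torsion_free'
  let bL := Module.Free.chooseBasis (WittRing p) L
  let bW := bL.extendOfIsLattice (WittField p)
  let e : Module.Free.ChooseBasisIndex (WittRing p) L ≃ Fin d :=
    Fintype.equivFinOfCardEq (by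
      rw [← Module.finrank_eq_card_basis bW, Module.finrank_fin_fun])
  let b := bW.reindex e
  have hstable : ∀ g, ∀ v ∈ L, σ g v ∈ L := by
    intro g v hv
    induction hv using Submodule.span_induction with
    | mem x hx =>
        obtain ⟨⟨h, i⟩, rfl⟩ := hx
        exact Submodule.subset_span ⟨(g * h, i), by simp⟩
    | zero => simp
    | add x y _ _ hx hy => rw [map_add]; exact add_mem hx hy
    | smul a x _ hx => rw [LinearMap.map_smul_of_tower]; exact L.smul_mem a hx
  have hmem : ∀ g i j, ∃ a : WittRing p,
      algebraMap (WittRing p) (WittField p) a = b.repr (σ g (b j)) i := by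
    intro g i j
    have h1 : σ g (b j) ∈ L := by
      rw [Module.Basis.reindex_apply, Module.Basis.extendOfIsLattice_apply]
      exact hstable g _ (bL (e.symm j)).2
    refine ⟨bL.repr ⟨_, h1⟩ (e.symm i), ?_⟩
    have h2 : σ g (b j) = ∑ k, algebraMap (WittRing p) (WittField p) (bL.repr ⟨_, h1⟩ k) • bW k := by
      conv_lhs => rw [show σ g (b j) = ((⟨_, h1⟩ : L) : Fin d → WittField p) from rfl,
        ← bL.sum_repr ⟨_, h1⟩]
      simp only [Submodule.coe_sum, bW, Module.Basis.extendOfIsLattice_apply]
      exact Finset.sum_congr rfl fun k _ => (algebraMap_smul _ _ _).symm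
    rw [Module.Basis.repr_reindex_apply]
    conv_rhs => rw [h2, bW.repr_sum_self]
  choose A hA using hmem
  let M : G → Matrix (Fin d) (Fin d) (WittRing p) := fun g => Matrix.of fun i j => A g i j
  let E : Matrix (Fin d) (Fin d) (WittField p) ≃ₐ[WittField p]
      Matrix (Fin d) (Fin d) (WittField p) :=
    Matrix.toLinAlgEquiv'.trans (LinearMap.toMatrixAlgEquiv b)
  have hM : ∀ g, (algebraMap (WittRing p) (WittField p)).mapMatrix (M g) = E (R g) := fun g => by
    ext i j
    show algebraMap (WittRing p) (WittField p) (A g i j) = _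
    rw [hA]
    show _ = LinearMap.toMatrixAlgEquiv b (σ g) i j
    rw [LinearMap.toMatrixAlgEquiv_apply]
  have hinj : Function.Injective
      ((algebraMap (WittRing p) (WittField p)).mapMatrix (m := Fin d)) :=
    Matrix.map_injective (IsFractionRing.injective _ _)
  refine ⟨{ toFun := M, map_one' := hinj ?_, map_mul' := fun g h => hinj ?_ }, E, fun g => ⟨hM g, ?_⟩⟩
  · rw [hM, map_one R, map_one E, map_one]
  · rw [hM, map_mul (f := (algebraMap (WittRing p) (WittField p)).mapMatrix), hM, hM, map_mul R,
      map_mul E]
  · show algebraMap (WittRing p) (WittField p) (M g).trace = _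
    refine (AddMonoidHom.map_trace (algebraMap (WittRing p) (WittField p)).toAddMonoidHom (M g)).trans ?_
    show ((algebraMap (WittRing p) (WittField p)).mapMatrix (M g)).trace = _
    rw [hM]
    show (LinearMap.toMatrix b b (σ g)).trace = _
    rw [← LinearMap.trace_eq_matrix_trace]
    exact Matrix.trace_toLin'_eq (R g)

/-- Every irreducible character of a group of order prime to `p` is afforded by matrices over the
unramified ring. -/
theorem exists_realization (hG : ¬ p ∣ Nat.card G) (θ : IrrCharacter G) :
    ∃ (d : ℕ) (ρ : G →* Matrix (Fin d) (Fin d) (WittRing p)),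
      ∀ g, toC p (ρ g).trace = (θ : G → ℂ) g := by
  classical
  haveI := Fintype.ofFinite G
  let K : IntermediateField ℚ ℂ :=
    IntermediateField.adjoin ℚ {z : ℂ | z ^ Monoid.exponent G = 1}
  have hKle : ∀ z ∈ K, z ∈ unramField p := by
    intro z hz
    have hle : K.toSubfield ≤ unramField p := by
      rw [IntermediateField.adjoin_toSubfield, Subfield.closure_le]
      rintro w (hw | hw)
      · obtain ⟨q, rfl⟩ := hw
        exact ⟨(q : WittField p), map_ratCast _ q⟩
      · exact root_mem p (fun h => hG (h.trans Group.exponent_dvd_nat_card)) hw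
    exact hle hz
  obtain ⟨d, R, hR⟩ := CfsgLib.SplittingField.realized_of_isCharacter K
    (fun z hz => IntermediateField.subset_adjoin ℚ _ hz) (Characters.irr_isCharacter θ)
  choose f hf using fun z : K => hKle z z.2
  have hf' : ∀ z, fieldToC p (f z) = (z : ℂ) := hf
  let φ : K →+* WittField p :=
    { toFun := f
      map_one' := (fieldToC p).injective (by rw [hf', map_one]; rfl)
      map_mul' := fun a b => (fieldToC p).injective (by rw [hf', map_mul, hf', hf']; rfl)
      map_zero' := (fieldToC p).injective (by rw [hf', map_zero]; rfl)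
      map_add' := fun a b => (fieldToC p).injective (by rw [hf', map_add, hf', hf']; rfl) }
  let R' : G →* Matrix (Fin d) (Fin d) (WittField p) := φ.mapMatrix.toMonoidHom.comp R
  obtain ⟨ρ, E, hρ⟩ := exists_integral_form p R'
  refine ⟨d, ρ, fun g => ?_⟩
  rw [toC_eq, (hρ g).2]
  refine Eq.trans ?_ (congrFun hR g).symm
  show fieldToC p (((R g).map φ).trace) = _
  refine Eq.trans (congrArg _ (AddMonoidHom.map_trace φ.toAddMonoidHom (R g)).symm) ?_
  exact hf' _

/-- A matrix representation of least degree having a constituent in common with `χ` has no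
idempotent endomorphism. -/
theorem exists_minimal (χ : IrrCharacter G) [Fintype G] :
    ∃ (d : ℕ) (R : G →* Matrix (Fin d) (Fin d) (WittField p)),
      classInner (fun g => fieldToC p (R g).trace) (χ : G → ℂ) ≠ 0 ∧
      ∀ X : Matrix (Fin d) (Fin d) (WittField p), X * X = X → (∀ g, R g * X = X * R g) →
        X = 0 ∨ X = 1 := by
  classical
  let P : ℕ → Prop := fun d => ∃ R : G →* Matrix (Fin d) (Fin d) (WittField p),
    classInner (fun g => fieldToC p (R g).trace) (χ : G → ℂ) ≠ 0
  have hP : ∃ d, P d := by
    let e := Fintype.equivFin G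
    let R : G →* Matrix (Fin (Fintype.card G)) (Fin (Fintype.card G)) (WittField p) :=
      { toFun := fun g => Matrix.of fun i j => if e.symm i = g * e.symm j then 1 else 0
        map_one' := by ext i j; simp [Matrix.one_apply]
        map_mul' := fun g h => by
          ext i j
          simp only [Matrix.of_apply, Matrix.mul_apply, mul_ite, mul_one, mul_zero]
          rw [Finset.sum_eq_single (e (h * e.symm j))]
          · simp [mul_assoc]
          · intro b _ hb
            rw [if_neg fun h' => hb (by rw [← h', e.apply_symm_apply])]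
          · exact fun h' => absurd (Finset.mem_univ _) h' }
    refine ⟨_, R, ?_⟩
    have htr : ∀ g, (R g).trace = if g = 1 then (Nat.card G : WittField p) else 0 := fun g => by
      simp only [Matrix.trace, Matrix.diag, R, MonoidHom.coe_mk, OneHom.coe_mk, Matrix.of_apply]
      by_cases hg : g = 1
      · simp [hg, Nat.card_eq_fintype_card]
      · simp [hg]
    simp only [classInner, htr, apply_ite (fieldToC p), map_natCast, map_zero, ite_mul, zero_mul,
      Finset.sum_ite_eq', Finset.mem_univ, if_true]
    refine mul_ne_zero (by simp) (mul_ne_zero (by simp) ?_)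
    simpa using Characters.irr_one_ne_zero χ
  obtain ⟨d, hd⟩ : ∃ d, d = Nat.find hP := ⟨_, rfl⟩
  obtain ⟨R, hR⟩ : P d := hd ▸ Nat.find_spec hP
  refine ⟨d, R, hR, fun X hX hXc => ?_⟩
  let σ : G →* Module.End (WittField p) (Fin d → WittField p) :=
    (Matrix.toLinAlgEquiv' (R := WittField p)).toAlgHom.toRingHom.toMonoidHom.comp R
  let e : Module.End (WittField p) (Fin d → WittField p) := Matrix.toLinAlgEquiv' X
  -- the representation on the image of an idempotent endomorphism
  have key : ∀ e : Module.End (WittField p) (Fin d → WittField p), e * e = e →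
      (∀ g, σ g * e = e * σ g) → finrank (WittField p) (LinearMap.range e) < d →
      classInner (fun g => fieldToC p (LinearMap.trace _ _ (σ g * e))) (χ : G → ℂ) = 0 := by
    intro e he hc hlt
    set U := LinearMap.range e
    have hU : ∀ g, ∀ v ∈ U, σ g v ∈ U := by
      rintro g _ ⟨w, rfl⟩
      exact ⟨σ g w, (LinearMap.congr_fun (hc g) w).symm⟩
    let τ : G →* Module.End (WittField p) U :=
      { toFun := fun g => (σ g).restrict (hU g)
        map_one' := LinearMap.ext fun v => Subtype.ext (by simp)
        map_mul' := fun g h => LinearMap.ext fun v => Subtype.ext (by simp) }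
    let b := Module.finBasis (WittField p) U
    by_contra hne
    refine Nat.find_min hP (hd ▸ hlt)
      ⟨(LinearMap.toMatrixAlgEquiv b).toAlgHom.toRingHom.toMonoidHom.comp τ, ?_⟩
    convert hne using 4 with g
    show (LinearMap.toMatrix b b (τ g)).trace = _
    rw [← LinearMap.trace_eq_matrix_trace]
    have h1 := LinearMap.trace_comp_comm' ((σ g).comp U.subtype)
      (LinearMap.codRestrict U e fun v => ⟨v, rfl⟩)
    have h2 : U.subtype.comp (LinearMap.codRestrict U e fun v => ⟨v, rfl⟩) = e :=
      LinearMap.ext fun v => rfl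
    rw [LinearMap.comp_assoc, h2] at h1
    refine Eq.trans ?_ h1
    congr 1
    refine LinearMap.ext fun v => Subtype.ext ?_
    obtain ⟨w, hw⟩ := hU g v v.2
    show σ g (v : Fin d → WittField p) = e (σ g v)
    rw [← hw, ← Module.End.mul_apply, he]
  have he : e * e = e := by rw [← map_mul, hX]
  have hec : ∀ g, σ g * e = e * σ g := fun g => by
    show Matrix.toLinAlgEquiv' (R g) * _ = _ * Matrix.toLinAlgEquiv' (R g)
    rw [← map_mul, ← map_mul, hXc g]
  by_contra hX01
  push Not at hX01
  have hsum := LinearMap.finrank_range_add_finrank_ker e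
  rw [Module.finrank_fin_fun] at hsum
  have hker : LinearMap.range (1 - e) = LinearMap.ker e := by
    ext v
    constructor
    · rintro ⟨w, rfl⟩
      rw [LinearMap.mem_ker, ← Module.End.mul_apply, mul_sub, mul_one, he, sub_self,
        LinearMap.zero_apply]
    · intro hv
      exact ⟨v, by rw [LinearMap.sub_apply, LinearMap.mem_ker.1 hv, sub_zero]; rfl⟩
  have hr0 : finrank (WittField p) (LinearMap.range e) ≠ 0 := fun h => hX01.1 (by
    have := LinearMap.range_eq_bot.1 (Submodule.finrank_eq_zero.1 h)
    exact (map_eq_zero_iff _ (AlgEquiv.injective _)).1 this)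
  have hk0 : finrank (WittField p) (LinearMap.ker e) ≠ 0 := fun h => hX01.2 (by
    rw [Submodule.finrank_eq_zero, ← hker, LinearMap.range_eq_bot, sub_eq_zero] at h
    exact (Matrix.toLinAlgEquiv' (R := WittField p)).injective (by rw [map_one]; exact h.symm))
  have h1 := key e he hec (by omega)
  have h2 := key (1 - e) (by rw [mul_sub, sub_mul, sub_mul, one_mul, one_mul, mul_one, he, sub_self, sub_zero])
    (fun g => by rw [mul_sub, sub_mul, hec g, one_mul, mul_one]) (by rw [hker]; omega)
  refine hR ?_
  have h3 : (fun g => fieldToC p (R g).trace) =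
      (fun g => fieldToC p (LinearMap.trace _ _ (σ g * e))) +
        fun g => fieldToC p (LinearMap.trace _ _ (σ g * (1 - e))) := by
    funext g
    rw [Pi.add_apply, ← map_add, ← map_add, ← mul_add, add_sub_cancel, mul_one]
    congr 1
    exact (Matrix.trace_toLin'_eq (R g)).symm
  rw [h3, Characters.classInner_add_left, h1, h2, add_zero]

/-- For a set of characters with unramified idempotent, every member is afforded, up to a positive
multiplicity and other members, by a lattice without idempotent endomorphisms. -/
theorem exists_lattice [Fintype G] (A : Set (IrrCharacter G))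
    (hA : ∀ g, blockCoeff A g ∈ unramField p) {χ : IrrCharacter G} (hχ : χ ∈ A) :
    ∃ (d : ℕ) (ρ : G →* Matrix (Fin d) (Fin d) (WittRing p)) (n : IrrCharacter G → ℕ),
      (∀ φ, φ ∉ A → n φ = 0) ∧ 0 < n χ ∧
      (∀ g, toC p (ρ g).trace = ∑ φ : IrrCharacter G, (n φ : ℂ) * (φ : G → ℂ) g) ∧
      ∀ X : Matrix (Fin d) (Fin d) (WittRing p), X * X = X → (∀ g, ρ g * X = X * ρ g) →
        X = 0 ∨ X = 1 := by
  classical
  obtain ⟨d, R, hR, hidem⟩ := exists_minimal p χ
  let τ : G → ℂ := fun g => fieldToC p (R g).trace
  have hτ : IsCharacter G τ := by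
    have h := Induction.isCharacter_of_matrix ((fieldToC p).mapMatrix.toMonoidHom.comp R)
    convert h using 1
    funext g
    exact AddMonoidHom.map_trace (fieldToC p).toAddMonoidHom (R g)
  obtain ⟨n, hn, hτn⟩ := Clifford.exists_mult hτ
  have hnχ : 0 < n χ := Nat.pos_of_ne_zero fun h => hR (by rw [hn χ, h, Nat.cast_zero])
  -- the idempotent of the set acts on the representation
  choose c hc using fun g => hA g
  have hc' : ∀ g, fieldToC p (c g) = blockCoeff A g := hc
  let X : Matrix (Fin d) (Fin d) (WittField p) := ∑ g, c g • R g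
  let Φ : MonoidAlgebra ℂ G →ₐ[ℂ] Matrix (Fin d) (Fin d) ℂ :=
    MonoidAlgebra.lift ℂ (Matrix (Fin d) (Fin d) ℂ) G ((fieldToC p).mapMatrix.toMonoidHom.comp R)
  have hXΦ : (fieldToC p).mapMatrix X = Φ (Blocks.blockIdem A) := by
    rw [show Blocks.blockIdem A = ∑ g, MonoidAlgebra.single g (blockCoeff A g) by
      ext g; simp [Finsupp.single_apply], map_sum, map_sum]
    refine Finset.sum_congr rfl fun g _ => ?_
    rw [MonoidAlgebra.lift_single, ← hc' g]
    ext i j
    simp [X]
  have hinj : Function.Injective ((fieldToC p).mapMatrix (m := Fin d)) :=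
    Matrix.map_injective (fieldToC p).injective
  have hXX : X * X = X := hinj (by
    rw [map_mul, hXΦ, ← map_mul, (Blocks.isIdempotentElem_blockIdem A).eq])
  have hXc : ∀ h, R h * X = X * R h := fun h => by
    simp only [X, Finset.mul_sum, Finset.sum_mul, mul_smul_comm, smul_mul_assoc, ← map_mul]
    refine Fintype.sum_equiv (MulAut.conj h).toEquiv _ _ fun g => ?_
    have e1 : c (h * g * h⁻¹) = c g := (fieldToC p).injective (by
      rw [hc', hc', Blocks.blockCoeff_conj])
    show c g • R (h * g) = c (h * g * h⁻¹) • R (h * g * h⁻¹ * h)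
    rw [e1, inv_mul_cancel_right]
  have htrX : fieldToC p X.trace =
      ∑ φ ∈ Finset.univ.filter (· ∈ A), (n φ : ℂ) * (φ : G → ℂ) 1 := by
    have h1 : fieldToC p X.trace = ∑ k : G, blockCoeff A k * τ (k * 1) := by
      simp only [X, Matrix.trace_sum, Matrix.trace_smul, map_sum, smul_eq_mul, map_mul, hc', τ,
        mul_one]
    rw [h1, Blocks.sum_blockCoeff_mul_eq_blockPart A (Characters.isClassFunction_of_isCharacter hτ),
      Blocks.blockPart_eq_sum]
    exact Finset.sum_congr rfl fun φ _ => by rw [hn]
  have htr1 : fieldToC p (R 1).trace = ∑ φ : IrrCharacter G, (n φ : ℂ) * (φ : G → ℂ) 1 := by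
    have := congrFun hτn 1
    simpa [τ] using this
  have hdeg : ∀ φ : IrrCharacter G, ∃ m : ℕ, 0 < m ∧ (φ : G → ℂ) 1 = m := fun φ => by
    obtain ⟨m, hm⟩ := Characters.exists_degree (Characters.irr_isCharacter φ)
    exact ⟨m, Nat.pos_of_ne_zero fun h => Characters.irr_one_ne_zero φ (by rw [hm, h, Nat.cast_zero]), hm⟩
  choose m hm0 hm using hdeg
  simp only [hm, ← Nat.cast_mul, ← Nat.cast_sum] at htrX htr1
  have hX1 : X = 1 := by
    refine (hidem X hXX hXc).resolve_left fun h0 => ?_
    rw [h0, Matrix.trace_zero, map_zero] at htrX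
    have hz : ∑ φ ∈ Finset.univ.filter (· ∈ A), n φ * m φ = 0 := by exact_mod_cast htrX.symm
    have h := Finset.sum_eq_zero_iff.1 hz χ (Finset.mem_filter.2 ⟨Finset.mem_univ _, hχ⟩)
    exact (Nat.mul_pos hnχ (hm0 χ)).ne' h
  rw [hX1, ← map_one R, htr1] at htrX
  have hsum : ∑ φ : IrrCharacter G, n φ * m φ =
      ∑ φ ∈ Finset.univ.filter (· ∈ A), n φ * m φ := by exact_mod_cast htrX
  have hsupp : ∀ φ, φ ∉ A → n φ = 0 := fun φ hφ => by
    rw [← Finset.sum_filter_add_sum_filter_not Finset.univ (fun ψ => ψ ∈ A), add_eq_left,
      Finset.sum_eq_zero_iff] at hsum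
    exact (Nat.mul_eq_zero.1 (hsum φ (Finset.mem_filter.2 ⟨Finset.mem_univ _, hφ⟩))).resolve_right
      (hm0 φ).ne'
  obtain ⟨ρ, E, hρ⟩ := exists_integral_form p R
  refine ⟨d, ρ, n, hsupp, hnχ, fun g => ?_, fun Y hY hYc => ?_⟩
  · rw [toC_eq, (hρ g).2]
    have := congrFun hτn g
    simpa [τ] using this
  · set Y' := (algebraMap (WittRing p) (WittField p)).mapMatrix Y with hY'
    have hinj' : Function.Injective
        ((algebraMap (WittRing p) (WittField p)).mapMatrix (m := Fin d)) :=
      Matrix.map_injective (IsFractionRing.injective _ _)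
    have hEρ : ∀ g, (algebraMap (WittRing p) (WittField p)).mapMatrix (ρ g) = E (R g) :=
      fun g => (hρ g).1
    have h := hidem (E.symm Y') (by rw [← map_mul, hY', ← map_mul, hY]) fun g => E.injective (by
      rw [map_mul, map_mul, AlgEquiv.apply_symm_apply, ← hEρ, hY', ← map_mul, ← map_mul, hYc])
    rcases h with h | h
    · exact Or.inl (hinj' (by rw [map_zero, ← hY', ← E.apply_symm_apply Y', h, map_zero]))
    · exact Or.inr (hinj' (by rw [map_one, ← hY', ← E.apply_symm_apply Y', h, map_one]))

end CfsgLib.CyclicDefect
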