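import Cfsg.Agent.Lib.CyclicDefect.Witt
import Cfsg.Agent.Lib.Characters.Basic

/-!
# Schur's relations for matrix representations
-/

set_option autoImplicit false
set_option linter.style.haveILetI false
set_option linter.unusedSectionVars false

noncomputable section

namespace CfsgLib.CyclicDefect

open Cfsg Module Representation
open scoped ComplexConjugate

universe u

variable {H : Type u} [Group H] [Fintype H]

/-- Intertwiners between matrix representations with orthogonal characters vanish. -/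
theorem intertwiner_eq_zero {d m : ℕ} (R : H →* Matrix (Fin d) (Fin d) ℂ)
    (R' : H →* Matrix (Fin m) (Fin m) ℂ)
    (h : classInner (fun g => (R g).trace) (fun g => (R' g).trace) = 0)
    {X : Matrix (Fin d) (Fin m) ℂ} (hX : ∀ g, R g * X = X * R' g) : X = 0 := by
  let ρ : Representation ℂ H (Fin m → ℂ) :=
    (Matrix.toLinAlgEquiv' (R := ℂ)).toAlgHom.toRingHom.toMonoidHom.comp R'
  let σ : Representation ℂ H (Fin d → ℂ) :=
    (Matrix.toLinAlgEquiv' (R := ℂ)).toAlgHom.toRingHom.toMonoidHom.comp R
  have hρ : ρ.character = fun g => (R' g).trace := funext fun g => Matrix.trace_toLin'_eq (R' g)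
  have hσ : σ.character = fun g => (R g).trace := funext fun g => Matrix.trace_toLin'_eq (R g)
  rw [← hρ, ← hσ, Characters.classInner_char_eq_finrank, Nat.cast_eq_zero,
    Module.finrank_zero_iff] at h
  let f : IntertwiningMap ρ σ := ⟨Matrix.toLin' X, fun g => by
    show (Matrix.toLin' X).comp (Matrix.toLin' (R' g)) = (Matrix.toLin' (R g)).comp (Matrix.toLin' X)
    rw [← Matrix.toLin'_mul, ← Matrix.toLin'_mul, hX g]⟩
  have hf : f.toLinearMap = (0 : IntertwiningMap ρ σ).toLinearMap :=
    congrArg IntertwiningMap.toLinearMap (Subsingleton.elim f 0)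
  exact Matrix.toLin'.injective (hf.trans (map_zero (Matrix.toLin' (R := ℂ) (m := Fin d) (n := Fin m))).symm)

/-- Intertwiners of an irreducible matrix representation are scalar. -/
theorem intertwiner_scalar {d : ℕ} (R : H →* Matrix (Fin d) (Fin d) ℂ)
    (h : classInner (fun g => (R g).trace) (fun g => (R g).trace) = 1)
    {X : Matrix (Fin d) (Fin d) ℂ} (hX : ∀ g, R g * X = X * R g) : ∃ c : ℂ, X = c • 1 := by
  let σ : Representation ℂ H (Fin d → ℂ) :=
    (Matrix.toLinAlgEquiv' (R := ℂ)).toAlgHom.toRingHom.toMonoidHom.comp R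
  have hσ : σ.character = fun g => (R g).trace := funext fun g => Matrix.trace_toLin'_eq (R g)
  rw [← hσ, Characters.classInner_char_eq_finrank, Nat.cast_eq_one] at h
  let f : IntertwiningMap σ σ := ⟨Matrix.toLin' X, fun g => by
    show (Matrix.toLin' X).comp (Matrix.toLin' (R g)) = (Matrix.toLin' (R g)).comp (Matrix.toLin' X)
    rw [← Matrix.toLin'_mul, ← Matrix.toLin'_mul, hX g]⟩
  have hd : d ≠ 0 := by
    rintro rfl
    haveI : Subsingleton (IntertwiningMap σ σ) :=
      ⟨fun a b => IntertwiningMap.ext (LinearMap.ext fun v => Subsingleton.elim _ _)⟩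
    rw [Module.finrank_zero_of_subsingleton] at h
    omega
  have hid : (IntertwiningMap.id σ : IntertwiningMap σ σ) ≠ 0 := fun h0 => by
    have h1 := congrFun (DFunLike.congr_fun h0 (fun _ : Fin d => (1 : ℂ))) ⟨0, Nat.pos_of_ne_zero hd⟩
    exact one_ne_zero (α := ℂ) h1
  obtain ⟨c, hc⟩ := (finrank_eq_one_iff_of_nonzero' _ hid).1 h f
  refine ⟨c, Matrix.toLin'.injective ?_⟩
  rw [map_smul, Matrix.toLin'_one]
  exact (congrArg IntertwiningMap.toLinearMap hc).symm

omit [Fintype H] in
theorem sum_conj_intertwines [Fintype H] {d m : ℕ} (R : H →* Matrix (Fin d) (Fin d) ℂ)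
    (R' : H →* Matrix (Fin m) (Fin m) ℂ) (X : Matrix (Fin d) (Fin m) ℂ) (g : H) :
    R g * (∑ y, R y⁻¹ * X * R' y) = (∑ y, R y⁻¹ * X * R' y) * R' g := by
  rw [Matrix.mul_sum, Matrix.sum_mul]
  refine Fintype.sum_equiv (Equiv.mulRight g⁻¹) _ _ fun y => ?_
  simp only [Equiv.coe_mulRight, mul_inv_rev, inv_inv]
  rw [← Matrix.mul_assoc, ← Matrix.mul_assoc, ← map_mul, Matrix.mul_assoc (R (g * y⁻¹) * X),
    ← map_mul, inv_mul_cancel_right]

theorem sum_entries_apply {d m : ℕ} (R : H →* Matrix (Fin d) (Fin d) ℂ)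
    (R' : H →* Matrix (Fin m) (Fin m) ℂ) (a b : Fin d) (c e : Fin m) :
    ∑ y, R y⁻¹ a b * R' y c e = (∑ y, R y⁻¹ * Matrix.single b c (1 : ℂ) * R' y) a e := by
  rw [Matrix.sum_apply]
  refine Finset.sum_congr rfl fun y _ => ?_
  rw [Matrix.mul_apply, Finset.sum_eq_single c (fun j _ hj => ?_)
    fun h => absurd (Finset.mem_univ c) h, Matrix.mul_single_apply_same, mul_one]
  rw [Matrix.mul_single_apply_of_ne _ _ _ _ _ hj, zero_mul]

variable (p : ℕ) [hp : Fact p.Prime]

/-- The complex form of a representation over the unramified ring. -/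
def cx {d : ℕ} (R : H →* Matrix (Fin d) (Fin d) (WittRing p)) : H →* Matrix (Fin d) (Fin d) ℂ :=
  (toC p).mapMatrix.toMonoidHom.comp R

omit [Fintype H] in
theorem cx_trace {d : ℕ} (R : H →* Matrix (Fin d) (Fin d) (WittRing p)) (g : H) :
    (cx p R g).trace = toC p (R g).trace :=
  (AddMonoidHom.map_trace (toC p).toAddMonoidHom (R g)).symm

/-- Schur's relations for distinct characters. -/
theorem schur_zero {d m : ℕ} (R : H →* Matrix (Fin d) (Fin d) (WittRing p))
    (R' : H →* Matrix (Fin m) (Fin m) (WittRing p))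
    (h : classInner (fun g => toC p (R g).trace) (fun g => toC p (R' g).trace) = 0)
    (a b : Fin d) (c e : Fin m) : ∑ y, R y⁻¹ a b * R' y c e = 0 := by
  refine toC_injective p ?_
  rw [map_zero, map_sum]
  simp only [map_mul]
  show ∑ y, cx p R y⁻¹ a b * cx p R' y c e = 0
  rw [sum_entries_apply, intertwiner_eq_zero (cx p R) (cx p R') (by simpa only [cx_trace] using h)
    (sum_conj_intertwines _ _ _)]
  rfl

/-- Schur's relations for one irreducible character. -/
theorem schur_self {d : ℕ} (R : H →* Matrix (Fin d) (Fin d) (WittRing p))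
    (h : classInner (fun g => toC p (R g).trace) (fun g => toC p (R g).trace) = 1)
    (a b c e : Fin d) : (d : WittRing p) * ∑ y, R y⁻¹ a b * R y c e =
      if b = c ∧ a = e then (Nat.card H : WittRing p) else 0 := by
  refine toC_injective p ?_
  rw [map_mul, map_natCast, map_sum]
  simp only [map_mul, apply_ite (toC p), map_natCast, map_zero]
  show (d : ℂ) * ∑ y, cx p R y⁻¹ a b * cx p R y c e = _
  obtain ⟨z, hz⟩ := intertwiner_scalar (cx p R) (by simpa only [cx_trace] using h)
    (sum_conj_intertwines (cx p R) (cx p R) (Matrix.single b c 1))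
  have htr := congrArg Matrix.trace hz
  rw [Matrix.trace_sum, Matrix.trace_smul, Matrix.trace_one, Fintype.card_fin, smul_eq_mul] at htr
  have h1 : ∀ y : H, (cx p R y⁻¹ * Matrix.single b c 1 * cx p R y).trace =
      if b = c then 1 else 0 := fun y => by
    rw [Matrix.trace_mul_cycle, ← map_mul, mul_inv_cancel, map_one, Matrix.one_mul]
    split_ifs with hbc
    · subst hbc; rw [Matrix.trace_single_eq_same]
    · rw [Matrix.trace_single_eq_of_ne b c (1 : ℂ) hbc]
  rw [Finset.sum_congr rfl fun y _ => h1 y, Finset.sum_const, Finset.card_univ,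
    ← Nat.card_eq_fintype_card, nsmul_eq_mul] at htr
  rw [sum_entries_apply, hz, Matrix.smul_apply, Matrix.one_apply, smul_eq_mul]
  by_cases hae : a = e
  · rw [if_pos hae, mul_one, mul_comm, ← htr]
    by_cases hbc : b = c
    · rw [if_pos hbc, if_pos ⟨hbc, hae⟩, mul_one]
    · rw [if_neg hbc, if_neg fun h => hbc h.1, mul_zero]
  · rw [if_neg hae, mul_zero, mul_zero, if_neg fun h => hae h.2]

end CfsgLib.CyclicDefect
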