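import Cfsg.Agent.Lib.CyclicDefect.Schur
import Cfsg.Agent.Lib.CyclicDefect.Realize
import Cfsg.Agent.Lib.CyclicDefect.Local
import Cfsg.Agent.Lib.CyclicDefect.Bound
import Cfsg.Agent.Lib.CharCorr.Basic

/-!
# The bound for a character of the `p'`-part of the centraliser
-/

set_option autoImplicit false
set_option linter.style.haveILetI false
set_option linter.unusedSectionVars false

noncomputable section

namespace CfsgLib.CyclicDefect

open Cfsg Module
open scoped ComplexConjugate

universe u

variable {p : ℕ} [hp : Fact p.Prime] {G : Type u} [Group G] [Finite G]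

/-- Conjugation of the `p'`-part by an element of the normaliser. -/
def Loc.conjO (L : Loc p G) (n : L.N) : L.O ≃* L.O where
  toFun y := ⟨(n : G) * y * (n : G)⁻¹, L.conj_mem_O n.2 y.2⟩
  invFun y := ⟨(n : G)⁻¹ * y * n, by simpa using L.conj_mem_O (inv_mem n.2) y.2⟩
  left_inv y := Subtype.ext (by simp [mul_assoc])
  right_inv y := Subtype.ext (by simp [mul_assoc])
  map_mul' a b := Subtype.ext (by simp [mul_assoc])

/-- The stabiliser in the normaliser of a function on the `p'`-part. -/
def Loc.stab (L : Loc p G) (θ : L.O → ℂ) : Subgroup G where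
  carrier := {n | ∃ hn : n ∈ L.N, ∀ y, θ (L.conjO ⟨n, hn⟩ y) = θ y}
  mul_mem' := by
    rintro a b ⟨ha, ha'⟩ ⟨hb, hb'⟩
    refine ⟨mul_mem ha hb, fun y => ?_⟩
    rw [← hb' y, ← ha' (L.conjO ⟨b, hb⟩ y)]
    exact congrArg θ (Subtype.ext (by simp [Loc.conjO, mul_assoc]))
  one_mem' := ⟨one_mem _, fun y => congrArg θ (Subtype.ext (by simp [Loc.conjO]))⟩
  inv_mem' := by
    rintro a ⟨ha, ha'⟩
    refine ⟨inv_mem ha, fun y => ?_⟩
    rw [← ha' (L.conjO ⟨a⁻¹, inv_mem ha⟩ y)]
    exact congrArg θ (Subtype.ext (by simp [Loc.conjO, mul_assoc]))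

theorem Loc.stab_le (L : Loc p G) (θ : L.O → ℂ) : L.stab θ ≤ L.N := fun _ h => h.1

theorem Loc.stab_conj (L : Loc p G) {θ : L.O → ℂ} {n : G} (h : n ∈ L.stab θ) (hn : n ∈ L.N)
    (y : L.O) : θ (L.conjO ⟨n, hn⟩ y) = θ y := h.2 y

theorem Loc.x_mem_stab (L : Loc p G) (θ : L.O → ℂ) : L.x ∈ L.stab θ :=
  ⟨Subgroup.le_normalizer L.hxP, fun y => congrArg θ (Subtype.ext (by
    show L.x * (y : G) * L.x⁻¹ = y
    rw [← L.O_commute y.2, mul_inv_cancel_right]))⟩

variable (L : Loc p G)

/-- **The bound.** If a lattice without idempotent endomorphisms has constant projection `s` on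
the character `θ` along the section of the generator then `|s| ≤ 1`. -/
theorem Loc.abs_le_one [instO : Fintype L.O] (hodd : p ≠ 2) (θ : IrrCharacter L.O) {ι : Type*} [Fintype ι]
    [DecidableEq ι] (ρ : G →* Matrix ι ι (WittRing p))
    (hidem : ∀ X : Matrix ι ι (WittRing p), X * X = X → (∀ g, ρ g * X = X * ρ g) → X = 0 ∨ X = 1)
    (s : ℤ)
    (hs : ∀ i, 0 < i → i < p → ∑ y : L.O, conj ((θ : L.O → ℂ) y) *
      toC p (ρ (L.x ^ i * y)).trace = (Nat.card L.O : ℂ) * s) :
    |s| ≤ 1 := by
  classical
  obtain ⟨d, R, hR⟩ := exists_realization p L.not_dvd_card_O θ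
  have hirr : classInner (fun g => toC p (R g).trace) (fun g => toC p (R g).trace) = 1 := by
    rw [show (fun g => toC p (R g).trace) = (θ : L.O → ℂ) from funext hR]
    exact Characters.classInner_irr_self θ.2
  have hd0 : d ≠ 0 := by
    rintro rfl
    refine Characters.irr_one_ne_zero θ ?_
    rw [← hR]
    simp [Matrix.trace]
  let o : Fin d := ⟨0, Nat.pos_of_ne_zero hd0⟩
  -- the degree is prime to `p`
  have hd : ¬ p ∣ d := fun hdvd => by
    have h := schur_self p R hirr o o o o
    rw [if_pos ⟨rfl, rfl⟩] at h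
    obtain ⟨q, hq⟩ := hdvd
    refine L.not_dvd_card_O ?_
    have h1 : (p : WittRing p) ∣ (Nat.card L.O : WittRing p) :=
      ⟨(q : WittRing p) * ∑ y : L.O, R y⁻¹ o o * R y o o, by
        rw [← h, show (d : WittRing p) = p * q by rw [hq, Nat.cast_mul], mul_assoc]⟩
    have h2 := map_dvd (wittCoeff p).π h1
    rw [map_natCast, map_natCast, CharP.cast_eq_zero, zero_dvd_iff,
      CharP.cast_eq_zero_iff (ResField p) p] at h2
    exact h2
  have hOu : IsUnit ((Nat.card L.O : ℕ) : WittRing p) := (wittCoeff p).unit _ (by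
    rw [map_natCast, Ne, CharP.cast_eq_zero_iff (ResField p) p]
    exact L.not_dvd_card_O)
  obtain ⟨c₀, hc₀⟩ := hOu.exists_left_inv
  set κ : WittRing p := (d : WittRing p) * c₀ with hκ
  have hκO : κ * (Nat.card L.O : WittRing p) = (d : WittRing p) := by rw [hκ, mul_assoc, hc₀, mul_one]
  set F : Fin d → Fin d → Matrix ι ι (WittRing p) :=
    fun a b => κ • ∑ y : L.O, R y⁻¹ b a • ρ y with hF
  -- left and right multiplication by elements of the subgroup
  have hleft : ∀ (y : L.O) a b, ρ (y : G) * F a b = ∑ r, R y r a • F r b := by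
    intro y a b
    simp only [hF, mul_smul_comm, Finset.mul_sum, ← map_mul]
    simp only [smul_comm _ κ, Finset.smul_sum]
    rw [Finset.sum_comm]
    refine Fintype.sum_equiv (Equiv.mulLeft y) _ _ fun z => ?_
    simp only [Equiv.coe_mulLeft, smul_smul, ← Finset.sum_smul]
    rw [← Subgroup.coe_mul, ← Finset.mul_sum]
    congr 2
    rw [show z⁻¹ = (y * z)⁻¹ * y by group, map_mul, Matrix.mul_apply]
    exact Finset.sum_congr rfl fun r _ => mul_comm _ _
  have hmul : ∀ a b c e, F a b * F c e = if b = c then F a e else 0 := by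
    intro a b c e
    have h1 : F a b * F c e = κ • ∑ r, (∑ y : L.O, R y⁻¹ b a * R y r c) • F r e := by
      rw [show F a b = κ • ∑ y : L.O, R y⁻¹ b a • ρ y from rfl, smul_mul_assoc, Finset.sum_mul]
      congr 1
      simp only [smul_mul_assoc, hleft, Finset.smul_sum, smul_smul, Finset.sum_smul]
      rw [Finset.sum_comm]
    rw [h1, Finset.smul_sum]
    have h2 : ∀ r, κ * ∑ y : L.O, R y⁻¹ b a * R y r c = if a = r ∧ b = c then 1 else 0 := by
      intro r
      rw [hκ, mul_comm (d : WittRing p), mul_assoc, schur_self p R hirr, mul_ite, hc₀, mul_zero]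
    simp only [smul_smul, h2, ite_smul, one_smul, zero_smul]
    by_cases hbc : b = c
    · simp [hbc]
    · simp [hbc]
  have hFspan : ∀ a b, F a b ∈ Submodule.span (WittRing p) (ρ '' (L.O : Set G)) := fun a b => by
    simp only [hF]
    exact Submodule.smul_mem _ _ (Submodule.sum_mem _ fun y _ =>
      Submodule.smul_mem _ _ (Submodule.subset_span ⟨y, y.2, rfl⟩))
  have hcommA : ∀ {Z}, Z ∈ Submodule.span (WittRing p) (ρ '' (L.O : Set G)) →
      Z * ρ L.x = ρ L.x * Z := by
    intro Z hZ
    induction hZ using Submodule.span_induction with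
    | mem z hz =>
      obtain ⟨y, hy, rfl⟩ := hz
      rw [← map_mul, ← map_mul, L.O_commute hy]
    | zero => rw [zero_mul, mul_zero]
    | add a b _ _ ha hb => rw [add_mul, mul_add, ha, hb]
    | smul r a _ ha => rw [smul_mul_assoc, mul_smul_comm, ha]
  set e := ∑ a, F a a with he
  set S' := Submodule.span (WittRing p) (Set.range fun z : Fin d × Fin d => F z.1 z.2)
  have hleft' : ∀ y ∈ L.O, ∀ a b, ρ y * F a b ∈ S' := fun y hy a b => by
    rw [hleft ⟨y, hy⟩]
    exact Submodule.sum_mem _ fun r _ => Submodule.smul_mem _ _ (Submodule.subset_span ⟨(r, b), rfl⟩)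
  have hspan_e : ∀ {Z}, Z ∈ Submodule.span (WittRing p) (ρ '' (L.O : Set G)) → Z * e ∈ S' := by
    intro Z hZ
    induction hZ using Submodule.span_induction with
    | mem z hz =>
      obtain ⟨y, hy, rfl⟩ := hz
      rw [he, Finset.mul_sum]
      exact Submodule.sum_mem _ fun a _ => hleft' y hy a a
    | zero => rw [zero_mul]; exact Submodule.zero_mem _
    | add a b _ _ ha hb => rw [add_mul]; exact add_mem ha hb
    | smul r a _ ha => rw [smul_mul_assoc]; exact Submodule.smul_mem _ r ha
  -- conjugation by the normaliser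
  have hconjF : ∀ (n : L.N) a b, ρ (n : G) * F a b * ρ (n : G)⁻¹ =
      κ • ∑ w : L.O, R ((L.conjO n).symm w⁻¹) b a • ρ w := by
    intro n a b
    simp only [hF, mul_smul_comm, smul_mul_assoc, Finset.mul_sum, Finset.sum_mul, ← map_mul]
    congr 1
    refine Fintype.sum_equiv (L.conjO n).toEquiv _ _ fun y => ?_
    simp only [MulEquiv.toEquiv_eq_coe, EquivLike.coe_coe]
    rw [← map_inv (L.conjO n), MulEquiv.symm_apply_apply]
    rfl
  have hesum : e = κ • ∑ w : L.O, (R w⁻¹).trace • ρ w := by
    rw [he, hF, ← Finset.smul_sum]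
    congr 1
    rw [Finset.sum_comm]
    exact Finset.sum_congr rfl fun w _ => by rw [← Finset.sum_smul]; rfl
  set T := L.stab (θ : L.O → ℂ) with hT
  have hTe : ∀ n ∈ T, ρ n * e = e * ρ n := by
    intro n hn
    refine (conjBy_eq_iff ρ).1 ?_
    rw [conjBy, he, Finset.mul_sum, Finset.sum_mul]
    simp only [hconjF ⟨n, hn.1⟩]
    rw [← he, hesum, ← Finset.smul_sum]
    congr 1
    rw [Finset.sum_comm]
    refine Finset.sum_congr rfl fun w _ => ?_
    rw [← Finset.sum_smul]
    congr 1
    refine toC_injective p ?_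
    show toC p (R ((L.conjO ⟨n, hn.1⟩).symm w⁻¹)).trace = _
    rw [hR, hR, ← L.stab_conj hn hn.1, MulEquiv.apply_symm_apply]
  have hFe : ∀ a b, F a b * e = F a b := fun a b => by
    simp [he, Finset.mul_sum, hmul]
  obtain ⟨n₀, hn₀, hgen⟩ := L.exists_gen T (L.stab_le _) (L.x_mem_stab _)
  let S : Setup p G (WittRing p) ι :=
    { ρ := ρ
      P := L.P
      x := L.x
      hx := L.hx
      hxP := L.hxP
      hP := L.hP
      s := s
      hidem := hidem
      d := d
      F := F
      o := o
      hd := hd
      hmul := hmul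
      hFA := fun a b => hcommA (hFspan a b)
      htr := by
        intro i hi hip
        have hz : ρ (L.x ^ i) = ρ L.x ^ i := map_pow ρ _ _
        have hswap : ∀ a, (F a a * ρ (L.x ^ i)).trace = (F o o * ρ (L.x ^ i)).trace := by
          intro a
          calc (F a a * ρ (L.x ^ i)).trace = (F a o * F o a * ρ (L.x ^ i)).trace := by
                rw [hmul, if_pos rfl]
            _ = (F o a * (ρ (L.x ^ i) * F a o)).trace := by
                rw [mul_assoc, Matrix.trace_mul_comm, mul_assoc]
            _ = (F o o * ρ (L.x ^ i)).trace := by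
                rw [hz, ← ((show Commute (F a o) (ρ L.x) from hcommA (hFspan a o)).pow_right i).eq,
                  ← mul_assoc, hmul, if_pos rfl]
        refine mul_left_cancel₀ (Nat.cast_ne_zero.2 hd0 : (d : WittRing p) ≠ 0) (toC_injective p ?_)
        have h1 : (d : WittRing p) * (F o o * ρ (L.x ^ i)).trace = (e * ρ (L.x ^ i)).trace := by
          rw [he, Finset.sum_mul, Matrix.trace_sum, Finset.sum_congr rfl fun a _ => hswap a,
            Finset.sum_const, Finset.card_univ, Fintype.card_fin, nsmul_eq_mul]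
        rw [h1, hesum, smul_mul_assoc, Matrix.trace_smul, Finset.sum_mul, Matrix.trace_sum,
          smul_eq_mul, map_mul, map_sum]
        have h2 : ∀ y : L.O, toC p (((R y⁻¹).trace • ρ y) * ρ (L.x ^ i)).trace =
            conj ((θ : L.O → ℂ) y) * toC p (ρ (L.x ^ i * y)).trace := fun y => by
          rw [smul_mul_assoc, Matrix.trace_smul, smul_eq_mul, map_mul, hR, Characters.irr_apply_inv,
            ← map_mul ρ, ((show Commute (y : G) L.x from L.O_commute y.2).pow_right i).eq]
        rw [Finset.sum_congr rfl fun y _ => h2 y, hs i hi hip, ← map_natCast (toC p) (Nat.card L.O),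
          ← mul_assoc, ← map_mul, hκO, map_mul, map_intCast]
      Oc := L.O
      hOc := L.not_dvd_card_O
      hOcC := fun y hy => L.O_commute hy
      hcoef := hFspan o o
      hleft := fun y hy => hleft' y hy o o
      hsum := by
        intro inst
        obtain rfl : inst = instO := Subsingleton.elim _ _
        have h1 : ∀ y : L.O, ρ y * F o o * ρ ((y : G)⁻¹) =
            ∑ r, ∑ t, (R y r o * R y⁻¹ o t) • F r t := by
          intro y
          have hright : ∀ r, F r o * ρ ((y : G)⁻¹) = ∑ t, R y⁻¹ o t • F r t := by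
            intro r
            simp only [hF, smul_mul_assoc, Finset.sum_mul, ← map_mul]
            simp only [smul_comm _ κ, Finset.smul_sum]
            rw [Finset.sum_comm]
            refine Fintype.sum_equiv (Equiv.mulRight y⁻¹) _ _ fun z => ?_
            simp only [Equiv.coe_mulRight, smul_smul, ← Finset.sum_smul]
            rw [← Subgroup.coe_inv, ← Subgroup.coe_mul, ← Finset.mul_sum]
            congr 2
            rw [show z⁻¹ = y⁻¹ * (z * y⁻¹)⁻¹ by group, map_mul, Matrix.mul_apply]
          simp only [hleft, Finset.sum_mul, smul_mul_assoc, hright, Finset.smul_sum, smul_smul]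
        rw [Finset.sum_congr rfl fun y _ => h1 y, Finset.sum_comm, Finset.smul_sum, Finset.smul_sum]
        refine Finset.sum_congr rfl fun r _ => ?_
        rw [Finset.sum_comm, Finset.smul_sum, Finset.sum_eq_single r]
        · rw [← Finset.sum_smul, smul_smul]
          congr 1
          simp only [mul_comm (R _ r o)]
          rw [schur_self p R hirr, if_pos ⟨rfl, rfl⟩]
        · intro t _ ht
          rw [← Finset.sum_smul, smul_smul]
          simp only [mul_comm (R _ r o)]
          rw [schur_self p R hirr, if_neg fun h => ht h.1, zero_smul]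
        · exact fun h => absurd (Finset.mem_univ _) h
      T := T
      hTN := L.stab_le _
      hxT := L.x_mem_stab _
      n₀ := n₀
      hn₀ := hn₀
      hgen := hgen
      hconj := by
        intro n hn a b
        have h1 : ρ n⁻¹ * F a b * ρ n = ρ n⁻¹ * F a b * ρ n * e := by
          conv_rhs => rw [mul_assoc (ρ n⁻¹ * F a b), hTe n hn, ← mul_assoc, mul_assoc (ρ n⁻¹) (F a b) e, hFe]
        rw [h1]
        refine hspan_e ?_
        have h2 := hconjF ⟨n⁻¹, inv_mem hn.1⟩ a b
        simp only [inv_inv] at h2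
        rw [h2]
        exact Submodule.smul_mem _ _ (Submodule.sum_mem _ fun w _ =>
          Submodule.smul_mem _ _ (Submodule.subset_span ⟨w, w.2, rfl⟩))
      hTe := fun n hn => hTe n hn
      hout := by
        intro n hn hnT a b
        let R' : L.O →* Matrix (Fin d) (Fin d) (WittRing p) :=
          R.comp (L.conjO ⟨n, hn⟩).symm.toMonoidHom
        have hzero : classInner (fun g => toC p (R' g).trace) (fun g => toC p (R g).trace) = 0 := by
          rw [show (fun g => toC p (R g).trace) = (θ : L.O → ℂ) from funext hR,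
            show (fun g => toC p (R' g).trace) =
              fun g => (θ : L.O → ℂ) ((L.conjO ⟨n, hn⟩).symm g) from funext fun g => hR _]
          refine Characters.classInner_irr_ne
            (CharCorr.isIrrCharacter_comp_equiv θ.2 (L.conjO ⟨n, hn⟩).symm) θ.2
            fun h => hnT ⟨hn, fun y => ?_⟩
          have h1 := congrFun h (L.conjO ⟨n, hn⟩ y)
          rw [MulEquiv.symm_apply_apply] at h1
          exact h1.symm
        have h1 : F o o * ρ n * F a b = F o o * (ρ n * F a b * ρ n⁻¹) * ρ n := by
          simp only [mul_assoc]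
          rw [← map_mul, inv_mul_cancel, map_one, mul_one]
        have hright : ∀ w : L.O, F o o * ρ (w : G) = ∑ t, R w o t • F o t := by
          intro w
          simp only [hF, smul_mul_assoc, Finset.sum_mul, ← map_mul]
          simp only [smul_comm _ κ, Finset.smul_sum]
          rw [Finset.sum_comm]
          refine Fintype.sum_equiv (Equiv.mulRight w) _ _ fun z => ?_
          simp only [Equiv.coe_mulRight, smul_smul, ← Finset.sum_smul]
          rw [← Subgroup.coe_mul, ← Finset.mul_sum]
          congr 2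
          rw [show z⁻¹ = w * (z * w)⁻¹ by group, map_mul, Matrix.mul_apply]
        rw [h1, hconjF ⟨n, hn⟩, mul_smul_comm, Finset.mul_sum]
        simp only [mul_smul_comm, hright, Finset.smul_sum, smul_smul]
        rw [Finset.sum_comm]
        simp only [← Finset.sum_smul, mul_assoc, ← Finset.mul_sum]
        have h0 : ∀ t, ∑ w : L.O, R ((L.conjO ⟨n, hn⟩).symm w)⁻¹ b a * R w o t = 0 := fun t => by
          simp only [← map_inv (L.conjO ⟨n, hn⟩).symm]
          exact schur_zero p R' R hzero b a o t
        simp [h0] }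
  exact S.abs_le_one (wittCoeff p) hodd

end CfsgLib.CyclicDefect
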