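import Cfsg.Agent.Lib.CyclicDefect.Isometry
import Cfsg.Agent.Lib.CyclicDefect.Units
import Cfsg.Agent.Lib.Characters.Values

/-!
# The values of the characters of an induced block and the bound on their coefficients
-/

set_option autoImplicit false
set_option linter.style.haveILetI false
set_option linter.unusedSectionVars false

noncomputable section

namespace CfsgLib.CyclicDefect

open Cfsg CfsgLib.Characters
open scoped ComplexConjugate Classical

universe u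

variable {p : ℕ} [hp : Fact p.Prime] {G : Type u} [Group G] [Fintype G] (L : Loc p G)
  [Fintype L.C] [Fintype L.O] [Fintype L.Dual] {M : Ideal AlgInt}

theorem Loc.exists_mult (χ : IrrCharacter G) (lam : L.Dual) (φ : IrrCharacter L.O) :
    ∃ z : ℤ, L.coef (χ : G → ℂ) lam φ = z := by
  obtain ⟨n, hn⟩ := classInner_char_nat
    (Clifford.isCharacter_subtype (irr_isCharacter χ) L.C) (irr_isCharacter (L.xi lam φ))
  exact ⟨n, by rw [Loc.coef, hn, Int.cast_natCast]⟩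

/-- The multiplicity of a pair in the restriction of an irreducible character. -/
def Loc.mult (χ : IrrCharacter G) (lam : L.Dual) (φ : IrrCharacter L.O) : ℤ :=
  (L.exists_mult χ lam φ).choose

theorem Loc.coef_eq (χ : IrrCharacter G) (lam : L.Dual) (φ : IrrCharacter L.O) :
    L.coef (χ : G → ℂ) lam φ = L.mult χ lam φ := (L.exists_mult χ lam φ).choose_spec

theorem Loc.mult_conj (χ : IrrCharacter G) (n : L.N) (lam : L.Dual) (φ : IrrCharacter L.O) :
    L.mult χ (L.conjDual n lam) (L.conjIrr n φ) = L.mult χ lam φ := by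
  have h := L.coef_conj (irr_isClassFunction χ) n lam φ
  rw [L.coef_eq, L.coef_eq] at h
  exact_mod_cast h

theorem Loc.mult_rel {θ : IrrCharacter L.O} (χ : IrrCharacter G) {lam mu : L.Dual}
    (h : L.Rel θ lam mu) : L.mult χ lam θ = L.mult χ mu θ := by
  obtain ⟨n, hn, rfl⟩ := h
  conv_lhs => rw [← L.mem_stabN.1 hn]
  exact L.mult_conj χ n mu θ

theorem Loc.idx_nonempty (θ : IrrCharacter L.O) : Nonempty (L.Idx θ) := by
  rw [← Fintype.card_pos_iff]
  refine Nat.pos_of_ne_zero fun h => ?_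
  have h1 := L.eIdx_mul_card θ
  rw [h, mul_zero] at h1
  have := hp.out.two_le
  omega

/-- The base orbit. -/
def Loc.base (θ : IrrCharacter L.O) : L.Idx θ :=
  Classical.choice (L.idx_nonempty θ)

/-- The coefficient at the trivial linear character. -/
def Loc.eV (χ : IrrCharacter G) (θ : IrrCharacter L.O) : ℤ :=
  L.mult χ 1 θ - L.mult χ (L.rep θ (L.base θ)) θ

/-- The coefficient at a non-trivial linear character. -/
def Loc.tV (χ : IrrCharacter G) (θ : IrrCharacter L.O) (lam : L.Dual) : ℤ :=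
  L.mult χ lam θ - L.mult χ (L.rep θ (L.base θ)) θ

theorem Loc.tV_rel {θ : IrrCharacter L.O} (χ : IrrCharacter G) {lam mu : L.Dual}
    (h : L.Rel θ lam mu) : L.tV χ θ lam = L.tV χ θ mu := by
  rw [Loc.tV, Loc.tV, L.mult_rel χ h]

theorem Loc.tV_rep {θ : IrrCharacter L.O} (χ : IrrCharacter G) {lam : L.Dual} (h : lam ≠ 1) :
    L.tV χ θ lam = L.tV χ θ (L.rep θ (Quotient.mk (L.setoid θ) ⟨lam, h⟩)) :=
  (L.tV_rel χ (L.rep_rel h)).symm

theorem Loc.vanish_of_notMem (hM : IsPModular p M) {χ : IrrCharacter G} {θ : IrrCharacter L.O}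
    (h : χ ∉ L.indB hM θ) (lam : L.Dual) :
    L.eV χ θ = 0 ∧ L.tV χ θ lam = 0 := by
  have h1 := L.coef_const hM h 1 (L.rep θ (L.base θ))
  have h2 := L.coef_const hM h lam (L.rep θ (L.base θ))
  rw [L.coef_eq, L.coef_eq, Int.cast_inj] at h1 h2
  exact ⟨sub_eq_zero.2 h1, sub_eq_zero.2 h2⟩

theorem Loc.sum_dual_pow_eq_zero {i : ℕ} (hi : 0 < i) (hip : i < p) :
    ∑ lam : L.Dual, (lam ⟨L.x, L.hxP⟩ : ℂ) ^ i = 0 := by
  have h := Blocks.Homo949.sum_hom_eval L.comm ((⟨L.x, L.hxP⟩ : (L.P : Subgroup G)) ^ i)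
  rw [if_neg fun h1 => L.x_pow_ne hi hip (congrArg Subtype.val h1)] at h
  simpa only [map_pow, Units.val_pow_eq_pow_val] using h

theorem Loc.sum_dual_const {F : L.Dual → ℤ} (lam₀ : L.Dual)
    (hF : ∀ lam : L.Dual, lam ≠ 1 → F lam = F lam₀) {i : ℕ} (hi : 0 < i) (hip : i < p) :
    ∑ lam : L.Dual, (F lam : ℂ) * (lam ⟨L.x, L.hxP⟩ : ℂ) ^ i = ((F 1 - F lam₀ : ℤ) : ℂ) := by
  have h1 : ∀ lam : L.Dual, (F lam : ℂ) * (lam ⟨L.x, L.hxP⟩ : ℂ) ^ i =
      (F lam₀ : ℂ) * (lam ⟨L.x, L.hxP⟩ : ℂ) ^ i +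
        if lam = 1 then ((F 1 - F lam₀ : ℤ) : ℂ) else 0 := by
    intro lam
    by_cases h : lam = 1
    · subst h
      simp
    · rw [if_neg h, hF lam h, add_zero]
  rw [Finset.sum_congr rfl fun lam _ => h1 lam, Finset.sum_add_distrib, ← Finset.mul_sum,
    L.sum_dual_pow_eq_zero hi hip, mul_zero, zero_add, Finset.sum_ite_eq',
    if_pos (Finset.mem_univ _)]

theorem Loc.value_orbit (hM : IsPModular p M) {θ : IrrCharacter L.O} {χ : IrrCharacter G}
    (hχ : χ ∈ L.indB hM θ) {i : ℕ} (hi : 0 < i) (hip : i < p) (y : L.O) :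
    (χ : G → ℂ) (L.x ^ i * y) = ∑ φ ∈ Finset.univ.filter (fun φ => φ ∈ L.orbit θ),
      (∑ lam : L.Dual, (L.mult χ lam φ : ℂ) * (lam ⟨L.x, L.hxP⟩ : ℂ) ^ i) *
        (φ : L.O → ℂ) y := by
  rw [L.value (irr_isClassFunction χ), Finset.sum_filter]
  refine Finset.sum_congr rfl fun φ _ => ?_
  have e : ∑ lam : L.Dual, L.coef (χ : G → ℂ) lam φ *
      ((lam ⟨L.x, L.hxP⟩ : ℂ) ^ i * (φ : L.O → ℂ) y) =
      (∑ lam : L.Dual, (L.mult χ lam φ : ℂ) * (lam ⟨L.x, L.hxP⟩ : ℂ) ^ i) * (φ : L.O → ℂ) y := by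
    rw [Finset.sum_mul]
    exact Finset.sum_congr rfl fun lam _ => by rw [L.coef_eq, mul_assoc]
  rw [e]
  split_ifs with h
  · rfl
  · rw [L.sum_dual_const (F := fun lam => L.mult χ lam φ) 1 (fun lam _ => ?_) hi hip, sub_self,
      Int.cast_zero, zero_mul]
    have := L.coef_const_of_notMem_orbit hM hχ h lam 1
    rwa [L.coef_eq, L.coef_eq, Int.cast_inj] at this

theorem Loc.sum_dual_conj {θ φ : IrrCharacter L.O} (s : Finset (IrrCharacter G))
    (n : IrrCharacter G → ℤ) (hφ : φ ∈ L.orbit θ)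
    (htame : ∀ lam : L.Dual, lam ≠ 1 → ∑ χ ∈ s, n χ * L.tV χ θ lam = 0) {i : ℕ} (hi : 0 < i)
    (hip : i < p) :
    ∑ lam : L.Dual, ((∑ χ ∈ s, n χ * L.mult χ lam φ : ℤ) : ℂ) * (lam ⟨L.x, L.hxP⟩ : ℂ) ^ i =
      ((∑ χ ∈ s, n χ * L.eV χ θ : ℤ) : ℂ) := by
  obtain ⟨m, rfl⟩ := L.mem_orbit_iff.1 hφ
  rw [← (L.conjDual_bijective m).sum_comp]
  simp only [L.mult_conj]
  have hconst : ∀ lam : L.Dual, lam ≠ 1 → ∑ χ ∈ s, n χ * L.mult χ lam θ =
      ∑ χ ∈ s, n χ * L.mult χ (L.rep θ (L.base θ)) θ := by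
    intro lam hlam
    rw [← sub_eq_zero, ← Finset.sum_sub_distrib, ← htame lam hlam]
    exact Finset.sum_congr rfl fun χ _ => by rw [Loc.tV, mul_sub]
  have h1 : ∀ lam : L.Dual, (L.conjDual m lam) ⟨L.x, L.hxP⟩ = lam (L.autP m ⟨L.x, L.hxP⟩) :=
    fun _ => rfl
  obtain ⟨j, hj⟩ := mem_powers_iff_mem_zpowers.2
    (show (L.autP m ⟨L.x, L.hxP⟩ : G) ∈ Subgroup.zpowers L.x by
      rw [L.zpowers]; exact SetLike.coe_mem _)
  have hz : L.autP m ⟨L.x, L.hxP⟩ ^ i = (⟨L.x, L.hxP⟩ : (L.P : Subgroup G)) ^ (j * i % p) := by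
    refine Subtype.ext ?_
    rw [Subgroup.coe_pow, Subgroup.coe_pow, ← hj, ← pow_mul]
    conv_lhs => rw [← Nat.div_add_mod (j * i) p, pow_add, pow_mul, L.x_pow_p, one_pow, one_mul]
  have hne : j * i % p ≠ 0 := by
    intro h0
    rw [h0, pow_zero, ← map_pow] at hz
    exact L.x_pow_ne hi hip (congrArg Subtype.val
      ((L.autP m).injective (hz.trans (map_one _).symm)))
  have h2 : ∀ lam : L.Dual, ((L.conjDual m lam) ⟨L.x, L.hxP⟩ : ℂ) ^ i =
      (lam ⟨L.x, L.hxP⟩ : ℂ) ^ (j * i % p) := fun lam => by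
    rw [h1, ← Units.val_pow_eq_pow_val, ← map_pow, hz, map_pow, Units.val_pow_eq_pow_val]
  simp only [h2]
  rw [L.sum_dual_const (F := fun lam => ∑ χ ∈ s, n χ * L.mult χ lam θ) _ hconst
    (Nat.pos_of_ne_zero hne) (Nat.mod_lt _ hp.out.pos), ← Finset.sum_sub_distrib]
  congr 1
  exact Finset.sum_congr rfl fun χ _ => by rw [Loc.eV, mul_sub]

theorem Loc.irr_mem_unram {H : Type*} [Group H] [Finite H] (χ : IrrCharacter H) {h : H}
    (hh : ¬ p ∣ orderOf h) : (χ : H → ℂ) h ∈ unramField p := by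
  obtain ⟨n, ρ, hρ⟩ := irr_isCharacter χ
  obtain ⟨ω, hω, -, hsum⟩ := exists_eigenvalues ρ h
  rw [← hρ, hsum]
  exact sum_mem fun i _ => root_mem p hh (hω i)

theorem Loc.exists_conj_mem_C {g : G} (hg : p ∣ orderOf g) : ∃ c : G, c * g * c⁻¹ ∈ L.C := by
  have hg0 : orderOf g / p ≠ 0 := (Nat.div_pos (Nat.le_of_dvd (orderOf_pos g) hg) hp.out.pos).ne'
  have hz : orderOf (g ^ (orderOf g / p)) = p := by
    rw [orderOf_pow_of_dvd hg0 (Nat.div_dvd_of_dvd hg)]
    exact Nat.div_div_self hg (orderOf_pos g).ne'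
  have hZ : IsPGroup p (Subgroup.zpowers (g ^ (orderOf g / p))) :=
    IsPGroup.of_card (n := 1) (by rw [Nat.card_zpowers, hz, pow_one])
  obtain ⟨Q, hQ⟩ := hZ.exists_le_sylow
  obtain ⟨c, hc⟩ := MulAction.exists_smul_eq G Q L.P
  refine ⟨c, L.mem_C_iff.2 ?_⟩
  have h1 : c * g ^ (orderOf g / p) * c⁻¹ ∈ (L.P : Subgroup G) := by
    rw [← hc, Sylow.coe_subgroup_smul]
    exact Subgroup.smul_mem_pointwise_smul _ (MulAut.conj c) _ (hQ (Subgroup.mem_zpowers _))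
  have h2 : orderOf (c * g ^ (orderOf g / p) * c⁻¹) = p := by
    rw [← MulAut.conj_apply, MulEquiv.orderOf_eq, hz]
  have h3 : Subgroup.zpowers (c * g ^ (orderOf g / p) * c⁻¹) = (L.P : Subgroup G) :=
    zpowers_eq L.P h2 h1 L.hP
  obtain ⟨k, hk⟩ := Subgroup.mem_zpowers_iff.1 (h3.ge L.hxP)
  rw [← hk, ← MulAut.conj_apply, ← MulAut.conj_apply, ← map_zpow, ← map_mul, ← map_mul]
  congr 1
  exact (((Commute.refl g).pow_right _).zpow_right k).eq

/-- Sums of block characters without exceptional part take unramified values. -/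
theorem Loc.sum_values_mem (hM : IsPModular p M) {θ : IrrCharacter L.O}
    (s : Finset (IrrCharacter G)) (hs : ∀ χ ∈ s, χ ∈ L.indB hM θ)
    (htame : ∀ lam : L.Dual, lam ≠ 1 → ∑ χ ∈ s, L.tV χ θ lam = 0) (g : G) :
    ∑ χ ∈ s, (χ : G → ℂ) g ∈ unramField p := by
  by_cases hg : p ∣ orderOf g
  · obtain ⟨c, hc⟩ := L.exists_conj_mem_C hg
    obtain ⟨i, hip, y, hy⟩ := L.exists_el ⟨_, hc⟩
    have hy' : c * g * c⁻¹ = L.x ^ i * y := congrArg Subtype.val hy
    have hval : ∀ χ : IrrCharacter G, (χ : G → ℂ) g = (χ : G → ℂ) (L.x ^ i * y) := fun χ => by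
      rw [← hy', irr_isClassFunction χ g c]
    have hi : i ≠ 0 := by
      refine (L.regular_iff hip y.2).1 ?_
      rw [← hy', ← MulAut.conj_apply, MulEquiv.orderOf_eq]
      exact hg
    rw [Finset.sum_congr rfl fun χ hχ =>
      (hval χ).trans (L.value_orbit hM (hs χ hχ) (Nat.pos_of_ne_zero hi) hip y), Finset.sum_comm]
    refine sum_mem fun φ hφ => ?_
    rw [← Finset.sum_mul]
    refine mul_mem ?_ (Loc.irr_mem_unram φ fun hd => ?_)
    · rw [Finset.sum_comm]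
      have h := L.sum_dual_conj s (fun _ => 1) (Finset.mem_filter.1 hφ).2
        (by simpa only [one_mul] using htame) (Nat.pos_of_ne_zero hi) hip
      simp only [one_mul, Int.cast_sum] at h
      simp only [← Finset.sum_mul, h]
      exact sum_mem fun χ _ => intCast_mem _ _
    · rw [← Subgroup.orderOf_coe] at hd
      exact (L.mem_O.1 y.2).2 hd
  · exact sum_mem fun χ _ => Loc.irr_mem_unram χ hg

/-- A member of the induced block is not constant on the pairs at its character. -/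
theorem Loc.exists_nonconst (hM : IsPModular p M) {θ : IrrCharacter L.O} {χ : IrrCharacter G}
    (hχ : χ ∈ L.indB hM θ) : L.eV χ θ ≠ 0 ∨ ∃ lam : L.Dual, lam ≠ 1 ∧ L.tV χ θ lam ≠ 0 := by
  by_contra! h
  obtain ⟨he, ht⟩ := h
  have hp2 := hp.out.two_le
  have hx0 : (χ : G → ℂ) L.x = 0 := by
    have h1 := L.value_orbit hM hχ one_pos hp.out.one_lt (1 : L.O)
    rw [pow_one, OneMemClass.coe_one, mul_one] at h1
    rw [h1]
    refine Finset.sum_eq_zero fun φ hφ => ?_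
    have h2 := L.sum_dual_conj {χ} (fun _ => 1) (Finset.mem_filter.1 hφ).2
      (fun lam hlam => by simpa using ht lam hlam) one_pos hp.out.one_lt
    simp only [Finset.sum_singleton, one_mul, he, Int.cast_zero] at h2
    rw [h2, zero_mul]
  have h3 := (L.indB_spec hM θ).2.2 (L.xi 1 θ) (L.xi_mem_blk hM 1 θ) χ hχ L.x
  rw [centralChar, hx0, mul_zero, zero_div, sub_zero, inducedCentralChar,
    finsum_mem_eq_toFinset_sum] at h3
  -- the members are powers of the generator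
  have hmem : ∀ c ∈ ({c : L.C | IsConj L.x (c : G)}).toFinset,
      ∃ j, 0 < j ∧ j < p ∧ c = L.el j 1 := by
    intro c hc
    rw [Set.mem_toFinset, Set.mem_ofPred_eq] at hc
    obtain ⟨g, hg⟩ := isConj_iff.1 hc
    have hgN : g ∈ L.N := L.fusion L.x_mem_C (dvd_of_eq L.hx.symm) (by rw [hg]; exact c.2)
    have hcP : (c : G) ∈ Subgroup.zpowers L.x := by
      rw [L.zpowers, ← hg]
      exact (Subgroup.mem_normalizer_iff.1 hgN L.x).1 L.hxP
    obtain ⟨j, hj⟩ := mem_powers_iff_mem_zpowers.2 hcP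
    have hj : L.x ^ j = (c : G) := hj
    have hj' : L.x ^ (j % p) = (c : G) := by
      rw [← hj]
      conv_rhs => rw [← Nat.div_add_mod j p, pow_add, pow_mul, L.x_pow_p, one_pow, one_mul]
    refine ⟨j % p, Nat.pos_of_ne_zero fun h0 => ?_, Nat.mod_lt _ hp.out.pos,
      Subtype.ext (by simp [Loc.el, hj'])⟩
    rw [h0, pow_zero, ← hg, eq_comm, conj_eq_one_iff] at hj'
    exact hp.out.ne_one (by rw [← L.hx, hj', orderOf_one])
  have h1el : (1 : L.C) = L.el 0 1 := Subtype.ext (by simp [Loc.el])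
  have hterm : ∀ c ∈ ({c : L.C | IsConj L.x (c : G)}).toFinset,
      (L.xi 1 θ : L.C → ℂ) c / (L.xi 1 θ : L.C → ℂ) 1 = 1 := by
    intro c hc
    obtain ⟨j, -, -, rfl⟩ := hmem c hc
    rw [h1el, L.xi_el, L.xi_el, MonoidHom.one_apply, Units.val_one, one_pow, one_pow, one_mul,
      div_self (irr_one_ne_zero θ)]
  rw [Finset.sum_congr rfl hterm, Finset.sum_const, nsmul_one,
    Blocks.memLocalIdeal_natCast_iff hM] at h3
  have hcard : ({c : L.C | IsConj L.x (c : G)}).toFinset.card ≤ p - 1 := by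
    refine (Finset.card_le_card (t := (Finset.Ico 1 p).image fun j => L.el j 1) fun c hc => ?_).trans
      (Finset.card_image_le.trans (by rw [Nat.card_Ico]))
    obtain ⟨j, hj0, hjp, rfl⟩ := hmem c hc
    exact Finset.mem_image.2 ⟨j, Finset.mem_Ico.2 ⟨hj0, hjp⟩, rfl⟩
  have hpos : 0 < ({c : L.C | IsConj L.x (c : G)}).toFinset.card :=
    Finset.card_pos.2 ⟨⟨L.x, L.x_mem_C⟩, by
      rw [Set.mem_toFinset, Set.mem_ofPred_eq]⟩
  have := Nat.le_of_dvd hpos h3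
  omega

/-- An unramified combination of the values at the generator is rational. -/
theorem Loc.coeff_dual (F : L.Dual → ℤ)
    (hF : ∑ lam : L.Dual, (F lam : ℂ) * (lam ⟨L.x, L.hxP⟩ : ℂ) ∈ unramField p)
    {lam mu : L.Dual} (hlam : lam ≠ 1) (hmu : mu ≠ 1) : F lam = F mu := by
  set ζ : ℂ := (lam ⟨L.x, L.hxP⟩ : ℂ) with hζdef
  have hext : ∀ a b : L.Dual, a ⟨L.x, L.hxP⟩ = b ⟨L.x, L.hxP⟩ → a = b := by
    intro a b h
    refine MonoidHom.ext fun z => ?_
    have hz' : (z : G) ∈ Subgroup.zpowers L.x := by rw [L.zpowers]; exact z.2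
    obtain ⟨i, hi⟩ := mem_powers_iff_mem_zpowers.2 hz'
    rw [show z = (⟨L.x, L.hxP⟩ : (L.P : Subgroup G)) ^ i from Subtype.ext hi.symm, map_pow, map_pow, h]
  have hζp : ζ ^ p = 1 := by
    rw [hζdef, ← Units.val_pow_eq_pow_val, ← map_pow,
      show (⟨L.x, L.hxP⟩ : (L.P : Subgroup G)) ^ p = 1 from Subtype.ext L.x_pow_p, map_one,
      Units.val_one]
  have hζ : IsPrimitiveRoot ζ p := by
    have hne : ζ ≠ 1 := fun h => hlam (hext lam 1 (Units.ext h))
    rw [← orderOf_eq_prime hζp hne]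
    exact IsPrimitiveRoot.orderOf ζ
  have hbij : Function.Bijective fun j : Fin p => lam ^ (j : ℕ) := by
    refine (Nat.bijective_iff_injective_and_card _).2 ⟨fun i j h => ?_, ?_⟩
    · refine Fin.ext (hζ.pow_inj i.2 j.2 ?_)
      have h' := congrArg (fun f : L.Dual => (f ⟨L.x, L.hxP⟩ : ℂ)) h
      simpa using h'
    · rw [Nat.card_eq_fintype_card, Fintype.card_fin, L.card_dual]
  rw [← hbij.sum_comp, Fin.sum_univ_eq_sum_range
    (fun j => (F (lam ^ j) : ℂ) * ((lam ^ j : L.Dual) ⟨L.x, L.hxP⟩ : ℂ)) p] at hF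
  simp only [MonoidHom.pow_apply, Units.val_pow_eq_pow_val, ← hζdef] at hF
  have h := coeff_eq_of_mem p hζ (fun j => F (lam ^ j)) hF
  obtain ⟨j, hj⟩ := hbij.2 mu
  have hj0 : (j : ℕ) ≠ 0 := fun h0 => hmu (by
    rw [← hj]
    exact MonoidHom.ext fun z => by simp [h0])
  have := h j (Nat.pos_of_ne_zero hj0) j.2
  rw [← hj]
  exact ((this.trans (congrArg F (MonoidHom.ext fun z => by simp))).symm : F lam = F (lam ^ (j : ℕ)))

/-- **The bound applied to a set of block characters with unramified idempotent.** -/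
theorem Loc.bound (hM : IsPModular p M) (hodd : p ≠ 2) {θ : IrrCharacter L.O}
    (s : Finset (IrrCharacter G)) (hs : ∀ χ ∈ s, χ ∈ L.indB hM θ)
    (htame : ∀ lam : L.Dual, lam ≠ 1 → ∑ χ ∈ s, L.tV χ θ lam = 0)
    (hdeg : ∀ χ ∈ s, ∀ ψ ∈ s, (χ : G → ℂ) 1 = (ψ : G → ℂ) 1) {χ₀ : IrrCharacter G} (h₀ : χ₀ ∈ s) :
    ∃ n : IrrCharacter G → ℕ, 0 < n χ₀ ∧
      (∀ lam : L.Dual, lam ≠ 1 → ∑ χ ∈ s, (n χ : ℤ) * L.tV χ θ lam = 0) ∧
      |∑ χ ∈ s, (n χ : ℤ) * L.eV χ θ| ≤ 1 := by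
  have hA : ∀ g, blockCoeff (↑s : Set (IrrCharacter G)) g ∈ unramField p := by
    intro g
    rw [Blocks.blockCoeff_eq_sum, Finset.sum_congr (s₂ := s) (by ext; simp) fun _ _ => rfl]
    refine mul_mem (inv_mem (natCast_mem _ _)) ?_
    obtain ⟨m, hm⟩ := exists_degree (irr_isCharacter χ₀)
    rw [Finset.sum_congr rfl fun χ hχ => by
      rw [hdeg χ hχ χ₀ h₀, hm, ← irr_apply_inv], ← Finset.mul_sum]
    exact mul_mem (natCast_mem _ _) (L.sum_values_mem hM s hs htame g⁻¹)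
  obtain ⟨d, ρ, n, hsupp, hn, htr, hidem⟩ :=
    exists_lattice p (↑s : Set (IrrCharacter G)) hA (χ := χ₀) h₀
  have htr' : ∀ g, toC p (ρ g).trace = ∑ χ ∈ s, (n χ : ℂ) * (χ : G → ℂ) g := fun g => by
    rw [htr]
    exact (Finset.sum_subset (Finset.subset_univ s) fun χ _ hχ => by
      rw [hsupp χ hχ, Nat.cast_zero, zero_mul]).symm
  have hproj : ∀ i, ∑ y : L.O, conj ((θ : L.O → ℂ) y) * toC p (ρ (L.x ^ i * y)).trace =
      (Nat.card L.O : ℂ) * ∑ lam : L.Dual, ((∑ χ ∈ s, (n χ : ℤ) * L.mult χ lam θ : ℤ) : ℂ) *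
        (lam ⟨L.x, L.hxP⟩ : ℂ) ^ i := by
    intro i
    simp only [htr', Finset.mul_sum]
    rw [Finset.sum_comm]
    have e : ∀ χ : IrrCharacter G, ∑ y : L.O, conj ((θ : L.O → ℂ) y) *
        ((n χ : ℂ) * (χ : G → ℂ) (L.x ^ i * y)) =
        (n χ : ℂ) * ((Nat.card L.O : ℂ) *
          ∑ lam : L.Dual, (L.mult χ lam θ : ℂ) * (lam ⟨L.x, L.hxP⟩ : ℂ) ^ i) := fun χ => by
      have h := L.proj (irr_isClassFunction χ) i θ
      simp only [L.coef_eq] at h
      rw [← h, Finset.mul_sum]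
      exact Finset.sum_congr rfl fun y _ => by ring
    rw [Finset.sum_congr rfl fun χ _ => e χ]
    simp only [Finset.mul_sum, Int.cast_sum, Int.cast_mul, Int.cast_natCast, Finset.sum_mul]
    rw [Finset.sum_comm]
    exact Finset.sum_congr rfl fun lam _ => Finset.sum_congr rfl fun χ _ => by ring
  have hO : (Nat.card L.O : ℂ) ≠ 0 := Nat.cast_ne_zero.2 Nat.card_pos.ne'
  have hF : ∑ lam : L.Dual, ((∑ χ ∈ s, (n χ : ℤ) * L.mult χ lam θ : ℤ) : ℂ) *
      (lam ⟨L.x, L.hxP⟩ : ℂ) ∈ unramField p := by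
    have h := hproj 1
    simp only [pow_one] at h
    rw [← mul_right_inj' (inv_ne_zero hO), inv_mul_cancel_left₀ hO] at h
    rw [← h]
    refine mul_mem (inv_mem (natCast_mem _ _)) (sum_mem fun y _ => mul_mem ?_ (toC_mem p _))
    rw [← irr_apply_inv]
    refine Loc.irr_mem_unram θ fun hd => ?_
    rw [orderOf_inv, ← Subgroup.orderOf_coe] at hd
    exact (L.mem_O.1 y.2).2 hd
  have hn0 : ∀ lam : L.Dual, lam ≠ 1 → ∑ χ ∈ s, (n χ : ℤ) * L.tV χ θ lam = 0 := by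
    intro lam hlam
    have h := L.coeff_dual (fun lam => ∑ χ ∈ s, (n χ : ℤ) * L.mult χ lam θ) hF hlam
      (L.rep_ne θ (L.base θ))
    simp only [Loc.tV, mul_sub, Finset.sum_sub_distrib]
    exact sub_eq_zero.2 h
  refine ⟨n, hn, hn0, L.abs_le_one hodd θ ρ hidem _ fun i hi hip => ?_⟩
  rw [hproj, L.sum_dual_conj s (fun χ => (n χ : ℤ)) (L.mem_orbit_self θ) hn0 hi hip]

end CfsgLib.CyclicDefect
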